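import Cfsg.Agent.Lib.Forms.Max.SympNine.Three

/-!
# Degree three: the centraliser of the inversion and the dichotomy
-/

set_option autoImplicit false
set_option linter.unusedSectionVars false
set_option linter.style.haveILetI false

namespace Cfsg.Agent.Forms.Max.SympNine.Three

open Matrix
open scoped MatrixGroups

variable {F : Type*} [Field F] [Fintype F] {A : Amb F} {ν : F}
variable {H : Subgroup (GL (ZMod 3) F)}

local notation "T3" => GL (ZMod 3) F
local notation "M3" => Matrix (ZMod 3) (ZMod 3) F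
local notation "L3" => ZMod 3 × ZMod 3

/-- plane elements seen on the fixed space of the inversion -/
noncomputable def Jp (A : Amb F) (H : Subgroup T3) (h2 : (2 : F) ≠ 0) {ν : F} (hν : ν ≠ 0) : Subgroup (PL A) :=
  finSub {Y | ∃ g ∈ H, ∃ β m : F,
      (g : M3) = cs ν (β • ((Y : SL(2, F)) : Matrix (Fin 2) (Fin 2) F)) m}
    ⟨1, one_mem H, 1, 1, by simp [cs_one h2]⟩
    (by
      rintro Y ⟨g, hg, β, m, e⟩ Y' ⟨g', hg', β', m', e'⟩
      exact ⟨g * g', mul_mem hg hg', β * β', m * m', by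
        rw [Units.val_mul, e, e', cs_mul h2 hν]; simp [smul_smul, mul_comm]⟩)

theorem zb_det (hc : Cube F A.ω) (ν : F) (hν : ν ≠ 0) :
    Matrix.det !![(2 * A.ω + 1)⁻¹, 2 * ν * (2 * A.ω + 1)⁻¹; (2 * A.ω + 1)⁻¹ / ν, -(2 * A.ω + 1)⁻¹] = 1 := by
  have hs := s_ne hc
  have h := s_sq hc
  rw [Matrix.det_fin_two_of]
  field_simp
  linear_combination -h

theorem dft_cs (hp : A.p ≠ 2) (hν : ν ≠ 0) :
    dft A.ω = cs ν !![(2 * A.ω + 1)⁻¹, 2 * ν * (2 * A.ω + 1)⁻¹; (2 * A.ω + 1)⁻¹ / ν, -(2 * A.ω + 1)⁻¹] 1 := by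
  have h2 := A.two_ne hp
  have hs := s_ne A.cube
  have hsum := A.cube.sum
  rw [dft, m3_smul]
  apply ext3 <;> simp [cs] <;> field_simp <;> grobner

theorem tm_cs (hp : A.p ≠ 2) :
    tm A.ω A.ω ((0, 1) : L3) = cs ν (A.ω ^ 2 • !![A.ω, 0; 0, A.ω ^ 2]) A.ω := by
  have h2 := A.two_ne hp
  have h3 := A.cube.pow_three
  rw [tm01 A.cube]
  apply ext3 <;> simp [cs] <;> field_simp <;> grobner

/-- the elements of the normaliser commuting with the inversion -/
structure Good (A : Amb F) (H : Subgroup T3) (ν : F) (l : SL(2, F)) (g : T3) : Prop where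
  mem : g ∈ H
  comm : Commute g ju
  acts : ∃ σ : L3 → L3, Sym σ ∧ Acts A.ω (g : M3) σ
  shape : ∃ β m : F, (g : M3) = cs ν (β • (l : Matrix (Fin 2) (Fin 2) F)) m

theorem Good.mul (h2 : (2 : F) ≠ 0) (hν : ν ≠ 0) {l l' : SL(2, F)} {g g' : T3}
    (hg : Good A H ν l g) (hg' : Good A H ν l' g') : Good A H ν (l * l') (g * g') := by
  obtain ⟨σ, hσ, ha⟩ := hg.acts
  obtain ⟨σ', hσ', ha'⟩ := hg'.acts
  obtain ⟨β, m, e⟩ := hg.shape
  obtain ⟨β', m', e'⟩ := hg'.shape
  exact ⟨mul_mem hg.mem hg'.mem, hg.comm.mul_left hg'.comm,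
    ⟨σ ∘ σ', hσ.comp hσ', by rw [Units.val_mul]; exact ha.mul ha'⟩,
    β * β', m * m', by rw [Units.val_mul, e, e', cs_mul h2 hν]; simp [smul_smul, mul_comm]⟩

theorem good_one (h2 : (2 : F) ≠ 0) : Good A H ν 1 (1 : T3) :=
  ⟨one_mem H, Commute.one_left _, ⟨id, sym_id, by rw [Units.val_one]; exact acts_one⟩, 1, 1, by
    simp [cs_one h2]⟩

theorem sym_rot : Sym (fun v : L3 => (-v.2, v.1)) :=
  ⟨fun a b => by simp; ring, fun a b => by simp [sf, Dot.dot]; ring⟩

theorem commute_ju_of_cs (h2 : (2 : F) ≠ 0) (hν : ν ≠ 0) {g : T3} {Y : Matrix (Fin 2) (Fin 2) F} {m : F}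
    (e : (g : M3) = cs ν Y m) : Commute g ju := Units.ext (by
  show (g : M3) * jm = jm * (g : M3)
  rw [e, show (jm : M3) = cs ν 1 (-1) by rw [jm_eq]; apply ext3 <;> simp [cs] <;> field_simp <;> ring,
    cs_mul h2 hν, cs_mul h2 hν, Matrix.mul_one, Matrix.one_mul, mul_comm])

theorem good_tu (hp : A.p ≠ 2) (hν : ν ≠ 0) (hH : Rich A H) :
    Good A H ν (za A.cube) (tu A.cube ((0, 1) : L3)) :=
  ⟨hH.mem_tu _, commute_ju_of_cs (A.two_ne hp) hν (tm_cs hp), ⟨_, tvc_one (X := ZMod 3) (0, 1) ▸ sym_tvc 1 _, tm_wm A.cube _⟩,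
    A.ω ^ 2, A.ω, tm_cs hp⟩

theorem good_du (hp : A.p ≠ 2) (hν : ν ≠ 0) (hH : Rich A H) :
    Good A H ν ⟨_, zb_det A.cube ν hν⟩ (du A.cube) :=
  ⟨hH.mem_of_nrm du_mem (nrm_of_acts (dft_acts A.cube)), commute_ju_of_cs (A.two_ne hp) hν (dft_cs hp hν),
    ⟨_, sym_rot, dft_acts A.cube⟩, 1, 1, by rw [one_smul]; exact dft_cs hp hν⟩

theorem inv_shape (h2 : (2 : F) ≠ 0) (hν : ν ≠ 0) {g : T3} {Y : Matrix (Fin 2) (Fin 2) F} {m : F}
    (hc : Commute g ju) (e : (g : M3) = cs ν Y m) :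
    ∃ Y' m', ((g⁻¹ : T3) : M3) = cs ν Y' m' ∧ Y * Y' = 1 ∧ Y' * Y = 1 ∧ m * m' = 1 := by
  have hc' : ((g⁻¹ : T3) : M3) * jm = jm * ((g⁻¹ : T3) : M3) := congrArg Units.val hc.inv_left.eq
  have e' := eq_cs h2 hν hc'
  refine ⟨_, _, e', ?_⟩
  have h := Units.mul_inv g
  rw [e, e', cs_mul h2 hν, ← cs_one (ν := ν) h2] at h
  obtain ⟨h1, h1'⟩ := cs_inj h2 hν h
  exact ⟨h1, mul_eq_one_comm.1 h1, h1'⟩

/-- an element inverting the diagonal plane element gives the plane groups -/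
theorem planar_of_invert (hp : A.p ≠ 2) (hν : ν ≠ 0) (hH : Rich A H) {g : T3} (hg : g ∈ H)
    {W : Matrix (Fin 2) (Fin 2) F} {m : F} (e : (g : M3) = cs ν W m)
    (hW : W * !![A.ω, 0; 0, A.ω ^ 2] = !![A.ω ^ 2, 0; 0, A.ω] * W) : Planar A H := by
  have h2 := A.two_ne hp
  set tg := tu A.cube ((0, 1) : L3)
  have hx : ((g * tg * g⁻¹ : T3) : M3) = cs ν (A.ω ^ 2 • !![A.ω ^ 2, 0; 0, A.ω]) A.ω := by
    have key : ((g * tg : T3) : M3) = cs ν (A.ω ^ 2 • !![A.ω ^ 2, 0; 0, A.ω]) A.ω * (g : M3) := by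
      rw [Units.val_mul, e, tu_val, tm_cs (ν := ν) hp, cs_mul h2 hν, cs_mul h2 hν, Matrix.mul_smul, hW,
        Matrix.smul_mul, mul_comm m]
    rw [Units.val_mul, key, Matrix.mul_assoc, Units.mul_inv, Matrix.mul_one]
  refine planar_of_kap hp hH (g := g * tg * g⁻¹ * tg)
    (mul_mem (mul_mem (mul_mem hg (hH.mem_tu _)) (inv_mem hg)) (hH.mem_tu _)) (c := A.ω ^ 2) (lam := A.ω ^ 2) ?_
    (Or.inr (Or.inl rfl))
  rw [Units.val_mul, hx, tu_val, tm_cs (ν := ν) hp, cs_mul h2 hν, kap_eq_cs (ν := ν), cs_smul]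
  have h3 := A.cube.pow_three
  congr 1
  · ext i j
    fin_cases i <;> fin_cases j <;> simp [Matrix.mul_apply, Fin.sum_univ_two] <;> grobner
  · ring

theorem pres_conj (hp : A.p ≠ 2) (hν : ν ≠ 0) (hν' : A.unit → A.bar ν * ν * 2 = 1) (hH : Rich A H) {g : T3}
    (hg : g ∈ H) {W W' : Matrix (Fin 2) (Fin 2) F} {m : F} (e : (g : M3) = cs ν W m) (hWW : W' * W = 1)
    {x : T3} (hx : x ∈ H) {β μ : F} {Y : Matrix (Fin 2) (Fin 2) F} (hβ : A.Unim β)
    (ex : (x : M3) = cs ν (β • Y) μ) :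
    ((g * x * g⁻¹ : T3) : M3) = cs ν (β • (W * Y * W')) μ ∧ A.Pres (W * Y * W') := by
  have h2 := A.two_ne hp
  have key : ((g * x : T3) : M3) = cs ν (β • (W * Y * W')) μ * (g : M3) := by
    rw [Units.val_mul, e, ex, cs_mul h2 hν, cs_mul h2 hν, Matrix.mul_smul, Matrix.smul_mul,
      Matrix.mul_assoc (W * Y), hWW, Matrix.mul_one, mul_comm m]
  have he : ((g * x * g⁻¹ : T3) : M3) = cs ν (β • (W * Y * W')) μ := by
    rw [Units.val_mul, key, Matrix.mul_assoc, Units.mul_inv, Matrix.mul_one]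
  refine ⟨he, pres_of_smul hβ (pres_of_cs (m := μ) h2 hν hν' ?_).1⟩
  rw [← he]
  exact hH.le (mul_mem (mul_mem hg hx) (inv_mem hg))

theorem det_conj {W W' Y : Matrix (Fin 2) (Fin 2) F} (hWW : W' * W = 1) : (W * Y * W').det = Y.det := by
  rw [Matrix.det_mul, Matrix.det_mul, mul_right_comm, ← Matrix.det_mul, mul_eq_one_comm.1 hWW, Matrix.det_one, one_mul]

theorem trace_conj {W W' Y : Matrix (Fin 2) (Fin 2) F} (hWW : W' * W = 1) : (W * Y * W').trace = Y.trace := by
  rw [Matrix.trace_mul_comm, ← Matrix.mul_assoc, hWW, Matrix.one_mul]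

set_option maxHeartbeats 800000 in
/-- the centraliser of the inversion consists of normalising elements times kernel elements -/
theorem cent_structure (hp : A.p ≠ 2) (hH : Rich A H) (hnp : ¬ Planar A H) {g : T3} (hg : g ∈ H)
    (hc : Commute g ju) :
    ∃ l ∈ H, Commute l ju ∧ (∃ σ : L3 → L3, Sym σ ∧ Acts A.ω (l : M3) σ) ∧
      ∃ c lam : F, (g : M3) = c • ((l : M3) * kap lam) := by
  have h2 := A.two_ne hp
  obtain ⟨ν, hν, hν'⟩ := exists_nu A hp
  obtain ⟨K, _, _, hK, ⟨Φ⟩⟩ := exists_phi A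
  haveI := A.fact
  haveI := A.charP
  have gu := good_tu hp hν hH
  have gd := good_du hp hν hH
  set Za : SL(2, F) := za A.cube with hZa
  set Zb : SL(2, F) := ⟨_, zb_det A.cube ν hν⟩ with hZb
  have hPb : Zb ∈ PL A := (pres_of_cs h2 hν hν' (Y := (Zb : Matrix (Fin 2) (Fin 2) F)) (m := 1) (by
    rw [show cs ν (Zb : Matrix (Fin 2) (Fin 2) F) 1 = dft A.ω from (dft_cs hp hν).symm]
    exact du_mem)).1
  set a : PL A := ⟨Za, za_mem⟩
  set i : PL A := ⟨Zb, hPb⟩
  have ha : a ∈ Jp A H h2 hν := ⟨_, gu.mem, gu.shape⟩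
  have hi : i ∈ Jp A H h2 hν := ⟨_, gd.mem, gd.shape⟩
  let w : PL A := ⟨⟨!![0, 1; -1, 0], by simp [Matrix.det_fin_two]⟩, fun _ => by
    show ((!![0, 1; -1, 0] : Matrix (Fin 2) (Fin 2) F).map A.bar)ᵀ * !![0, 1; -1, 0] = 1
    ext i j; fin_cases i <;> fin_cases j <;>
      simp [Matrix.mul_apply, Fin.sum_univ_two]⟩
  have h3 := A.cube.pow_three
  have hw : w * a * w⁻¹ = a⁻¹ := by
    apply Subtype.ext
    apply Subtype.ext
    simp only [Subgroup.coe_mul, Subgroup.coe_inv, Matrix.SpecialLinearGroup.coe_mul,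
      Matrix.SpecialLinearGroup.coe_inv]
    ext i j
    fin_cases i <;> fin_cases j <;> simp [w, a, hZa, za, adjugate_fin_two, Matrix.mul_apply, Fin.sum_univ_two]
  have hta : (Za : Matrix (Fin 2) (Fin 2) F).trace = -1 := za_trace
  have hs := s_ne A.cube
  have hti : (Zb : Matrix (Fin 2) (Fin 2) F).trace = 0 := by simp [hZb, Matrix.trace_fin_two]
  have htai : ((Za * Zb : SL(2, F)) : Matrix (Fin 2) (Fin 2) F).trace = 1 := by
    rw [Matrix.SpecialLinearGroup.coe_mul]
    show Matrix.trace (!![A.ω, 0; 0, A.ω ^ 2] *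
      !![(2 * A.ω + 1)⁻¹, 2 * ν * (2 * A.ω + 1)⁻¹; (2 * A.ω + 1)⁻¹ / ν, -(2 * A.ω + 1)⁻¹]) = 1
    simp [Matrix.trace_fin_two, Matrix.mul_apply, Fin.sum_univ_two]
    linear_combination (mul_inv_cancel₀ hs) - (2 * A.ω + 1)⁻¹ * A.cube.sum
  have hsum := A.cube.sum
  rcases Plane.inverted_or_small (PL A) Φ hK hp A.ne_three neg_one_mem_PL ha hi hw hta hti htai with
    ⟨b, ⟨x, hx, β, m, ex⟩, hb⟩ | ⟨hsmall0, hsmall1⟩
  · refine absurd (planar_of_invert hp hν hH hx ex ?_) hnp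
    have hb' := congrArg (fun z : PL A => ((z : SL(2, F)) : Matrix (Fin 2) (Fin 2) F)) (mul_inv_eq_iff_eq_mul.1 hb)
    simp only [Subgroup.coe_mul, Subgroup.coe_inv, Matrix.SpecialLinearGroup.coe_mul,
      Matrix.SpecialLinearGroup.coe_inv] at hb'
    rw [Matrix.smul_mul, Matrix.mul_smul]
    congr 1
    rw [show ((a : SL(2, F)) : Matrix (Fin 2) (Fin 2) F) = !![A.ω, 0; 0, A.ω ^ 2] from rfl] at hb'
    rw [hb']
    simp [adjugate_fin_two]
  -- strip a normalising factor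
  have e := eq_cs h2 hν (congrArg Units.val hc.eq : (g : M3) * jm = jm * (g : M3))
  obtain ⟨W', m', einv, hWW', hW'W, -⟩ := inv_shape h2 hν hc e
  obtain ⟨etu, hPa⟩ := pres_conj hp hν hν' hH hg e hW'W gu.mem (A.unim_ω.mul A.unim_ω) (Y := (Za : Matrix (Fin 2) (Fin 2) F)) (μ := A.ω)
    (by rw [tu_val, tm_cs (ν := ν) hp, show A.ω * A.ω = A.ω ^ 2 from (pow_two _).symm]; rfl)
  set b : PL A := ⟨⟨_, (det_conj hW'W).trans (Za.2)⟩, hPa⟩ with hbdef
  have hb : b ∈ Jp A H h2 hν := ⟨_, mul_mem (mul_mem hg gu.mem) (inv_mem hg), _, _, etu⟩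
  obtain ⟨l, hl, hlb⟩ := hsmall1 b hb ((trace_conj hW'W).trans hta)
  have hainv : a⁻¹ = a * a := inv_eq_of_mul_eq_one_right (Subtype.ext (by
    have := Plane.cube_of_trace hta
    simp only [Subgroup.coe_mul, Subgroup.coe_one]
    rw [← this, pow_succ, pow_two, mul_assoc]))
  obtain ⟨gl, hgl⟩ : ∃ gl : T3, Good A H ν (l : SL(2, F)) gl := by
    rcases hl with rfl | rfl | rfl | rfl
    · exact ⟨1, good_one h2⟩
    · exact ⟨_, gd⟩
    · rw [hainv]; exact ⟨_, (gu.mul h2 hν gd).mul h2 hν (gu.mul h2 hν gu)⟩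
    · rw [hainv]; exact ⟨_, ((gu.mul h2 hν gu).mul h2 hν gd).mul h2 hν gu⟩
  obtain ⟨βl, ml, el⟩ := hgl.shape
  obtain ⟨L', ml', elinv, hLL', hL'L, -⟩ := inv_shape h2 hν hgl.comm el
  set g1 := gl⁻¹ * g with hg1
  have hg1H : g1 ∈ H := mul_mem (inv_mem hgl.mem) hg
  have hg1c : Commute g1 ju := hgl.comm.inv_left.mul_left hc
  set W := !![(g : M3) 0 0, 2 * ν * (g : M3) 0 1; (g : M3) 1 0 / ν, (g : M3) 1 1 + (g : M3) 1 2]
  have e1 : (g1 : M3) = cs ν (L' * W) (ml' * ((g : M3) 1 1 - (g : M3) 1 2)) := by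
    rw [Units.val_mul, elinv, ← cs_mul h2 hν, ← e]
  set W1 := L' * W with hW1
  have hzeq : ((Za : SL(2, F)) : Matrix (Fin 2) (Fin 2) F) = !![A.ω, 0; 0, A.ω ^ 2] := rfl
  -- the action of `W1` on the diagonal element
  have hcomm : W1 * !![A.ω, 0; 0, A.ω ^ 2] = !![A.ω, 0; 0, A.ω ^ 2] * W1 := by
    have hWb : W * !![A.ω, 0; 0, A.ω ^ 2] = ((b : SL(2, F)) : Matrix (Fin 2) (Fin 2) F) * W := by
      show _ = W * !![A.ω, 0; 0, A.ω ^ 2] * W' * W
      rw [Matrix.mul_assoc _ W' W, hW'W, Matrix.mul_one]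
    have hLl : L' * ((l : SL(2, F)) : Matrix (Fin 2) (Fin 2) F) * ((l : SL(2, F))⁻¹ : SL(2, F)).1 = L' := by
      rw [Matrix.mul_assoc, ← Matrix.SpecialLinearGroup.coe_mul, mul_inv_cancel,
        Matrix.SpecialLinearGroup.coe_one, Matrix.mul_one]
    have hLlamb : L' * (βl • ((l : SL(2, F)) : Matrix (Fin 2) (Fin 2) F)) = 1 := hL'L
    have hmove : ∀ c : PL A, l * a * l⁻¹ = c →
        L' * ((c : SL(2, F)) : Matrix (Fin 2) (Fin 2) F) = !![A.ω, 0; 0, A.ω ^ 2] * L' := by
      intro c hc'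
      have hbl : βl ≠ 0 := fun h0 => by rw [h0, zero_smul, Matrix.mul_zero] at hLlamb; exact zero_ne_one hLlamb
      have hL'eq : L' = βl⁻¹ • ((l : SL(2, F))⁻¹ : SL(2, F)).1 := by
        rw [Matrix.mul_smul] at hLlamb
        rw [← Matrix.mul_one L', ← Matrix.SpecialLinearGroup.coe_one, ← mul_inv_cancel (l : SL(2, F)),
          Matrix.SpecialLinearGroup.coe_mul, ← Matrix.mul_assoc]
        rw [show L' * ((l : SL(2, F)) : Matrix (Fin 2) (Fin 2) F) = βl⁻¹ • (1 : Matrix (Fin 2) (Fin 2) F) by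
          rw [← hLlamb, smul_smul, inv_mul_cancel₀ hbl, one_smul]]
        rw [Matrix.smul_mul, Matrix.one_mul]
      rw [hL'eq, Matrix.smul_mul, Matrix.mul_smul, ← hzeq, ← Matrix.SpecialLinearGroup.coe_mul,
        ← Matrix.SpecialLinearGroup.coe_mul, ← hc']
      congr 2
      simp [a, mul_assoc]
      rfl
    rcases hlb with h | h
    · rw [hW1, Matrix.mul_assoc, hWb, ← Matrix.mul_assoc, hmove b h, Matrix.mul_assoc]
    · exfalso
      refine hnp (planar_of_invert hp hν hH hg1H e1 ?_)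
      have h' : l * a⁻¹ * l⁻¹ = b := by
        rw [show l * a⁻¹ * l⁻¹ = (l * a * l⁻¹)⁻¹ by group, h, inv_inv]
      have hmv : L' * ((b : SL(2, F)) : Matrix (Fin 2) (Fin 2) F) = !![A.ω ^ 2, 0; 0, A.ω] * L' := by
        have hb1 := hmove b⁻¹ h
        simp only [Subgroup.coe_inv, Matrix.SpecialLinearGroup.coe_inv] at hb1
        have hbad : adjugate ((b : SL(2, F)) : Matrix (Fin 2) (Fin 2) F) * ((b : SL(2, F)) : Matrix (Fin 2) (Fin 2) F) = 1 := by
          rw [adjugate_mul, Matrix.SpecialLinearGroup.det_coe, one_smul]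
        have hz2 : !![A.ω ^ 2, 0; 0, A.ω] * !![A.ω, 0; 0, A.ω ^ 2] = (1 : Matrix (Fin 2) (Fin 2) F) := by
          ext i j
          fin_cases i <;> fin_cases j <;> simp [Matrix.mul_apply, Fin.sum_univ_two] <;> linear_combination h3
        calc L' * ((b : SL(2, F)) : Matrix (Fin 2) (Fin 2) F)
            = !![A.ω ^ 2, 0; 0, A.ω] * (!![A.ω, 0; 0, A.ω ^ 2] * L') * ((b : SL(2, F)) : Matrix (Fin 2) (Fin 2) F) := by
              rw [← Matrix.mul_assoc !![A.ω ^ 2, 0; 0, A.ω] !![A.ω, 0; 0, A.ω ^ 2] L', hz2, Matrix.one_mul]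
          _ = _ := by rw [← hb1, Matrix.mul_assoc, Matrix.mul_assoc L', hbad, Matrix.mul_one]
      rw [hW1, Matrix.mul_assoc, hWb, ← Matrix.mul_assoc, hmv, Matrix.mul_assoc]
  have hne : A.ω ≠ A.ω ^ 2 := fun h => A.cube.ne_one
    (mul_left_cancel₀ A.cube.ne_zero (by linear_combination -h))
  have h01 : W1 0 1 = 0 := by
    have h := congrFun (congrFun hcomm 0) 1
    simp [Matrix.mul_apply, Fin.sum_univ_two] at h
    by_contra h0
    exact hne (mul_left_cancel₀ h0 (by linear_combination -h))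
  have h10 : W1 1 0 = 0 := by
    have h := congrFun (congrFun hcomm 1) 0
    simp [Matrix.mul_apply, Fin.sum_univ_two] at h
    by_contra h0
    exact hne (mul_left_cancel₀ h0 (by linear_combination h))
  -- the ratio is a cube root of unity
  obtain ⟨W1', m1', e1inv, hW11, hW11', -⟩ := inv_shape h2 hν hg1c e1
  obtain ⟨edu, hPd⟩ := pres_conj hp hν hν' hH hg1H e1 hW11' gd.mem A.unim_one (Y := (Zb : Matrix (Fin 2) (Fin 2) F))
    (μ := 1) (by rw [du_val, one_smul]; exact dft_cs hp hν)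
  set b2 : PL A := ⟨⟨_, (det_conj hW11').trans Zb.2⟩, hPd⟩ with hb2
  have hb2J : b2 ∈ Jp A H h2 hν := ⟨_, mul_mem (mul_mem hg1H gd.mem) (inv_mem hg1H), _, _, edu⟩
  obtain ⟨l2, hl2, hl2b⟩ := hsmall0 b2 hb2J ((trace_conj hW11').trans hti)
  have hW1d : ((b2 : SL(2, F)) : Matrix (Fin 2) (Fin 2) F) * W1 = W1 * (Zb : Matrix (Fin 2) (Fin 2) F) := by
    show W1 * _ * W1' * W1 = _
    rw [Matrix.mul_assoc _ W1' W1, hW11', Matrix.mul_one]
  have h11 : W1 1 1 ≠ 0 := fun h => by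
    have hd := congrArg Matrix.det hW11
    rw [Matrix.det_mul, Matrix.det_fin_two W1, h, h01, mul_zero, zero_mul, sub_zero, zero_mul, Matrix.det_one] at hd
    exact zero_ne_one hd
  have h00 : W1 0 0 ≠ 0 := fun h => by
    have hd := congrArg Matrix.det hW11
    rw [Matrix.det_mul, Matrix.det_fin_two W1, h, h01, zero_mul, zero_mul, sub_zero, zero_mul, Matrix.det_one] at hd
    exact zero_ne_one hd
  have hkap : W1 0 0 = W1 1 1 ∨ W1 0 0 = A.ω * W1 1 1 ∨ W1 0 0 = A.ω ^ 2 * W1 1 1 := by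
    set s' := (2 * A.ω + 1)⁻¹
    have hs' : s' ≠ 0 := inv_ne_zero hs
    set B := ((b2 : SL(2, F)) : Matrix (Fin 2) (Fin 2) F)
    have hB0 : B 0 0 = s' := by
      have e00 := congrFun (congrFun hW1d 0) 0
      simp [hZb, Matrix.mul_apply, Fin.sum_univ_two, h01, h10] at e00
      exact mul_right_cancel₀ h00 (by linear_combination e00)
    have hB1 : B 0 1 * W1 1 1 = W1 0 0 * (2 * ν * s') := by
      have e01 := congrFun (congrFun hW1d 0) 1
      simp [hZb, Matrix.mul_apply, Fin.sum_univ_two, h01, h10] at e01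
      linear_combination e01
    have hent : ((l2 : SL(2, F)) : Matrix (Fin 2) (Fin 2) F) 0 0 = s' ∧ ∃ k : F, (k = 1 ∨ k = A.ω ∨ k = A.ω ^ 2) ∧
        ((l2 : SL(2, F)) : Matrix (Fin 2) (Fin 2) F) 0 1 = k * (2 * ν * s') := by
      rcases hl2 with rfl | rfl | rfl
      · exact ⟨rfl, 1, Or.inl rfl, (one_mul _).symm⟩
      · refine ⟨?_, A.ω ^ 2, Or.inr (Or.inr rfl), ?_⟩ <;>
          simp only [Subgroup.coe_mul, Subgroup.coe_inv, Matrix.SpecialLinearGroup.coe_mul,
            Matrix.SpecialLinearGroup.coe_inv] <;>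
          simp [a, i, hZa, hZb, za, adjugate_fin_two, Matrix.mul_apply, Fin.sum_univ_two] <;> grobner
      · refine ⟨?_, A.ω, Or.inr (Or.inl rfl), ?_⟩ <;>
          simp only [Subgroup.coe_mul, Subgroup.coe_inv, Matrix.SpecialLinearGroup.coe_mul,
            Matrix.SpecialLinearGroup.coe_inv] <;>
          simp [a, i, hZa, hZb, za, adjugate_fin_two, Matrix.mul_apply, Fin.sum_univ_two] <;> grobner
    obtain ⟨hl00, k, hk, hl01⟩ := hent
    rcases hl2b with hh | hh
    · have e : B 0 1 = k * (2 * ν * s') := by rw [← hl01]; exact congrArg (fun z : SL(2, F) => (z : Matrix (Fin 2) (Fin 2) F) 0 1) hh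
      have e2 : W1 0 0 = k * W1 1 1 := by
        refine mul_right_cancel₀ (mul_ne_zero (mul_ne_zero h2 hν) hs') ?_
        rw [← hB1, e]; ring
      rcases hk with rfl | rfl | rfl
      · left; rw [e2, one_mul]
      · right; left; exact e2
      · right; right; exact e2
    · exfalso
      have e : B 0 0 = -s' := by
        rw [← hl00]; exact congrArg (fun z : SL(2, F) => (z : Matrix (Fin 2) (Fin 2) F) 0 0) hh
      rw [hB0] at e
      exact hs' ((mul_eq_zero.1 (by linear_combination e : (2 : F) * s' = 0)).resolve_left h2)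
  obtain ⟨j, hj⟩ : ∃ j : ℕ, W1 0 0 * A.ω ^ j = W1 1 1 := by
    rcases hkap with h | h | h
    · exact ⟨0, by rw [h, pow_zero, mul_one]⟩
    · exact ⟨2, by rw [h]; linear_combination W1 1 1 * h3⟩
    · exact ⟨1, by rw [h]; linear_combination W1 1 1 * h3⟩
  obtain ⟨gt, hgt, hshape⟩ : ∃ gt : T3, (∃ lt : SL(2, F), Good A H ν lt gt) ∧
      ∃ y μ, (g1 : M3) = (gt : M3) * cs ν (y • (1 : Matrix (Fin 2) (Fin 2) F)) μ := by
    have hpow : ∀ n : ℕ, Good A H ν (Za ^ n) (tu A.cube ((0, 1) : L3) ^ n) ∧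
        ((tu A.cube ((0, 1) : L3) ^ n : T3) : M3) = cs ν !![1, 0; 0, A.ω ^ n] (A.ω ^ n) := fun n => by
      induction n with
      | zero =>
        refine ⟨by simpa using good_one h2, ?_⟩
        rw [pow_zero, Units.val_one, ← cs_one (ν := ν) h2]
        congr 1
        · ext i j; fin_cases i <;> fin_cases j <;> simp
        · rw [pow_zero]
      | succ n ih =>
        refine ⟨by rw [pow_succ, pow_succ]; exact ih.1.mul h2 hν gu, ?_⟩
        rw [pow_succ, Units.val_mul, ih.2, tu_val, tm_cs (ν := ν) hp, cs_mul h2 hν]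
        congr 1
        · ext i j; fin_cases i <;> fin_cases j <;> simp [Matrix.mul_apply, Fin.sum_univ_two, pow_succ] <;> grobner
        · rw [pow_succ]
    refine ⟨_, ⟨_, (hpow j).1⟩, W1 0 0,
      (ml' * ((g : M3) 1 1 - (g : M3) 1 2)) / A.ω ^ j, ?_⟩
    rw [e1, (hpow j).2, cs_mul h2 hν]
    congr 1
    · ext i k
      fin_cases i <;> fin_cases k <;> simp [Matrix.mul_apply, Fin.sum_univ_two, h01, h10]
      linear_combination -hj
    · rw [mul_div_cancel₀ _ (pow_ne_zero _ A.cube.ne_zero)]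
  obtain ⟨lt, hgt⟩ := hgt
  obtain ⟨y, μ, hshape⟩ := hshape
  have hgg := hgl.mul h2 hν hgt
  have hμ : μ ≠ 0 := fun h0 => by
    have h := congrArg Matrix.det hshape
    have hz : (cs ν (y • (1 : Matrix (Fin 2) (Fin 2) F)) (0 : F)).det = 0 := by
      refine Matrix.exists_mulVec_eq_zero_iff.1 ⟨fun x => if x = 0 then 0 else if x = 1 then 1 else -1,
        fun hh => ?_, ?_⟩
      · exact one_ne_zero (α := F) (by simpa using congrFun hh 1)
      · funext x
        revert x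
        refine forall_zmod ?_ ?_ ?_ <;>
          simp [Matrix.mulVec, dotProduct, sum_zmod, cs, show (2 : ZMod 3) ≠ 0 by decide,
            show (2 : ZMod 3) ≠ 1 by decide]
    rw [h0, Matrix.det_mul, hz, mul_zero] at h
    exact (Matrix.GeneralLinearGroup.det g1).ne_zero h
  refine ⟨gl * gt, hgg.mem, hgg.comm, hgg.acts, μ, y / μ, ?_⟩
  rw [Units.val_mul, kap_eq_cs (ν := ν), ← Matrix.mul_smul, cs_smul, smul_smul, mul_div_cancel₀ _ hμ, mul_one,
    Matrix.mul_assoc, ← hshape, ← Units.val_mul, hg1, mul_inv_cancel_left]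

theorem exists_mat (hp : A.p ≠ 2) (hH : Rich A H) {μ : F} {x : T3} {c : F} {σ : L3 → L3}
    (ha : Acts A.ω (x : M3) σ) (e : (x : M3) = c • kap μ) : μ = 1 ∨ μ = -1 := by
  have h2 := A.two_ne hp
  have hc : c ≠ 0 := fun h0 => by
    rw [h0, zero_smul] at e
    exact one_ne_zero (α := M3) (by rw [← Units.mul_inv x, e, zero_mul])
  have h := ha (0, 1)
  rw [e, Matrix.smul_mul, Matrix.mul_smul] at h
  have h' := smul_right_injective _ hc h
  obtain ⟨w1, w2, hw⟩ : ∃ a b, σ (0, 1) = (a, b) := ⟨_, _, rfl⟩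
  rw [hw] at h'
  have hμ : μ ≠ 0 := fun h0 => by
    have hd := (Matrix.GeneralLinearGroup.det x).ne_zero
    rw [Matrix.GeneralLinearGroup.val_det_apply, e, h0, Matrix.det_smul] at hd
    apply hd
    rw [Matrix.det_eq_zero_of_row_eq_zero (0 : ZMod 3) (fun j => by
      revert j; exact forall_zmod (by simp [kap]) (by simp [kap]) (by simp [kap])), mul_zero]
  rw [wm01] at h'
  simp only [kap, blk, m3_mul] at h'
  have e00 := congrFun (congrFun h' 0) 0
  have e11 := congrFun (congrFun h' 1) 1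
  have e12 := congrFun (congrFun h' 1) 2
  rcases zmod_three w1 with rfl | rfl | rfl
  · rw [wm_three] at e00 e11 e12
    simp [Matrix.mul_apply, sum_zmod, show (2 : ZMod 3) ≠ 0 by decide, show (1 : ZMod 3) ≠ 2 by decide,
      show (0 : ZMod 3) ≠ 1 by decide, show (0 : ZMod 3) ≠ 2 by decide, show (2 : ZMod 3) ≠ 1 by decide] at e11 e12
    field_simp at e11 e12
    by_contra hcon
    push Not at hcon
    have hd1 : μ + 1 ≠ 0 := fun h => hcon.2 (eq_neg_of_add_eq_zero_left h)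
    have hd2 : μ - 1 ≠ 0 := sub_ne_zero.2 hcon.1
    have t1 : A.ω = A.ω ^ w2.val := mul_left_cancel₀ hd1 (by linear_combination e11)
    have t2 : A.ω ^ 2 = A.ω ^ w2.val := mul_left_cancel₀ hd2 (by linear_combination e12)
    exact A.cube.ne_one (mul_left_cancel₀ A.cube.ne_zero (by linear_combination t2 - t1))
  · rw [wm_three] at e00
    simp [Matrix.mul_apply, sum_zmod, show (0 : ZMod 3) ≠ 1 by decide, show (2 : ZMod 3) + 1 = 0 by decide,
      show (1 : ZMod 3) + 1 ≠ 0 by decide, show ¬ (0 : ZMod 3) = 1 + 1 by decide] at e00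
    exact absurd e00 hμ
  · rw [wm_three] at e00
    simp [Matrix.mul_apply, sum_zmod, show ¬ (0 : ZMod 3) = 2 + -1 by decide,
      show ¬ (0 : ZMod 3) = -1 by decide] at e00
    exact absurd e00 hμ

theorem kap_comm (h2 : (2 : F) ≠ 0) {g : T3} (hc : Commute g ju) (lam : F) :
    (g : M3) * kap lam = kap lam * (g : M3) := by
  have h : (g : M3) * jm = jm * (g : M3) := congrArg Units.val hc.eq
  have e : kap lam = ((lam + 1) / 2) • (1 : M3) + ((lam - 1) / 2) • jm + 0 := by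
    rw [add_zero, jm_eq, one_eq, m3_smul, m3_smul]
    apply ext3 <;> simp [kap] <;> field_simp <;> ring
  rw [e, add_zero, Matrix.mul_add, Matrix.add_mul, Matrix.mul_smul, Matrix.mul_smul, Matrix.smul_mul,
    Matrix.smul_mul, h, Matrix.mul_one, Matrix.one_mul]

/-- **The dichotomy in degree three.** -/
theorem base (hp : A.p ≠ 2) (hH : Rich A H) : (∀ g ∈ H, Nrm A.ω g) ∨ Planar A H := by
  classical
  by_cases hnp : Planar A H
  · exact Or.inr hnp
  left
  have h2 := A.two_ne hp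
  obtain ⟨K, _, _, hK, ⟨Φ⟩⟩ := exists_phi A
  haveI := A.fact
  haveI := A.charP
  haveI : Nontrivial (ZMod 3) := ⟨⟨0, 1, by decide⟩⟩
  refine finish hH (fun g hg hcomm => ?_) fun O hOH hconj hwO ⟨N, hN, hpow⟩ x hx hxc => ?_
  · set r := g * ju * g⁻¹ with hr
    have hrH : r ∈ H := mul_mem (mul_mem hg hH.mem_ju) (inv_mem hg)
    have hr2 : (r : M3) * r = 1 := by
      rw [← Units.val_mul, show r * r = g * (ju * ju) * g⁻¹ by rw [hr]; group,
        show (ju * ju : T3) = 1 from Units.ext (by simp [jm_sq]), mul_one, mul_inv_cancel, Units.val_one]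
    have htr : (r : M3).trace = 1 := by
      rw [hr, Units.val_mul, Matrix.trace_mul_comm, ← Units.val_mul, inv_mul_cancel_left]
      exact trace_jm
    obtain ⟨l, hl, hlc, ⟨σ, hσ, hla⟩, c, lam, e⟩ := cent_structure hp hH hnp hrH hcomm
    have hc0 : c ≠ 0 := fun h0 => by
      rw [h0, zero_smul] at e
      exact one_ne_zero (α := M3) (by rw [← Units.mul_inv r, e, zero_mul])
    have hsq : (1 : M3) = (c * c) • (((l * l : T3) : M3) * kap (lam * lam)) := by
      rw [← hr2, e, Matrix.smul_mul, Matrix.mul_smul, smul_smul, ← kap_mul h2, Units.val_mul]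
      congr 1
      simp only [Matrix.mul_assoc]
      rw [← Matrix.mul_assoc (kap lam) (l : M3), ← kap_comm h2 hlc, Matrix.mul_assoc]
    have hk : (((l * l)⁻¹ : T3) : M3) = (c * c) • kap (lam * lam) := by
      calc (((l * l)⁻¹ : T3) : M3) = (((l * l)⁻¹ : T3) : M3) * 1 := (Matrix.mul_one _).symm
        _ = _ := by rw [hsq, Matrix.mul_smul, ← Matrix.mul_assoc, Units.inv_mul, Matrix.one_mul]
    have hnrm : Nrm A.ω ((l * l)⁻¹) :=
      ((nrm_of_acts hla).mul (nrm_of_acts hla)).inv A.cube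
    obtain ⟨τ, hτ⟩ : ∃ τ, Acts A.ω (((l * l)⁻¹ : T3) : M3) τ := by
      have hla2 : Acts A.ω (((l * l : T3)) : M3) (σ ∘ σ) := by rw [Units.val_mul]; exact hla.mul hla
      obtain ⟨τ, hτ⟩ := (hσ.comp hσ).surjective.hasRightInverse
      refine ⟨τ, fun v => ?_⟩
      conv_lhs => rw [← hτ v]
      calc (((l * l)⁻¹ : T3) : M3) * wm A.ω ((σ ∘ σ) (τ v))
          = (((l * l)⁻¹ : T3) : M3) * (wm A.ω ((σ ∘ σ) (τ v)) * ((l * l : T3) : M3)) *
              (((l * l)⁻¹ : T3) : M3) := by simp [Matrix.mul_assoc]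
        _ = _ := by rw [← hla2 (τ v), ← Matrix.mul_assoc, Units.inv_mul, Matrix.one_mul]
    have hlam : lam * lam = 1 := by
      rcases exists_mat hp hH hτ hk with h | h
      · exact h
      · refine absurd (planar_of_kap hp hH (g := l⁻¹ * r) (mul_mem (inv_mem hl) hrH) (c := c) (lam := lam) ?_
          (Or.inr (Or.inr h))) hnp
        rw [Units.val_mul, e, Matrix.mul_smul, ← Matrix.mul_assoc, Units.inv_mul, Matrix.one_mul]
    have hll : ∃ μ : F, ((l * l : T3) : M3) = μ • ((1 : T3) : M3) := by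
      refine ⟨(c * c)⁻¹, ?_⟩
      rw [hlam, kap_one h2, Matrix.mul_one] at hsq
      rw [Units.val_one, hsq, smul_smul, inv_mul_cancel₀ (mul_ne_zero hc0 hc0), one_smul]
    obtain ⟨μ, hμ⟩ := hll
    have hσ2 : σ ∘ σ = id := acts_sigma_unique A.cube (by rw [Units.val_mul]; exact hla.mul hla)
      (show Acts A.ω ((1 : T3) : M3) id by rw [Units.val_one]; exact acts_one) hμ
    have hL : toSL hσ = 1 ∨ toSL hσ = -1 := by
      refine sl_invol _ ?_
      rw [← toSL_comp, ← toSL_id]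
      congr 1
    have hlr : ∃ d : F, (r : M3) = d • 1 ∨ (r : M3) = d • jm := by
      have hl' : ∃ d : F, (l : M3) = d • 1 ∨ (l : M3) = d • jm := by
        rcases hL with h | h
        · have hid : σ = id := toSL_inj hσ sym_id (h.trans toSL_id.symm)
          subst hid
          obtain ⟨d, hd⟩ := Acts.unique A.cube hla (show Acts A.ω ((1 : T3) : M3) id by
            rw [Units.val_one]; exact acts_one)
          exact ⟨d, Or.inl (by rw [hd, Units.val_one])⟩
        · have hid : σ = Neg.neg := toSL_inj hσ sym_neg (h.trans toSL_neg.symm)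
          subst hid
          obtain ⟨d, hd⟩ := Acts.unique A.cube hla (show Acts A.ω ((ju : T3) : M3) Neg.neg from acts_jm)
          exact ⟨d, Or.inr hd⟩
      obtain ⟨d, hd⟩ := hl'
      rcases mul_self_eq_one_iff.1 hlam with h | h
      · rw [h, kap_one h2, Matrix.mul_one] at e
        rcases hd with hd | hd <;> rw [hd, smul_smul] at e
        · exact ⟨_, Or.inl e⟩
        · exact ⟨_, Or.inr e⟩
      · rw [h, kap_neg_one h2] at e
        rcases hd with hd | hd <;> rw [hd, Matrix.smul_mul, smul_smul, Matrix.mul_neg, smul_neg, ← neg_smul] at e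
        · rw [Matrix.one_mul] at e; exact ⟨_, Or.inr e⟩
        · rw [jm_sq] at e; exact ⟨_, Or.inl e⟩
    obtain ⟨d, hd | hd⟩ := hlr
    · exfalso
      rw [hd, Matrix.trace_smul, Matrix.trace_one, smul_eq_mul] at htr
      rw [hd, Matrix.smul_mul, Matrix.one_mul, smul_smul] at hr2
      have hdd : d * d = 1 := by simpa [Matrix.one_apply] using congrFun (congrFun hr2 0) 0
      have h3c : ((Fintype.card (ZMod 3) : ℕ) : F) = 3 := by simp
      rw [h3c] at htr
      exact mul_ne_zero (mul_ne_zero h2 h2) h2 (by linear_combination (3 * d + 1) * htr - 9 * hdd)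
    · refine Units.ext ?_
      have hd1 : d = 1 := by rw [hd, Matrix.trace_smul, trace_jm, smul_eq_mul, mul_one] at htr; exact htr
      rw [hd, hd1, one_smul, ju_val]
  · obtain ⟨l, hl, hlc, ⟨σ, hσ, hla⟩, c, lam, e⟩ := cent_structure hp hH hnp (hOH hx) hxc
    have hc0 : c ≠ 0 := fun h0 => by
      rw [h0, zero_smul] at e
      exact one_ne_zero (α := M3) (by rw [← Units.mul_inv x, e, zero_mul])
    have hcom : ∀ q : T3, q ∈ H → Commute q ju → ∀ {τ : L3 → L3} (hτ : Sym τ), Acts A.ω (q : M3) τ →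
        (toSL hτ * toSL hσ * (toSL hτ)⁻¹ * (toSL hσ)⁻¹) ^ 3 = 1 := by
      intro q hqH hqc τ hτ hqa
      set z := q * l * q⁻¹ * l⁻¹ with hz
      have hzO : z ∈ O := by
        have h1 : q * x * q⁻¹ * x⁻¹ ∈ O := mul_mem (hconj q hqH x hx) (inv_mem hx)
        suffices hh : q * x * q⁻¹ * x⁻¹ = z by rwa [hh] at h1
        have hsg : x = sg (ZMod 3) hc0 * l * (l⁻¹ * (sg (ZMod 3) hc0)⁻¹ * x) := by group
        set kk := l⁻¹ * (sg (ZMod 3) hc0)⁻¹ * x with hkk
        have hkv : (kk : M3) = kap lam := by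
          rw [hkk, Units.val_mul, Units.val_mul, e, show (((sg (ZMod 3) hc0)⁻¹ : T3) : M3) = c⁻¹ • 1 from rfl,
            Matrix.mul_assoc, Matrix.smul_mul, Matrix.one_mul, smul_smul, inv_mul_cancel₀ hc0, one_smul,
            ← Matrix.mul_assoc, Units.inv_mul, Matrix.one_mul]
        have hkq : Commute q kk := Units.ext (show (q : M3) * (kk : M3) = (kk : M3) * (q : M3) by rw [hkv]; exact kap_comm h2 hqc lam)
        have hkl : Commute l kk := Units.ext (show (l : M3) * (kk : M3) = (kk : M3) * (l : M3) by rw [hkv]; exact kap_comm h2 hlc lam)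
        have hsc : ∀ y : T3, Commute (sg (ZMod 3) hc0) y := fun y => Units.ext (by simp)
        rw [hsg, hz]
        have a1 : q * (sg (ZMod 3) hc0 * l * kk) * q⁻¹ = sg (ZMod 3) hc0 * (q * l * q⁻¹) * kk := by
          calc q * (sg (ZMod 3) hc0 * l * kk) * q⁻¹ = (q * sg (ZMod 3) hc0) * l * (kk * q⁻¹) := by group
            _ = (sg (ZMod 3) hc0 * q) * l * (q⁻¹ * kk) := by rw [(hsc q).eq, hkq.inv_left.eq]
            _ = _ := by group
        rw [a1]
        calc sg (ZMod 3) hc0 * (q * l * q⁻¹) * kk * (sg (ZMod 3) hc0 * l * kk)⁻¹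
            = sg (ZMod 3) hc0 * (q * l * q⁻¹ * l⁻¹) * (sg (ZMod 3) hc0)⁻¹ := by group
          _ = q * l * q⁻¹ * l⁻¹ := by rw [(hsc _).eq, mul_inv_cancel_right]
      have hzn : Nrm A.ω z := (((nrm_of_acts hqa).mul (nrm_of_acts hla)).mul ((nrm_of_acts hqa).inv A.cube)).mul
        ((nrm_of_acts hla).inv A.cube)
      obtain ⟨u, ρ, z0, hρ, hza, hzf⟩ := hzn.exists_factor A.cube
      -- compare with the product in the other order
      obtain ⟨τi, hτi⟩ := hτ.surjective.hasRightInverse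
      obtain ⟨σi, hσi⟩ := hσ.surjective.hasRightInverse
      have hinv : ∀ {g : T3} {π πi : L3 → L3}, Acts A.ω (g : M3) π → Function.RightInverse πi π →
          Acts A.ω ((g⁻¹ : T3) : M3) πi := fun {g π πi} hga hπ v => by
        conv_lhs => rw [← hπ v]
        calc ((g⁻¹ : T3) : M3) * wm A.ω (π (πi v))
            = ((g⁻¹ : T3) : M3) * (wm A.ω (π (πi v)) * (g : M3)) * ((g⁻¹ : T3) : M3) := by simp [Matrix.mul_assoc]
          _ = _ := by rw [← hga (πi v), ← Matrix.mul_assoc, Units.inv_mul, Matrix.one_mul]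
      have symi : ∀ {π πi : L3 → L3}, Sym π → Function.RightInverse πi π → Sym πi := fun {π πi} hπ hi =>
        ⟨fun a b => hπ.injective (by rw [hπ.add, hi, hi, hi]), fun a b => by rw [← hπ.form, hi, hi]⟩
      have hτi' := symi hτ hτi
      have hσi' := symi hσ hσi
      set ρ' := ((τ ∘ σ) ∘ τi) ∘ σi
      have hρ' : Sym ρ' := ((hτ.comp hσ).comp hτi').comp hσi'
      have hza' : Acts A.ω (z : M3) ρ' := by
        rw [hz, Units.val_mul, Units.val_mul, Units.val_mul]
        exact ((hqa.mul hla).mul (hinv hqa hτi)).mul (hinv hla hσi)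
      have hi1 : toSL hτi' = (toSL hτ)⁻¹ := eq_inv_of_mul_eq_one_right (by
        rw [← toSL_comp, ← toSL_id]
        congr 1
        exact funext hτi)
      have hi2 : toSL hσi' = (toSL hσ)⁻¹ := eq_inv_of_mul_eq_one_right (by
        rw [← toSL_comp, ← toSL_id]
        congr 1
        exact funext hσi)
      have hval : toSL hρ' = toSL hτ * toSL hσ * (toSL hτ)⁻¹ * (toSL hσ)⁻¹ := by
        rw [← hi1, ← hi2, ← toSL_comp, ← toSL_comp, ← toSL_comp]
      obtain ⟨cN, hcN⟩ := hpow z hzO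
      have hpow' : ∀ n : ℕ, ∃ (π : L3 → L3) (hπ : Sym π), Acts A.ω (((z ^ n : T3)) : M3) π ∧
          toSL hπ = toSL hρ' ^ n := fun n => by
        induction n with
        | zero => exact ⟨id, sym_id, by rw [pow_zero, Units.val_one]; exact acts_one, by rw [pow_zero]; exact toSL_id⟩
        | succ n ih =>
          obtain ⟨π, hπ, h1, h2'⟩ := ih
          exact ⟨π ∘ ρ', hπ.comp hρ', by rw [pow_succ, Units.val_mul]; exact h1.mul hza',
            (toSL_comp hπ hρ').trans (by rw [h2', pow_succ])⟩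
      obtain ⟨π, hπ, h1, h2'⟩ := hpow' N
      have hid : π = id := acts_sigma_unique A.cube h1
        (show Acts A.ω ((1 : T3) : M3) id by rw [Units.val_one]; exact acts_one) (by rw [Units.val_one]; exact hcN)
      subst hid
      rw [toSL_id] at h2'
      rw [← hval]
      exact sl_pow_three hN h2'.symm
    have gu : Commute (tu A.cube ((0, 1) : L3)) ju :=
      commute_ju_of_cs (ν := (1 : F)) h2 one_ne_zero (tm_cs hp)
    have gd : Commute (du A.cube) ju := commute_ju_of_cs (ν := (1 : F)) h2 one_ne_zero (dft_cs hp one_ne_zero)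
    have hL : toSL hσ = 1 ∨ toSL hσ = -1 := by
      refine sl_core _ ?_ ?_
      · have h := hcom _ (hH.mem_of_nrm du_mem (nrm_of_acts (dft_acts A.cube))) gd sym_rot (dft_acts A.cube)
        rwa [show toSL sym_rot = rot by apply Subtype.ext; ext i j; fin_cases i <;> fin_cases j <;> rfl] at h
      · have hts : Sym (tv ((0, 1) : L3)) := tvc_one (X := ZMod 3) (0, 1) ▸ sym_tvc 1 _
        have h := hcom _ (hH.mem_tu _) gu hts (tm_wm A.cube _)
        rwa [show toSL hts = shear by apply Subtype.ext; ext i j; fin_cases i <;> fin_cases j <;> rfl] at h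
    obtain ⟨d, μ, hd⟩ : ∃ d μ : F, (x : M3) = d • kap μ := by
      rcases hL with h | h
      · have hid : σ = id := toSL_inj hσ sym_id (h.trans toSL_id.symm)
        subst hid
        obtain ⟨d, hd⟩ := Acts.unique A.cube hla (show Acts A.ω ((1 : T3) : M3) id by
          rw [Units.val_one]; exact acts_one)
        exact ⟨c * d, lam, by rw [e, hd, Units.val_one, Matrix.smul_mul, Matrix.one_mul, smul_smul]⟩
      · have hid : σ = Neg.neg := toSL_inj hσ sym_neg (h.trans toSL_neg.symm)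
        subst hid
        obtain ⟨d, hd⟩ := Acts.unique A.cube hla (show Acts A.ω ((ju : T3) : M3) Neg.neg from acts_jm)
        refine ⟨-(c * d), -lam, ?_⟩
        rw [e, hd, ju_val, Matrix.smul_mul, smul_smul, neg_smul, ← smul_neg]
        congr 1
        rw [show (jm : M3) = -kap (-1 : F) by rw [kap_neg_one h2, neg_neg], neg_mul, kap_mul h2, neg_one_mul]
    obtain ⟨Y, hY, ht, hτ⟩ := conj_kap hp hH (S := O) hconj (hwO _) (hOH hx) hd
    let J : Subgroup (PL A) := J12 A O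
    have hodd : Odd (Nat.card (Plane.imgSub (PL A) Φ J)) := by
      by_contra hev
      rw [Nat.not_odd_iff_even, even_iff_two_dvd] at hev
      haveI : Fact (Nat.Prime 2) := ⟨Nat.prime_two⟩
      obtain ⟨z, hz⟩ := exists_prime_orderOf_dvd_card' 2 hev
      obtain ⟨b, ⟨y, hy, α, β, ey⟩, hbz⟩ := Plane.exists_pre (PL A) Φ z.2
      obtain ⟨cN, hcN⟩ := hpow y hy
      have key : ∀ n : ℕ, ((y ^ n : T3) : M3) = blk (α ^ n) (β ^ n • (((b ^ n : PL A) : SL(2, F)) : Matrix (Fin 2) (Fin 2) F)) := fun n => by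
        induction n with
        | zero => simp [blk_one]
        | succ n ih =>
          rw [pow_succ, Units.val_mul, ih, ey, blk_mul, pow_succ α, pow_succ β, pow_succ b, Matrix.smul_mul,
            Matrix.mul_smul, smul_smul, Subgroup.coe_mul, Matrix.SpecialLinearGroup.coe_mul]
      have h1 : blk (α ^ N) (β ^ N • (((b ^ N : PL A) : SL(2, F)) : Matrix (Fin 2) (Fin 2) F)) =
          blk cN (cN • (1 : Matrix (Fin 2) (Fin 2) F)) := by
        rw [← key N, hcN, ← blk_one, blk_smul, mul_one]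
      obtain ⟨-, h3⟩ := blk_inj h1
      have hβ : β ^ N ≠ 0 := fun h0 => by
        rw [h0, zero_smul] at h3
        have hcz : cN = 0 := by simpa using (congrFun (congrFun h3 0) 0).symm
        rw [hcz, zero_smul] at hcN
        exact one_ne_zero (α := M3) (by rw [← Units.mul_inv (y ^ N), hcN, zero_mul])
      set w : SL(2, F) := ((b ^ N : PL A) : SL(2, F))
      have hw : (w : Matrix (Fin 2) (Fin 2) F) = (cN / β ^ N) • (1 : Matrix (Fin 2) (Fin 2) F) :=
        Plane.tr_one_sub hβ h3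
      have hw2 : (w : SL(2, F)) = 1 ∨ w = -1 := by
        have hd := Matrix.SpecialLinearGroup.det_coe w
        rw [hw, Matrix.det_smul, Matrix.det_one, Fintype.card_fin, mul_one, pow_two, mul_self_eq_one_iff] at hd
        rcases hd with hd | hd
        · left; apply Subtype.ext; rw [hw, hd, one_smul, Matrix.SpecialLinearGroup.coe_one]
        · right; apply Subtype.ext; rw [hw, hd, Plane.coe_neg_one]
      have h2K : (2 : K) ≠ 0 := by
        haveI : CharP K A.p := charP_of_card_eq_prime hK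
        intro h
        exact hp ((Nat.prime_dvd_prime_iff_eq A.prime Nat.prime_two).1
          ((CharP.cast_eq_zero_iff K A.p 2).1 (by exact_mod_cast h)))
      have hzN : z ^ N = 1 := by
        apply Subtype.ext
        rw [SubmonoidClass.coe_pow, ← hbz, OneMemClass.coe_one,
          show Plane.img (PL A) Φ b ^ N = Plane.img (PL A) Φ (b ^ N) by simp [Plane.img],
          show (1 : Matrix.ProjectiveSpecialLinearGroup (Fin 2) K) = Plane.img (PL A) Φ 1 by simp [Plane.img],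
          Plane.img_eq_iff (PL A) Φ h2 h2K neg_one_mem_PL]
        exact hw2
      have hd2 := orderOf_dvd_of_pow_eq_one hzN
      rw [hz] at hd2
      exact Nat.not_even_iff_odd.2 hN (even_iff_two_dvd.2 hd2)
    have hza : (⟨za A.cube, za_mem⟩ : PL A) ∈ J :=
      ⟨_, hwO ((0, 1) : L3), 1, 1, by rw [wu_val, wm01, one_smul]; rfl⟩
    have hYJ : Y ∈ J := by
      obtain ⟨y, hy, ey⟩ := hY
      exact ⟨y, hy, 1, 1, by rw [one_smul]; exact ey⟩
    have hσ2 := Plane.trace_comm_of_odd (PL A) Φ hK hp neg_one_mem_PL hodd hza hYJ za_trace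
    rw [Plane.trace_comm, za_trace, ht] at hσ2
    set τv := ((za A.cube * (Y : SL(2, F)) : SL(2, F)) : Matrix (Fin 2) (Fin 2) F).trace
    have hμ : μ = 1 ∨ μ = -1 := by
      have hfac : (τv - 2) * (τv + 1) = 0 := by linear_combination hσ2
      rcases mul_eq_zero.1 hfac with h | h
      · have h0 : (3 : F) * ((μ + 1) * (μ + 1)) = 0 := by linear_combination hτ - 4 * μ * h
        exact Or.inr (eq_neg_of_add_eq_zero_left (mul_self_eq_zero.1 ((mul_eq_zero.1 h0).resolve_left A.cube.three)))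
      · have h0 : (3 : F) * ((μ - 1) * (μ - 1)) = 0 := by linear_combination hτ - 4 * μ * h
        exact Or.inl (sub_eq_zero.1 (mul_self_eq_zero.1 ((mul_eq_zero.1 h0).resolve_left A.cube.three)))
    rcases hμ with rfl | rfl
    · exact ⟨d, by rw [hd, kap_one h2]⟩
    · exfalso
      rw [kap_neg_one h2, smul_neg, ← neg_smul] at hd
      have key : ∀ n : ℕ, ((x ^ n : T3) : M3) = (-d) ^ n • ((ju ^ n : T3) : M3) := fun n => by
        induction n with
        | zero => simp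
        | succ n ih => rw [pow_succ, Units.val_mul, ih, hd, pow_succ, pow_succ ju, Units.val_mul, ju_val,
            Matrix.smul_mul, Matrix.mul_smul, smul_smul]
      obtain ⟨cN, hcN⟩ := hpow x hx
      obtain ⟨k, rfl⟩ := hN
      have hjp : ((ju : T3) ^ (2 * k + 1)) = ju := by
        rw [pow_succ, pow_mul, show (ju : T3) ^ 2 = 1 from Units.ext (by simp [pow_two, jm_sq]), one_pow, one_mul]
      rw [key, hjp, ju_val] at hcN
      have e00 := congrFun (congrFun hcN 0) 0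
      have e12 := congrFun (congrFun hcN 1) 2
      rw [jm_eq] at e00 e12
      simp [Matrix.one_apply, show (1 : ZMod 3) ≠ 2 by decide] at e00 e12
      have hd0 : d ≠ 0 := fun h0 => by
        rw [h0, neg_zero, zero_smul] at hd
        exact one_ne_zero (α := M3) (by rw [← Units.mul_inv x, hd, zero_mul])
      exact hd0 (neg_eq_zero.1 (by simpa using e12))

end Cfsg.Agent.Forms.Max.SympNine.Three
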