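import Cfsg.Agent.Lib.Forms.Max.SympNine.Real
import Cfsg.Agent.Lib.Classical.UnitaryCount

/-!
# The two ambient groups and the matrices normalising the Weyl operators
-/

set_option autoImplicit false
set_option linter.unusedSectionVars false
set_option linter.style.haveILetI false

namespace Cfsg.Agent.Forms.Max.SympNine

open Matrix Dot

/-- a prime field containing a cube root of unity, or the quadratic extension of one that does not -/
structure Amb (F : Type*) [Field F] [Fintype F] where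
  /-- the characteristic -/
  p : ℕ
  prime : p.Prime
  /-- the cube root of unity -/
  ω : F
  /-- whether the ambient group is unitary -/
  unit : Prop
  cube : Cube F ω
  card : (¬ unit ∧ Fintype.card F = p ∧ p % 3 = 1) ∨ (unit ∧ Fintype.card F = p ^ 2 ∧ p % 3 = 2)

variable {F : Type*} [Field F] [Fintype F] (A : Amb F)

theorem Amb.fact : Fact A.p.Prime := ⟨A.prime⟩

theorem Amb.charP : CharP F A.p := by
  obtain ⟨k, hr, hk⟩ := FiniteField.card F (ringChar F)
  have hdvd : ringChar F ∣ Fintype.card F := hk ▸ dvd_pow_self _ k.pos.ne'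
  have : ringChar F = A.p := by
    rcases A.card with ⟨-, h, -⟩ | ⟨-, h, -⟩ <;> rw [h] at hdvd
    · exact (Nat.prime_dvd_prime_iff_eq hr A.prime).1 hdvd
    · exact (Nat.prime_dvd_prime_iff_eq hr A.prime).1 (hr.dvd_of_dvd_pow hdvd)
  exact this ▸ ringChar.charP F

theorem Amb.ne_three : A.p ≠ 3 := by
  rcases A.card with ⟨-, -, h⟩ | ⟨-, -, h⟩ <;> omega

theorem Amb.cast_ne_zero {n : ℕ} (h : ¬ A.p ∣ n) : (n : F) ≠ 0 := by
  haveI := A.charP
  exact fun h0 => h ((CharP.cast_eq_zero_iff F A.p n).1 h0)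

theorem Amb.two_ne (h : A.p ≠ 2) : (2 : F) ≠ 0 := by
  exact_mod_cast A.cast_ne_zero (n := 2) fun hd => h ((Nat.prime_dvd_prime_iff_eq A.prime Nat.prime_two).1 hd)

theorem Amb.unit_of_two (h : A.p = 2) : A.unit := by
  rcases A.card with ⟨-, -, h'⟩ | ⟨hu, -, -⟩
  · omega
  · exact hu

/-- the field automorphism -/
noncomputable def Amb.bar : F →+* F :=
  haveI := A.fact
  haveI := A.charP
  frobenius F A.p

theorem Amb.bar_apply (x : F) : A.bar x = x ^ A.p := rfl

theorem Amb.bar_ω (hu : A.unit) : A.bar A.ω = A.ω ^ 2 := by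
  rcases A.card with ⟨h, -⟩ | ⟨-, -, h⟩
  · exact absurd hu h
  · rw [A.bar_apply, pow_eq_pow_mod A.p A.cube.pow_three, h]

/-- unimodular scalars -/
def Amb.Unim (c : F) : Prop := c ≠ 0 ∧ (A.unit → A.bar c * c = 1)

theorem Amb.unim_one : A.Unim 1 := ⟨one_ne_zero, fun _ => by simp⟩

theorem Amb.Unim.mul {A : Amb F} {a b : F} (ha : A.Unim a) (hb : A.Unim b) : A.Unim (a * b) :=
  ⟨mul_ne_zero ha.1 hb.1, fun h => by rw [map_mul]; linear_combination (A.bar b * b) * ha.2 h + hb.2 h⟩

theorem Amb.Unim.inv {A : Amb F} {a : F} (ha : A.Unim a) : A.Unim a⁻¹ :=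
  ⟨inv_ne_zero ha.1, fun h => by rw [map_inv₀, ← mul_inv, ha.2 h, inv_one]⟩

theorem Amb.unim_ω : A.Unim A.ω :=
  ⟨A.cube.ne_zero, fun h => by rw [A.bar_ω h]; linear_combination A.cube.pow_three⟩

theorem Amb.unim_neg_one : A.Unim (-1) := ⟨neg_ne_zero.2 one_ne_zero, fun _ => by simp⟩

variable {X : Type} [Fintype X] [DecidableEq X]

/-- the adjoint condition -/
def Amb.Pres (M : Matrix X X F) : Prop := A.unit → (M.map A.bar)ᵀ * M = 1

theorem Amb.pres_mul {M N : Matrix X X F} (hM : A.Pres M) (hN : A.Pres N) : A.Pres (M * N) := fun h => by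
  rw [Matrix.map_mul, Matrix.transpose_mul, Matrix.mul_assoc, ← Matrix.mul_assoc _ M, hM h, one_mul, hN h]

theorem Amb.pres_one : A.Pres (1 : Matrix X X F) := fun _ => by simp

theorem Amb.pres_smul_one {c : F} (h : A.unit → A.bar c * c = 1) : A.Pres (c • (1 : Matrix X X F)) := fun hu => by
  ext i j
  by_cases hij : i = j
  · subst hij; simp [Matrix.mul_apply, Matrix.one_apply, h hu]
  · simp [Matrix.mul_apply, Matrix.one_apply, hij, Ne.symm hij]

variable (X) in
/-- the ambient group -/
noncomputable def Amb.Isom : Subgroup (GL X F) where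
  carrier := {g | A.Pres (g : Matrix X X F)}
  one_mem' := by simpa using A.pres_one
  mul_mem' ha hb := by simpa [Units.val_mul] using A.pres_mul ha hb
  inv_mem' {g} hg := fun h => by
    have e := hg h
    have e1 : ((g : Matrix X X F).map A.bar)ᵀ = ((g⁻¹ : GL X F) : Matrix X X F) := by
      rw [← Matrix.mul_one ((g : Matrix X X F).map A.bar)ᵀ, ← Units.mul_inv g, ← Matrix.mul_assoc, e, one_mul]
    have hbb : ∀ x : F, A.bar (A.bar x) = x := fun x => by
      rcases A.card with ⟨h', -⟩ | ⟨-, hc, -⟩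
      · exact absurd h h'
      · rw [A.bar_apply, A.bar_apply, ← pow_mul, ← pow_two, ← hc, FiniteField.pow_card]
    rw [← e1, Matrix.transpose_map, Matrix.transpose_transpose, Matrix.map_map,
      show (A.bar ∘ A.bar : F → F) = id from funext hbb, Matrix.map_id]
    exact mul_eq_one_comm.1 e

variable {A}

theorem Amb.mem_isom {g : GL X F} : g ∈ A.Isom X ↔ A.Pres (g : Matrix X X F) := Iff.rfl

theorem Amb.unim_of_smul [Nonempty X] {g h : GL X F} (hg : g ∈ A.Isom X) (hh : h ∈ A.Isom X) {c : F}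
    (e : (g : Matrix X X F) = c • (h : Matrix X X F)) : A.Unim c := by
  obtain ⟨i⟩ := ‹Nonempty X›
  have hc : c ≠ 0 := fun h0 => by
    rw [h0, zero_smul] at e
    exact one_ne_zero (α := Matrix X X F) (by rw [← Units.mul_inv g, e, zero_mul])
  refine ⟨hc, fun hu => ?_⟩
  have h1 := hg hu
  rw [e, show (c • (h : Matrix X X F)).map A.bar = A.bar c • (h : Matrix X X F).map A.bar by
    ext a b; simp, Matrix.transpose_smul, Matrix.smul_mul, Matrix.mul_smul, hh hu, smul_smul] at h1
  simpa using congrFun (congrFun h1 i) i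

/-- a non-zero scalar matrix -/
def sg (X : Type) [Fintype X] [DecidableEq X] {c : F} (hc : c ≠ 0) : GL X F :=
  ⟨c • 1, c⁻¹ • 1, by simp [smul_smul, hc], by simp [smul_smul, hc]⟩

@[simp] theorem sg_val {c : F} (hc : c ≠ 0) : (sg X hc : Matrix X X F) = c • 1 := rfl

theorem sg_mem {c : F} (hc : A.Unim c) : sg X hc.1 ∈ A.Isom X := A.pres_smul_one hc.2

theorem eq_sg_mul {g h : GL X F} {c : F} (hc : c ≠ 0) (e : (g : Matrix X X F) = c • (h : Matrix X X F)) :
    g = sg X hc * h := Units.ext (by simp [e])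

variable [AddCommGroup X] [Dot X] [Exp3 X]

theorem bar_wm (hu : A.unit) (v : X × X) : ((wm A.ω v).map A.bar)ᵀ = wm A.ω (-v) := by
  ext y x
  simp only [wm, Matrix.transpose_apply, Matrix.map_apply, Matrix.of_apply, Prod.fst_neg, Prod.snd_neg]
  by_cases h : x = y + v.1
  · rw [if_pos h, if_pos (show y = x + -v.1 by rw [h]; abel), map_pow, A.bar_ω hu, ← pow_mul]
    rw [pow_eq_pow_mod (2 * _) A.cube.pow_three, h]
    congr 1
    simp only [dot_add, neg_dot, dot_neg, dot_comm v.2 v.1, neg_neg]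
    generalize dot v.2 y = a
    generalize dot v.1 v.2 = b
    revert a b
    decide
  · rw [if_neg h, if_neg (fun h' => h (by rw [h']; abel)), map_zero]

theorem pres_wm (v : X × X) : A.Pres (wm A.ω v) := fun hu => by
  rw [bar_wm hu, wm_neg_mul A.cube.pow_three]

theorem pres_jm : A.Pres (jm : Matrix X X F) := fun _ => by
  rw [show ((jm : Matrix X X F).map A.bar)ᵀ = jm from ?_, jm_sq]
  ext y x
  simp only [jm, Matrix.transpose_apply, Matrix.map_apply, Matrix.of_apply]
  by_cases h : x = -y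
  · simp [h]
  · rw [if_neg h, map_zero, if_neg (fun h' => h (by rw [h', neg_neg]))]

theorem pres_tm (v : X × X) : A.Pres (tm A.ω A.ω v) := fun hu => by
  have e : ((tm A.ω A.ω v).map A.bar)ᵀ = tm A.ω (A.ω ^ 2) v := by
    simp only [tm, Matrix.map_add _ (map_add A.bar), Matrix.transpose_add]
    rw [show ∀ (c : F) (M : Matrix X X F), (c • M).map A.bar = A.bar c • M.map A.bar from
        fun c M => by ext a b; simp,
      show ∀ (c : F) (M : Matrix X X F), (c • M).map A.bar = A.bar c • M.map A.bar from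
        fun c M => by ext a b; simp,
      Matrix.transpose_smul, Matrix.transpose_smul, Matrix.map_add _ (map_add A.bar),
      Matrix.map_add _ (map_add A.bar), Matrix.transpose_add, Matrix.transpose_add, bar_wm hu, bar_wm hu,
      neg_neg, Matrix.map_one _ (map_zero _) (map_one _), Matrix.transpose_one, map_div₀, map_sub, map_one,
      A.bar_ω hu, map_ofNat]
    abel
  rw [e, tm_mul A.cube, show A.ω ^ 2 * A.ω = 1 by linear_combination A.cube.pow_three, tm_one]

theorem wu_mem (v : X × X) : wu A.cube.pow_three v ∈ A.Isom X := pres_wm v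
theorem ju_mem : (ju : GL X F) ∈ A.Isom X := pres_jm
theorem tu_mem (v : X × X) : tu A.cube v ∈ A.Isom X := pres_tm v

end Cfsg.Agent.Forms.Max.SympNine
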