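import Cfsg.Agent.Lib.Forms.Max.SympNine.Nrm
import Cfsg.Agent.Lib.ZStar.Main

/-!
# The reduction to the isolation of the coordinate inversion
-/

set_option autoImplicit false
set_option linter.unusedSectionVars false
set_option linter.style.haveILetI false

namespace Cfsg.Agent.Forms.Max.SympNine

open Matrix Dot

variable {X : Type} [AddCommGroup X] [Fintype X] [DecidableEq X] [Dot X] [Exp3 X] [DotRepr X]
variable {F : Type*} [Field F]

theorem trace_jm : (jm : Matrix X X F).trace = 1 := by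
  rw [Matrix.trace, Finset.sum_eq_single 0 (fun x _ hx => ?_) (by simp)]
  · simp [jm]
  · have : ¬ x = -x := fun h => hx (by
      have h3 := Exp3.add3 x
      nth_rewrite 2 [h] at h3
      simpa using h3)
    simp [jm, this]

theorem smul_jm_inj {c : F} (h : (jm : Matrix X X F) = c • jm) : c = 1 := by
  have := congrArg Matrix.trace h
  rw [Matrix.trace_smul, trace_jm, smul_eq_mul, mul_one] at this
  exact this.symm

/-- commuting with the inversion up to a scalar is commuting -/
theorem commute_jm_of_smul {g : GL X F} {c : F}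
    (h : (g : Matrix X X F) * jm = c • (jm * (g : Matrix X X F))) : Commute g ju := by
  have e : (g : Matrix X X F) * jm * ((g⁻¹ : GL X F) : Matrix X X F) = c • jm := by
    rw [h, Matrix.smul_mul, Matrix.mul_assoc, Units.mul_inv, Matrix.mul_one]
  have ht := congrArg Matrix.trace e
  rw [Matrix.trace_mul_comm, ← Matrix.mul_assoc, Units.inv_mul, Matrix.one_mul, Matrix.trace_smul, trace_jm,
    smul_eq_mul, mul_one] at ht
  rw [← ht, one_smul] at h
  exact Units.ext (by simpa using h)

theorem mk_eq_iff_smul {g h : GL X F} :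
    Matrix.ProjGenLinGroup.mk g = Matrix.ProjGenLinGroup.mk h ↔ ∃ c : F, (g : Matrix X X F) = c • (h : Matrix X X F) := by
  refine (QuotientGroup.eq (s := Subgroup.center (GL X F))).trans ?_
  constructor
  · intro hz
    obtain ⟨r, hr⟩ := Matrix.GeneralLinearGroup.mem_center_iff_val_mem_range_scalar.1 (Subgroup.inv_mem _ hz)
    refine ⟨r, ?_⟩
    rw [show g = h * (g⁻¹ * h)⁻¹ by group, Units.val_mul, ← hr]
    ext i j
    simp [Matrix.scalar_apply, Matrix.mul_diagonal, mul_comm]
  · rintro ⟨c, e⟩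
    refine Matrix.GeneralLinearGroup.mem_center_iff_val_mem_range_scalar.2 ⟨c⁻¹, ?_⟩
    have hc : c ≠ 0 := fun h0 => by
      rw [h0, zero_smul] at e
      exact one_ne_zero (α := Matrix X X F) (by rw [← Units.mul_inv g, e, zero_mul])
    rw [Units.val_mul, show (h : Matrix X X F) = c⁻¹ • (g : Matrix X X F) by rw [e, inv_smul_smul₀ hc],
      Matrix.mul_smul, Units.inv_mul]
    ext i j
    simp [Matrix.scalar_apply, Matrix.diagonal, Matrix.one_apply]

variable [Fintype F] {A : Amb F} {H : Subgroup (GL X F)}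

local notation "π" => Matrix.ProjGenLinGroup.mk (n := X) (R := F)

theorem mk_ju_ne_one [Nontrivial X] : π (ju : GL X F) ≠ 1 := fun h => by
  rw [← map_one π, mk_eq_iff_smul] at h
  obtain ⟨c, hc⟩ := h
  obtain ⟨x, hx⟩ := exists_ne (0 : X)
  have e := congrFun (congrFun hc (-x)) x
  have hne : ¬ -x = x := fun h' => hx (by
    have h3 := Exp3.add3 x
    nth_rewrite 2 [← h'] at h3
    simpa using h3)
  simp [jm, Matrix.one_apply, hne] at e

/-- **An isolated inversion forces the normaliser.** -/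
theorem finish [Nontrivial X] (hH : Rich A H)
    (hiso : ∀ g ∈ H, Commute (g * ju * g⁻¹) (ju : GL X F) → g * ju * g⁻¹ = ju)
    (hcore : ∀ O : Subgroup (GL X F), O ≤ H → (∀ g ∈ H, ∀ x ∈ O, g * x * g⁻¹ ∈ O) →
      (∀ v, wu A.cube.pow_three v ∈ O) → (∃ N : ℕ, Odd N ∧ ∀ x ∈ O, ∃ c : F, ((x ^ N : GL X F) : Matrix X X F) = c • 1) →
      ∀ x ∈ O, Commute x (ju : GL X F) → ∃ c : F, (x : Matrix X X F) = c • 1) :
    ∀ g ∈ H, Nrm A.ω g := by
  classical
  set Hb : Subgroup (Matrix.ProjGenLinGroup X F) := H.map π with hHb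
  haveI : Finite (GL X F) := inferInstance
  haveI : Finite (Matrix.ProjGenLinGroup X F) :=
    Finite.of_surjective π (QuotientGroup.mk'_surjective _)
  let t : Hb := ⟨π ju, ju, hH.mem_ju, rfl⟩
  have ht2 : t * t = 1 := Subtype.ext (by
    show π ju * π ju = 1
    rw [← map_mul, show (ju * ju : GL X F) = 1 from Units.ext (by simp [jm_sq]), map_one])
  have htc : ∀ {x : GL X F}, Commute (π x) (π ju) → Commute x (ju : GL X F) := fun {x} hx => by
    have hx' : π (x * ju) = π (ju * x) := by rw [map_mul, map_mul]; exact hx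
    obtain ⟨c, e⟩ := mk_eq_iff_smul.1 hx'
    exact commute_jm_of_smul (c := c) (by simpa using e)
  have hiso' : Cfsg.IsIsolatedInvolution t := by
    refine ⟨orderOf_eq_prime (by rw [pow_two]; exact ht2) fun h => mk_ju_ne_one (congrArg Subtype.val h), ?_⟩
    rintro ⟨_, g, hg, rfl⟩ hc
    apply Subtype.ext
    have hc' : Commute (π (g * ju * g⁻¹)) (π ju) := by
      have := congrArg Subtype.val hc.symm.eq
      simp only [Subgroup.coe_mul, Subgroup.coe_inv, t] at this
      rw [map_mul, map_mul, map_inv]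
      exact this
    show π g * π ju * (π g)⁻¹ = π ju
    rw [← map_inv, ← map_mul, ← map_mul, hiso g hg (htc hc')]
  set O' : Subgroup Hb := Cfsg.oddCore Hb with hO'
  set O : Subgroup (GL X F) := H ⊓ (O'.map Hb.subtype).comap π with hO
  have memO : ∀ {x : GL X F}, x ∈ O ↔ ∃ hx : x ∈ H, (⟨π x, x, hx, rfl⟩ : Hb) ∈ O' := fun {x} => by
    constructor
    · rintro ⟨hx, y, hy, e⟩
      exact ⟨hx, by rw [show (⟨π x, x, hx, rfl⟩ : Hb) = y from Subtype.ext e.symm]; exact hy⟩
    · rintro ⟨hx, hy⟩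
      exact ⟨hx, _, hy, rfl⟩
  haveI hn : O'.Normal := by rw [hO']; haveI : (Cfsg.oddCore Hb).Characteristic := InvChar.Core.pPrimeCore_characteristic 2; infer_instance
  have hconj : ∀ g ∈ H, ∀ x ∈ O, g * x * g⁻¹ ∈ O := fun g hg x hx => by
    obtain ⟨hxH, hx'⟩ := memO.1 hx
    refine memO.2 ⟨mul_mem (mul_mem hg hxH) (inv_mem hg), ?_⟩
    have := hn.conj_mem _ hx' ⟨π g, g, hg, rfl⟩
    convert this using 1
    exact Subtype.ext (by simp)
  have hcomm : ∀ g, ∀ hg : g ∈ H, ju * g * (ju : GL X F)⁻¹ * g⁻¹ ∈ O := fun g hg => by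
    refine memO.2 ⟨mul_mem (mul_mem (mul_mem hH.mem_ju hg) (inv_mem hH.mem_ju)) (inv_mem hg), ?_⟩
    have := Cfsg.Agent.ZStar.Main.commutator_mem_oddCore hiso' ⟨π g, g, hg, rfl⟩
    convert this using 1
    exact Subtype.ext (by simp [t])
  have hwO : ∀ v, wu A.cube.pow_three v ∈ O := fun v => by
    have h := hcomm (wu A.cube.pow_three v) (hH.mem_wu v)
    have e : ju * wu A.cube.pow_three v * (ju : GL X F)⁻¹ * (wu A.cube.pow_three v)⁻¹ =
        wu A.cube.pow_three v := Units.ext (by
      show jm * wm A.ω v * jm * wm A.ω (-v) = wm A.ω v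
      rw [jm_wm, Matrix.mul_assoc (wm A.ω (-v)), jm_sq, Matrix.mul_one, wm_mul A.cube.pow_three, sf_self,
        ZMod.val_zero, pow_zero, one_smul, two_nsmul_eq (-v), neg_neg])
    rwa [e] at h
  have hodd : Odd (Nat.card O') := InvChar.Core.odd_card_oddCore
  have hN : ∃ N : ℕ, Odd N ∧ ∀ x ∈ O, ∃ c : F, ((x ^ N : GL X F) : Matrix X X F) = c • 1 := by
    refine ⟨Nat.card O', hodd, fun x hx => ?_⟩
    obtain ⟨hxH, hx'⟩ := memO.1 hx
    have h1 := congrArg (fun y : O' => ((y : Hb) : Matrix.ProjGenLinGroup X F))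
      (pow_card_eq_one' (x := (⟨_, hx'⟩ : O')))
    simp only [SubmonoidClass.coe_pow, OneMemClass.coe_one] at h1
    rw [← map_pow, ← map_one π, mk_eq_iff_smul] at h1
    simpa using h1
  have hfpf := hcore O inf_le_left hconj hwO hN
  -- the inversion inverts the odd core
  have hinv : ∀ y ∈ O', t * y * t = y⁻¹ := by
    intro y hy
    let φ : O' → O' := fun z => ⟨z⁻¹ * (t * z * t),
      mul_mem (inv_mem z.2) (by
        have := hn.conj_mem _ z.2 t
        rwa [inv_eq_of_mul_eq_one_right ht2] at this)⟩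
    have hinj : Function.Injective φ := fun a b h => by
      have h' : (a : Hb)⁻¹ * (t * a * t) = (b : Hb)⁻¹ * (t * b * t) := congrArg Subtype.val h
      have hfix : t * ((b : Hb) * (a : Hb)⁻¹) * t = (b : Hb) * (a : Hb)⁻¹ := by
        have hti : t⁻¹ = t := inv_eq_of_mul_eq_one_right ht2
        calc t * ((b : Hb) * (a : Hb)⁻¹) * t = (t * b * t) * (t * a * t)⁻¹ := by
              rw [_root_.mul_inv_rev, _root_.mul_inv_rev, hti]; simp only [mul_assoc]
              rw [← mul_assoc t t, ht2, one_mul]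
          _ = _ := by
              rw [show t * a * t = (a : Hb) * ((b : Hb)⁻¹ * (t * b * t)) by rw [← h', mul_inv_cancel_left]]
              group
      obtain ⟨⟨_, x, hx, hxe⟩, hzmem⟩ : ∃ z : Hb, z = (b : Hb) * (a : Hb)⁻¹ := ⟨_, rfl⟩
      have hxO : x ∈ O := memO.2 ⟨hx, by
        have := mul_mem b.2 (inv_mem a.2)
        rw [← hzmem] at this
        convert this using 1
        exact Subtype.ext hxe⟩
      rw [← hzmem] at hfix
      have hcx : Commute (π x) (π ju) := by
        have e := congrArg Subtype.val hfix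
        simp only [Subgroup.coe_mul, t, ← hxe] at e
        have h2 : π ju * π ju = 1 := congrArg Subtype.val ht2
        show π x * π ju = π ju * π x
        nth_rewrite 1 [← e]
        rw [mul_assoc, h2, mul_one]
      obtain ⟨c, hc⟩ := hfpf x hxO (htc hcx)
      have hx1 : π x = 1 := by rw [← map_one π, mk_eq_iff_smul]; exact ⟨c, by simpa using hc⟩
      have : (b : Hb) * (a : Hb)⁻¹ = 1 := by
        rw [← hzmem]; exact Subtype.ext (hxe.symm.trans hx1)
      exact Subtype.ext (mul_inv_eq_one.1 this).symm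
    obtain ⟨z, hz⟩ := Finite.surjective_of_injective hinj ⟨y, hy⟩
    have hz' : (z : Hb)⁻¹ * (t * z * t) = y := congrArg Subtype.val hz
    rw [← hz']
    have hti : t⁻¹ = t := inv_eq_of_mul_eq_one_right ht2
    rw [_root_.mul_inv_rev, inv_inv, _root_.mul_inv_rev, _root_.mul_inv_rev, hti]
    simp only [mul_assoc]
    rw [ht2, mul_one]
  have hab : ∀ a ∈ O', ∀ b ∈ O', a * b = b * a := fun a ha b hb => by
    have e := hinv _ (mul_mem ha hb)
    rw [show t * (a * b) * t = (t * a * t) * (t * b * t) by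
      simp only [mul_assoc]; rw [← mul_assoc t t, ht2, one_mul], hinv a ha, hinv b hb, ← _root_.mul_inv_rev,
      _root_.inv_inj] at e
    exact e.symm
  have hOA : ∀ x ∈ O, ∀ v, ∃ c : F, (x : Matrix X X F) * wm A.ω v = c • (wm A.ω v * (x : Matrix X X F)) := by
    intro x hx v
    obtain ⟨hxH, hx'⟩ := memO.1 hx
    obtain ⟨hwH, hw'⟩ := memO.1 (hwO v)
    have e := congrArg Subtype.val (hab _ hx' _ hw')
    simp only [Subgroup.coe_mul, ← map_mul] at e
    simpa using mk_eq_iff_smul.1 e
  intro g hg v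
  have hxO := hconj g hg _ (hwO v)
  set x := g * wu A.cube.pow_three v * g⁻¹ with hx
  have hxn : Nrm A.ω x := fun w => ⟨w, hOA x hxO w⟩
  obtain ⟨u, σ, g₀, hσ, ha, hfac⟩ := hxn.exists_factor A.cube
  have hid : σ = id := by
    funext w
    obtain ⟨c, hc⟩ := hOA x hxO w
    rw [hfac, Units.val_mul, Matrix.mul_assoc, ha w, ← Matrix.mul_assoc, ← Matrix.mul_assoc] at hc
    have hc' := congrArg (fun M => wm A.ω (-u) * M * ((g₀⁻¹ : GL X F) : Matrix X X F)) hc
    simp only [wu_val, Matrix.mul_smul, Matrix.smul_mul] at hc'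
    simp only [Matrix.mul_assoc, Units.mul_inv, Matrix.mul_one] at hc'
    rw [← Matrix.mul_assoc, wm_neg_mul A.cube.pow_three, Matrix.one_mul, ← Matrix.mul_assoc,
      wm_mul A.cube.pow_three, Matrix.smul_mul, wm_mul A.cube.pow_three, smul_smul, smul_smul] at hc'
    have := (wm_inj A.cube hc').1
    rw [this]
    simp [add_comm (-u) w]
  subst hid
  obtain ⟨c, hc⟩ := Acts.unique A.cube ha (show Acts A.ω ((1 : GL X F) : Matrix X X F) id by
    rw [Units.val_one]; exact acts_one)
  refine ⟨u, c, ?_⟩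
  have e : ((g * wu A.cube.pow_three v : GL X F) : Matrix X X F) = ((x * g : GL X F) : Matrix X X F) := by
    rw [hx]; simp [Matrix.mul_assoc]
  rw [Units.val_mul, Units.val_mul, hfac, Units.val_mul, hc] at e
  simpa using e

end Cfsg.Agent.Forms.Max.SympNine
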