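import Cfsg.Agent.Lib.Forms.Max.SympNine.ThreeMat
import Cfsg.Agent.Lib.Forms.Max.SympNine.Finish

/-!
# Degree three, odd characteristic: the normaliser or a full plane group
-/

set_option autoImplicit false
set_option linter.unusedSectionVars false
set_option linter.style.haveILetI false

namespace Cfsg.Agent.Forms.Max.SympNine.Three

open Matrix
open scoped MatrixGroups

variable {F : Type*} [Field F] [Fintype F]

local notation "T3" => GL (ZMod 3) F

/-- a subgroup of a finite group from a closed subset containing one -/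
def finSub {G : Type*} [Group G] [Finite G] (s : Set G) (h1 : (1 : G) ∈ s)
    (hm : ∀ a ∈ s, ∀ b ∈ s, a * b ∈ s) : Subgroup G where
  carrier := s
  one_mem' := h1
  mul_mem' := fun {a b} ha hb => hm a ha b hb
  inv_mem' := fun {a} ha => by
    have hpow : ∀ n : ℕ, a ^ n ∈ s := fun n => by
      induction n with
      | zero => simpa using h1
      | succ n ih => rw [pow_succ]; exact hm _ ih _ ha
    rw [show a⁻¹ = a ^ (orderOf a - 1) from inv_eq_of_mul_eq_one_right (by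
      rw [← pow_succ', Nat.sub_add_cancel (orderOf_pos a), pow_orderOf_eq_one])]
    exact hpow _

section Sigma

local notation "L3" => ZMod 3 × ZMod 3

theorem sym_apply {σ : L3 → L3} (h : Sym σ) (v : L3) :
    σ v = (v.1 * (σ (1, 0)).1 + v.2 * (σ (0, 1)).1, v.1 * (σ (1, 0)).2 + v.2 * (σ (0, 1)).2) := by
  have h0 : σ 0 = 0 := by have := h.add 0 0; rw [add_zero, left_eq_add] at this; exact this
  obtain ⟨a, b⟩ := v
  have key : ∀ (c : ZMod 3) (u : L3), σ (c * u.1, c * u.2) = (c * (σ u).1, c * (σ u).2) := by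
    intro c u
    rcases zmod_three c with rfl | rfl | rfl
    · simp only [zero_mul]; exact h0
    · simp
    · have hn : σ (-u) = -σ u := eq_neg_of_add_eq_zero_left (by rw [← h.add, neg_add_cancel, h0])
      simp only [neg_one_mul]
      exact hn
  have k1 := key a (1, 0)
  have k2 := key b (0, 1)
  simp only [mul_one, mul_zero] at k1 k2
  have e : ((a, b) : L3) = (a, 0) + (0, b) := by simp
  conv_lhs => rw [e, h.add, k1, k2]
  simp

/-- the matrix of a symplectic map of the two-dimensional label space -/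
def toSL {σ : L3 → L3} (h : Sym σ) : SL(2, ZMod 3) :=
  ⟨!![(σ (1, 0)).1, (σ (0, 1)).1; (σ (1, 0)).2, (σ (0, 1)).2], by
    rw [Matrix.det_fin_two_of]
    have e := h.form (1, 0) (0, 1)
    simp [sf, Dot.dot] at e
    linear_combination e⟩

theorem toSL_comp {σ τ : L3 → L3} (hσ : Sym σ) (hτ : Sym τ) : toSL (hσ.comp hτ) = toSL hσ * toSL hτ := by
  apply Subtype.ext
  rw [Matrix.SpecialLinearGroup.coe_mul]
  have e1 := sym_apply hσ (τ (1, 0))
  have e2 := sym_apply hσ (τ (0, 1))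
  ext i j
  fin_cases i <;> fin_cases j <;> simp [toSL, Matrix.mul_apply, Fin.sum_univ_two, Function.comp_apply] <;>
    (first | rw [e1] | rw [e2]) <;> ring

theorem toSL_inj {σ τ : L3 → L3} (hσ : Sym σ) (hτ : Sym τ) (h : toSL hσ = toSL hτ) : σ = τ := by
  have e := congrArg Subtype.val h
  have h00 := congrFun (congrFun e 0) 0
  have h01 := congrFun (congrFun e 0) 1
  have h10 := congrFun (congrFun e 1) 0
  have h11 := congrFun (congrFun e 1) 1
  simp [toSL] at h00 h01 h10 h11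
  funext v
  rw [sym_apply hσ, sym_apply hτ, h00, h01, h10, h11]

theorem sym_id : Sym (id : L3 → L3) := ⟨fun _ _ => rfl, fun _ _ => rfl⟩

theorem toSL_id : toSL sym_id = 1 := by
  apply Subtype.ext
  ext i j
  fin_cases i <;> fin_cases j <;> simp [toSL]

theorem sym_neg : Sym (Neg.neg : L3 → L3) := ⟨fun a b => neg_add a b, fun a b => by simp⟩

theorem toSL_neg : toSL sym_neg = -1 := by
  apply Subtype.ext
  rw [Matrix.SpecialLinearGroup.coe_neg, Matrix.SpecialLinearGroup.coe_one]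
  ext i j
  fin_cases i <;> fin_cases j <;> simp [toSL]

set_option maxRecDepth 20000 in
theorem sl_invol : ∀ L : SL(2, ZMod 3), L * L = 1 → L = 1 ∨ L = -1 := by decide

set_option maxRecDepth 20000 in
theorem sl_orders : ∀ L : SL(2, ZMod 3), L ^ 4 = 1 ∨ L ^ 6 = 1 := by decide

/-- the label map of the discrete Fourier matrix -/
def rot : SL(2, ZMod 3) := ⟨!![0, -1; 1, 0], by decide⟩

/-- the label map of the diagonal transvection -/
def shear : SL(2, ZMod 3) := ⟨!![1, 0; 2, 1], by decide⟩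

set_option maxRecDepth 20000 in
theorem sl_core : ∀ L : SL(2, ZMod 3), (rot * L * rot⁻¹ * L⁻¹) ^ 3 = 1 →
    (shear * L * shear⁻¹ * L⁻¹) ^ 3 = 1 → L = 1 ∨ L = -1 := by decide

theorem sl_pow_three {L : SL(2, ZMod 3)} {N : ℕ} (hN : Odd N) (h : L ^ N = 1) : L ^ 3 = 1 := by
  obtain ⟨k, hk⟩ := hN
  rcases sl_orders L with h' | h'
  · have hd : orderOf L ∣ Nat.gcd N 4 := Nat.dvd_gcd (orderOf_dvd_of_pow_eq_one h) (orderOf_dvd_of_pow_eq_one h')
    have hc : Nat.gcd N 4 = 1 := by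
      have h2 : Nat.Coprime N 2 := Nat.coprime_two_right.2 ⟨k, hk⟩
      exact Nat.Coprime.pow_right 2 h2
    rw [hc, Nat.dvd_one, orderOf_eq_one_iff] at hd
    rw [hd, one_pow]
  · have hd : orderOf L ∣ Nat.gcd N 6 := Nat.dvd_gcd (orderOf_dvd_of_pow_eq_one h) (orderOf_dvd_of_pow_eq_one h')
    refine orderOf_dvd_iff_pow_eq_one.1 (hd.trans ?_)
    have h2 : Nat.Coprime (Nat.gcd N 6) 2 :=
      Nat.Coprime.coprime_dvd_left (Nat.gcd_dvd_left N 6) (Nat.coprime_two_right.2 ⟨k, hk⟩)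
    exact h2.dvd_of_dvd_mul_left (show Nat.gcd N 6 ∣ 2 * 3 from Nat.gcd_dvd_right N 6)

end Sigma

variable {ω : F}

theorem acts_sigma_unique {X : Type} [AddCommGroup X] [Fintype X] [DecidableEq X] [Dot X] [Exp3 X] [DotRepr X]
    (hc : Cube F ω) {g : GL X F} {σ τ : X × X → X × X} {c : F} {h : GL X F}
    (hg : Acts ω (g : Matrix X X F) σ) (hh : Acts ω (h : Matrix X X F) τ)
    (e : (g : Matrix X X F) = c • (h : Matrix X X F)) : σ = τ := by
  funext v
  have e1 := hg v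
  rw [e, Matrix.smul_mul, hh v, Matrix.mul_smul] at e1
  have hc0 : c ≠ 0 := fun h0 => by
    rw [h0, zero_smul] at e
    exact one_ne_zero (α := Matrix X X F) (by rw [← Units.mul_inv g, e, zero_mul])
  have e2 := congrArg (fun M => c⁻¹ • M * ((h⁻¹ : GL X F) : Matrix X X F)) e1
  simp only [smul_smul, inv_mul_cancel₀ hc0, one_smul, Matrix.mul_assoc, Units.mul_inv, Matrix.mul_one] at e2
  exact ((wm_inj hc (c := 1) (by rw [one_smul]; exact e2)).1).symm

/-- the discrete Fourier matrix -/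
def dft (ω : F) : Matrix (ZMod 3) (ZMod 3) F := (2 * ω + 1)⁻¹ • m3 1 1 1 1 ω (ω ^ 2) 1 (ω ^ 2) ω

theorem s_sq (hc : Cube F ω) : (2 * ω + 1) * (2 * ω + 1) = -3 := by linear_combination 4 * hc.sum

theorem s_ne (hc : Cube F ω) : 2 * ω + 1 ≠ 0 := fun h => hc.three (by
  have e := s_sq hc; rw [h, zero_mul] at e; linear_combination e)

theorem wm_three (a b : ZMod 3) : wm ω ((a, b) : ZMod 3 × ZMod 3) =
    Matrix.of fun y x => if y = x + a then ω ^ (b * x + 2 * (a * b)).val else 0 := rfl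

theorem dft_acts (hc : Cube F ω) : Acts ω (dft ω) (fun v : ZMod 3 × ZMod 3 => (-v.2, v.1)) := by
  rintro ⟨a, b⟩
  have hd : dft ω = Matrix.of fun y x : ZMod 3 => (2 * ω + 1)⁻¹ * ω ^ (y * x).val := by
    rw [dft, m3_smul]
    have h1 : ZMod.val (1 : ZMod 3) = 1 := rfl
    have h2 : ZMod.val (2 : ZMod 3) = 2 := rfl
    apply ext3 <;> simp [h1, h2, show (2 : ZMod 3) * 2 = 1 by decide]
  rw [hd, wm_three, wm_three]
  ext y x
  rw [Matrix.mul_apply, Finset.sum_eq_single (x + a) (fun z _ hz => by simp [hz]) (by simp), Matrix.mul_apply,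
    Finset.sum_eq_single (y + b) (fun z _ hz => by
      have : ¬ y = z + -b := fun h => hz (by rw [h]; abel)
      simp [this]) (by simp)]
  simp only [Matrix.of_apply, if_true, if_pos (show y = y + b + -b by abel)]
  rw [mul_assoc, ← pow_val_add hc.pow_three, mul_comm (ω ^ _) _, mul_assoc, ← pow_val_add hc.pow_three]
  congr 3
  have h3 : (3 : ZMod 3) = 0 := by decide
  linear_combination (a * b) * h3

variable (A : Amb F)

theorem dft_det_ne (hc : Cube F ω) : (dft ω).det ≠ 0 := by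
  have e : dft ω * ((2 * ω + 1)⁻¹ • m3 1 1 1 1 (ω ^ 2) ω 1 ω (ω ^ 2)) = (-1 : F) • 1 := by
    rw [dft, Matrix.smul_mul, Matrix.mul_smul, smul_smul, m3_mul, m3_smul, one_eq, m3_smul]
    have hs := s_ne hc
    have h2 := s_sq hc
    have h3 := hc.pow_three
    have h4 := hc.sum
    apply ext3 <;> simp <;> field_simp <;>
      first
        | linear_combination hc.sum
        | linear_combination h2
        | linear_combination -h2
        | linear_combination h2 + 2 * h3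
        | grobner
  intro h
  have := congrArg Matrix.det e
  rw [Matrix.det_mul, h, zero_mul, Matrix.det_smul, Matrix.det_one, mul_one] at this
  exact pow_ne_zero _ (neg_ne_zero.2 one_ne_zero) this.symm

/-- the discrete Fourier matrix as an invertible matrix -/
noncomputable def du (hc : Cube F ω) : T3 := Matrix.GeneralLinearGroup.mkOfDetNeZero (dft ω) (dft_det_ne hc)

@[simp] theorem du_val (hc : Cube F ω) : (du hc : Matrix (ZMod 3) (ZMod 3) F) = dft ω := rfl

theorem du_mem {A : Amb F} : du A.cube ∈ A.Isom (ZMod 3) := fun hu => by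
  show ((dft A.ω).map A.bar)ᵀ * dft A.ω = 1
  have hs := s_ne A.cube
  have h2 := s_sq A.cube
  have h3 := A.cube.pow_three
  have hsum := A.cube.sum
  have hb := A.bar_ω hu
  have hbs : A.bar (2 * A.ω + 1) = -(2 * A.ω + 1) := by
    rw [map_add, map_mul, map_ofNat, map_one, hb]; linear_combination 2 * hsum
  rw [dft, show ∀ (c : F) (M : Matrix (ZMod 3) (ZMod 3) F), (c • M).map A.bar = A.bar c • M.map A.bar from
    fun c M => by ext a b; simp, Matrix.transpose_smul, m3_map, Matrix.smul_mul, Matrix.mul_smul, smul_smul,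
    m3_mul, m3_smul, one_eq, map_inv₀, hbs,
    show (-(2 * A.ω + 1))⁻¹ * (2 * A.ω + 1)⁻¹ = (3 : F)⁻¹ by rw [← mul_inv, neg_mul, h2, neg_neg]]
  have h30 := A.cube.three
  apply ext3 <;> simp [map_pow, hb] <;> field_simp <;> grobner

variable {A}
variable {H : Subgroup (GL (ZMod 3) F)}

/-- the plane groups are contained -/
def Planar (A : Amb F) (H : Subgroup T3) : Prop :=
  ∀ Y : PL A, ∃ g ∈ H, (g : Matrix (ZMod 3) (ZMod 3) F) = blk 1 ((Y : SL(2, F)) : Matrix (Fin 2) (Fin 2) F)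

/-- plane elements seen inside -/
noncomputable def J12 (A : Amb F) (H : Subgroup T3) : Subgroup (PL A) :=
  finSub {Y | ∃ g ∈ H, ∃ α β : F,
      (g : Matrix (ZMod 3) (ZMod 3) F) = blk α (β • ((Y : SL(2, F)) : Matrix (Fin 2) (Fin 2) F))}
    ⟨1, one_mem H, 1, 1, by simp [blk_one]⟩
    (by
      rintro Y ⟨g, hg, α, β, e⟩ Y' ⟨g', hg', α', β', e'⟩
      exact ⟨g * g', mul_mem hg hg', α * α', β * β', by
        rw [Units.val_mul, e, e', blk_mul]; simp [smul_smul, mul_comm]⟩)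

theorem planar_of_J12 (hp : A.p ≠ 2) (h : J12 A H = ⊤) : Planar A H := by
  obtain ⟨K, _, _, hK, ⟨Φ⟩⟩ := exists_phi A
  haveI := A.fact
  haveI := A.charP
  let S : Subgroup (PL A) := finSub {Y | ∃ g ∈ H,
      (g : Matrix (ZMod 3) (ZMod 3) F) = blk 1 ((Y : SL(2, F)) : Matrix (Fin 2) (Fin 2) F)}
    ⟨1, one_mem H, by simp [blk_one]⟩
    (by
      rintro Y ⟨g, hg, e⟩ Y' ⟨g', hg', e'⟩
      exact ⟨g * g', mul_mem hg hg', by rw [Units.val_mul, e, e', blk_mul]; simp⟩)
  have hS : S = ⊤ := Plane.eq_top_of_commutators (PL A) Φ hK hp A.ne_three neg_one_mem_PL fun Y Y' => by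
    obtain ⟨g, hg, α, β, e⟩ : Y ∈ J12 A H := h ▸ Subgroup.mem_top Y
    obtain ⟨g', hg', α', β', e'⟩ : Y' ∈ J12 A H := h ▸ Subgroup.mem_top Y'
    refine ⟨g * g' * g⁻¹ * g'⁻¹, mul_mem (mul_mem (mul_mem hg hg') (inv_mem hg)) (inv_mem hg'), ?_⟩
    have key : ((g * g' : T3) : Matrix (ZMod 3) (ZMod 3) F) =
        blk 1 ((Y * Y' * Y⁻¹ * Y'⁻¹ : PL A) : SL(2, F)).1 * ((g' * g : T3) : Matrix (ZMod 3) (ZMod 3) F) := by
      rw [Units.val_mul, Units.val_mul, e, e', blk_mul, blk_mul, blk_mul]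
      simp only [Matrix.smul_mul, Matrix.mul_smul, smul_smul, ← Matrix.SpecialLinearGroup.coe_mul,
        ← Subgroup.coe_mul]
      rw [show Y * Y' * Y⁻¹ * Y'⁻¹ * (Y' * Y) = Y * Y' by group, one_mul, mul_comm α, mul_comm β]
    rw [show g * g' * g⁻¹ * g'⁻¹ = g * g' * (g' * g)⁻¹ by group, Units.val_mul, key, Matrix.mul_assoc,
      Units.mul_inv, Matrix.mul_one]
  exact fun Y => (hS ▸ Subgroup.mem_top Y : Y ∈ S)

theorem pres_of_blk {α : F} {Y : Matrix (Fin 2) (Fin 2) F} (h : A.Pres (blk α Y)) :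
    A.Pres Y ∧ (A.unit → A.bar α * α = 1) := by
  have e : A.unit → A.bar α * α = 1 ∧ (Y.map A.bar)ᵀ * Y = 1 := fun hu => by
    have h' := h hu
    rw [show ((blk α Y).map A.bar)ᵀ = blk (A.bar α) ((Y.map A.bar)ᵀ) by
      rw [blk, m3_map]; apply ext3 <;> simp [blk], blk_mul, ← blk_one] at h'
    exact blk_inj h'
  exact ⟨fun hu => (e hu).2, fun hu => (e hu).1⟩

/-- the plane part of a kernel element -/
def mk2 (lam : F) : Matrix (Fin 2) (Fin 2) F :=
  !![(lam + 1) / 2, (lam - 1) / 2; (lam - 1) / 2, (lam + 1) / 2]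

theorem kap_blk (lam : F) : kap lam = blk lam (mk2 lam) := by
  apply ext3 <;> simp [kap, blk, mk2]

theorem mk2_mul (h2 : (2 : F) ≠ 0) (a b : F) : mk2 a * mk2 b = mk2 (a * b) := by
  ext i j
  fin_cases i <;> fin_cases j <;> simp [mk2, Matrix.mul_apply, Fin.sum_univ_two] <;> field_simp <;> ring

theorem mk2_det (h2 : (2 : F) ≠ 0) (lam : F) : (mk2 lam).det = lam := by
  rw [mk2, Matrix.det_fin_two_of]; field_simp; ring

theorem wm01 : wm ω ((0, 1) : ZMod 3 × ZMod 3) = blk 1 !![ω, 0; 0, ω ^ 2] := by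
  rw [wm_three]
  apply ext3 <;> simp [blk, show ZMod.val (1 : ZMod 3) = 1 from rfl, show ZMod.val (2 : ZMod 3) = 2 from rfl] <;>
    intro h <;> exact absurd h (by decide)

theorem tm01 (hc : Cube F ω) : tm ω ω ((0, 1) : ZMod 3 × ZMod 3) = m3 1 0 0 0 ω 0 0 0 ω := by
  rw [tm_diag hc]
  apply ext3 <;> simp [Dot.dot, Matrix.diagonal, show (2 : ZMod 3) ≠ 0 by decide, show (1 : ZMod 3) ≠ 2 by decide,
    show (2 : ZMod 3) ≠ 1 by decide, show (0 : ZMod 3) ≠ 2 by decide, show (0 : ZMod 3) ≠ 1 by decide]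

theorem za_det (hc : Cube F ω) : Matrix.det !![ω, 0; 0, ω ^ 2] = 1 := by
  rw [Matrix.det_fin_two_of]; linear_combination hc.pow_three

/-- the diagonal plane element of order three -/
def za (hc : Cube F ω) : SL(2, F) := ⟨!![ω, 0; 0, ω ^ 2], za_det hc⟩

theorem za_mem : za A.cube ∈ PL A := fun hu => by
  show ((!![A.ω, 0; 0, A.ω ^ 2]).map A.bar)ᵀ * !![A.ω, 0; 0, A.ω ^ 2] = 1
  ext i j
  fin_cases i <;> fin_cases j <;> simp [Matrix.mul_apply, Fin.sum_univ_two, A.bar_ω hu, map_pow] <;>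
    first | linear_combination A.cube.pow_three | linear_combination (A.ω ^ 3 + 1) * A.cube.pow_three

theorem za_trace : ((za A.cube : SL(2, F)) : Matrix (Fin 2) (Fin 2) F).trace = -1 := by
  simp [za, Matrix.trace_fin_two]; linear_combination A.cube.sum

theorem unim_of_kap (hp : A.p ≠ 2) {g : T3} (hg : g ∈ A.Isom _) {c lam : F}
    (e : (g : Matrix (ZMod 3) (ZMod 3) F) = c • kap lam) : A.Unim c ∧ A.Unim lam := by
  have h2 := A.two_ne hp
  obtain ⟨ν, hν0, hν⟩ := exists_nu A hp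
  have hc0 : c ≠ 0 := fun h0 => by
    rw [h0, zero_smul] at e
    exact one_ne_zero (α := Matrix (ZMod 3) (ZMod 3) F) (by rw [← Units.mul_inv g, e, zero_mul])
  have hl0 : lam ≠ 0 := fun h0 => by
    have hd := (Matrix.GeneralLinearGroup.det g).ne_zero
    rw [Matrix.GeneralLinearGroup.val_det_apply, e, h0, Matrix.det_smul, kap_blk, blk] at hd
    apply hd
    rw [Matrix.det_eq_zero_of_row_eq_zero (0 : ZMod 3) (fun j => by
      revert j; exact forall_zmod (by simp) (by simp) (by simp)), mul_zero]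
  have hP : A.Pres (cs ν ((c * lam) • (1 : Matrix (Fin 2) (Fin 2) F)) c) := by
    rw [← show c • kap lam = cs ν ((c * lam) • (1 : Matrix (Fin 2) (Fin 2) F)) c by
      rw [kap_eq_cs (ν := ν), cs_smul, smul_smul, mul_one], ← e]
    exact hg
  obtain ⟨hY, hm⟩ := pres_of_cs h2 hν0 hν hP
  refine ⟨⟨hc0, hm⟩, hl0, fun hu => ?_⟩
  have h1 := congrFun (congrFun (hY hu) 0) 0
  simp [Matrix.mul_apply, Fin.sum_univ_two] at h1
  linear_combination h1 - (A.bar lam * lam) * hm hu

/-- conjugating the diagonal element by a kernel element -/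
theorem conj_kap (hp : A.p ≠ 2) (hH : Rich A H) {S : Subgroup T3} (hS : ∀ g ∈ H, ∀ x ∈ S, g * x * g⁻¹ ∈ S)
    (hwS : wu A.cube.pow_three ((0, 1) : ZMod 3 × ZMod 3) ∈ S) {g : T3} (hg : g ∈ H) {c lam : F}
    (e : (g : Matrix (ZMod 3) (ZMod 3) F) = c • kap lam) :
    ∃ Y : PL A, (∃ x ∈ S, (x : Matrix (ZMod 3) (ZMod 3) F) = blk 1 ((Y : SL(2, F)) : Matrix (Fin 2) (Fin 2) F)) ∧
      ((Y : SL(2, F)) : Matrix (Fin 2) (Fin 2) F).trace = -1 ∧
      4 * lam * ((za A.cube * (Y : SL(2, F)) : SL(2, F)) : Matrix (Fin 2) (Fin 2) F).trace =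
        2 * lam - 3 * (lam * lam + 1) := by
  have h2 := A.two_ne hp
  obtain ⟨hcu, hlu⟩ := unim_of_kap hp (hH.le hg) e
  have hl0 := hlu.1
  set Y := mk2 lam * !![A.ω, 0; 0, A.ω ^ 2] * mk2 lam⁻¹ with hY
  have hdet : Y.det = 1 := by
    rw [hY, Matrix.det_mul, Matrix.det_mul, mk2_det h2, mk2_det h2, za_det A.cube, mul_one, mul_inv_cancel₀ hl0]
  set x := g * wu A.cube.pow_three ((0, 1) : ZMod 3 × ZMod 3) * g⁻¹
  have hxS : x ∈ S := hS g hg _ hwS
  have hx : (x : Matrix (ZMod 3) (ZMod 3) F) = blk 1 Y := by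
    have key : ((g * wu A.cube.pow_three ((0, 1) : ZMod 3 × ZMod 3) : T3) : Matrix (ZMod 3) (ZMod 3) F) =
        blk 1 Y * (g : Matrix (ZMod 3) (ZMod 3) F) := by
      rw [Units.val_mul, e, wu_val, wm01, kap_blk, Matrix.smul_mul, Matrix.mul_smul, blk_mul, blk_mul, hY,
        Matrix.mul_assoc, mk2_mul h2, inv_mul_cancel₀ hl0, show mk2 (1 : F) = 1 by
          ext i j; fin_cases i <;> fin_cases j <;> simp [mk2] <;> field_simp <;> ring]
      simp
    show ((g * wu A.cube.pow_three ((0, 1) : ZMod 3 × ZMod 3) * g⁻¹ : T3) : Matrix (ZMod 3) (ZMod 3) F) = _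
    rw [Units.val_mul, key, Matrix.mul_assoc, Units.mul_inv, Matrix.mul_one]
  have hxI : x ∈ A.Isom _ := hH.le (mul_mem (mul_mem hg (hH.mem_wu _)) (inv_mem hg))
  have hpres : A.Pres Y := (pres_of_blk (α := 1) (by rw [← hx]; exact hxI)).1
  refine ⟨⟨⟨Y, hdet⟩, hpres⟩, ⟨x, hxS, hx⟩, ?_, ?_⟩
  · show Y.trace = -1
    rw [hY, Matrix.trace_mul_comm, ← Matrix.mul_assoc, mk2_mul h2, inv_mul_cancel₀ hl0]
    simp [mk2, Matrix.trace_fin_two, Matrix.mul_apply, Fin.sum_univ_two]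
    field_simp
    linear_combination 2 * A.cube.sum
  · show 4 * lam * Matrix.trace (!![A.ω, 0; 0, A.ω ^ 2] * Y) = _
    simp [hY, mk2, Matrix.trace_fin_two, Matrix.mul_apply, Fin.sum_univ_two]
    have hs := A.cube.sum
    have h3 := A.cube.pow_three
    field_simp
    grobner

/-- a kernel element of order three or four gives the plane groups -/
theorem planar_of_kap (hp : A.p ≠ 2) (hH : Rich A H) {g : T3} (hg : g ∈ H) {c lam : F}
    (e : (g : Matrix (ZMod 3) (ZMod 3) F) = c • kap lam) (hl : lam = A.ω ∨ lam = A.ω ^ 2 ∨ lam * lam = -1) :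
    Planar A H := by
  have h2 := A.two_ne hp
  obtain ⟨K, _, _, hK, ⟨Φ⟩⟩ := exists_phi A
  haveI := A.fact
  haveI := A.charP
  have hza : (⟨za A.cube, za_mem⟩ : PL A) ∈ J12 A H :=
    ⟨_, hH.mem_wu ((0, 1) : ZMod 3 × ZMod 3), 1, 1, by rw [wu_val, wm01, one_smul]; rfl⟩
  have fin : ∀ b : PL A, b ∈ J12 A H → ((b : SL(2, F)) : Matrix (Fin 2) (Fin 2) F).trace = -1 →
      2 * ((za A.cube * (b : SL(2, F)) : SL(2, F)) : Matrix (Fin 2) (Fin 2) F).trace = 1 → Planar A H :=
    fun b hb ht ht2 => planar_of_J12 hp (Plane.eq_top_of_half (PL A) Φ hK hp A.ne_three neg_one_mem_PL hza hb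
      za_trace ht ht2)
  have case3 : ∀ {g : T3}, g ∈ H → ∀ {c : F}, (g : Matrix (ZMod 3) (ZMod 3) F) = c • kap A.ω → Planar A H := by
    intro g hg c e
    have hdet : (A.ω • mk2 A.ω).det = 1 := by
      rw [Matrix.det_smul, mk2_det h2, Fintype.card_fin]; linear_combination A.cube.pow_three
    have hP : A.Pres (A.ω • mk2 A.ω) := by
      obtain ⟨hcu, -⟩ := unim_of_kap hp (hH.le hg) e
      have hPr : A.Pres (blk (c * A.ω) (c • mk2 A.ω)) := by
        rw [← blk_smul, ← kap_blk, ← e]; exact hH.le hg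
      have hm := pres_of_smul hcu (pres_of_blk hPr).1
      intro hu
      rw [show (A.ω • mk2 A.ω).map A.bar = A.bar A.ω • (mk2 A.ω).map A.bar by ext a b; simp,
        Matrix.transpose_smul, Matrix.smul_mul, Matrix.mul_smul, smul_smul, hm hu, A.unim_ω.2 hu, one_smul]
    refine fin ⟨⟨A.ω • mk2 A.ω, hdet⟩, hP⟩ ⟨g, hg, c * A.ω, c * A.ω ^ 2, ?_⟩ ?_ ?_
    · show (g : Matrix (ZMod 3) (ZMod 3) F) = blk (c * A.ω) ((c * A.ω ^ 2) • (A.ω • mk2 A.ω))
      rw [e, kap_blk, blk_smul, smul_smul, show c * A.ω ^ 2 * A.ω = c by linear_combination c * A.cube.pow_three]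
    · show (A.ω • mk2 A.ω).trace = -1
      simp [mk2, Matrix.trace_fin_two]
      field_simp
      linear_combination 2 * A.cube.sum
    · show 2 * Matrix.trace (!![A.ω, 0; 0, A.ω ^ 2] * (A.ω • mk2 A.ω)) = 1
      simp [mk2, Matrix.trace_fin_two, Matrix.mul_apply, Fin.sum_univ_two]
      have hs := A.cube.sum
      field_simp
      grobner
  rcases hl with rfl | rfl | hi
  · exact case3 hg e
  · refine case3 (mul_mem hg hg) (c := c * c) ?_
    rw [Units.val_mul, e, Matrix.smul_mul, Matrix.mul_smul, smul_smul, kap_mul h2]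
    congr 2
    linear_combination A.ω * A.cube.pow_three
  · obtain ⟨Y, ⟨x, hx, hxe⟩, ht, hτ⟩ := conj_kap hp hH (S := H) (fun g hg x hx => mul_mem (mul_mem hg hx) (inv_mem hg))
      (hH.mem_wu _) hg e
    refine fin Y ⟨x, hx, 1, 1, by rw [one_smul]; exact hxe⟩ ht ?_
    have hl0 : lam ≠ 0 := fun h0 => by rw [h0, zero_mul] at hi; exact one_ne_zero (by linear_combination hi)
    rw [hi, neg_add_cancel, mul_zero, sub_zero] at hτ
    exact mul_left_cancel₀ (mul_ne_zero h2 hl0) (by linear_combination hτ)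

end Cfsg.Agent.Forms.Max.SympNine.Three
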