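import Cfsg.Agent.Lib.Forms.Max.SympNine.Block
import Cfsg.Agent.Lib.Forms.Max.SympNine.Three

/-!
# Degree nine: the plane groups in one block give everything
-/

set_option autoImplicit false
set_option linter.unusedSectionVars false
set_option linter.style.haveILetI false

namespace Cfsg.Agent.Forms.Max.SympNine.Nine.Blocks

open Matrix Dot LinearMono Cfsg.Agent.Forms
open Three (PL blk za za_mem za_det mem_PL Planar)
open scoped MatrixGroups

variable {F : Type*} [Field F]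

local notation "M3" => Matrix L1 L1 F
local notation "T3" => GL L1 F
local notation "T9" => GL L2 F

/-- a plane element seen in degree three -/
noncomputable def bl : SL(2, F) →* T3 :=
  ({ toFun := fun Y => blk 1 (Y : Matrix (Fin 2) (Fin 2) F)
     map_one' := by rw [Matrix.SpecialLinearGroup.coe_one, Three.blk_one]
     map_mul' := fun Y Y' => by rw [Three.blk_mul, one_mul, Matrix.SpecialLinearGroup.coe_mul] } :
    SL(2, F) →* M3).toHomUnits

@[simp] theorem bl_val (Y : SL(2, F)) : (bl Y : M3) = blk 1 (Y : Matrix (Fin 2) (Fin 2) F) := rfl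

/-- the signed exchange of the plane -/
def pw : SL(2, F) := ⟨!![0, 1; -1, 0], by rw [Matrix.det_fin_two_of]; ring⟩

variable [Fintype F] {A : Amb F} {H : Subgroup (GL L2 F)}

theorem wu01 {ω : F} (hc : Cube F ω) : wu hc.pow_three ((0, 1) : L1 × L1) = bl (za hc) :=
  Units.ext (by rw [wu_val, Three.wm01]; rfl)

theorem wu02 {ω : F} (hc : Cube F ω) : wu hc.pow_three ((0, 2) : L1 × L1) = bl (za hc)⁻¹ := by
  rw [map_inv, ← wu01]
  refine Units.ext ?_
  show wm ω ((0, 2) : L1 × L1) = wm ω (-((0, 1) : L1 × L1))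
  rw [show (-((0, 1) : L1 × L1)) = (0, 2) by decide]

theorem pw_za {ω : F} (hc : Cube F ω) : pw * za hc = (za hc)⁻¹ * pw := by
  rw [eq_inv_mul_iff_mul_eq]
  apply Subtype.ext
  rw [Matrix.SpecialLinearGroup.coe_mul, Matrix.SpecialLinearGroup.coe_mul]
  show !![ω, 0; 0, ω ^ 2] * (!![0, 1; -1, 0] * !![ω, 0; 0, ω ^ 2]) = !![0, 1; -1, 0]
  ext i j
  fin_cases i <;> fin_cases j <;> simp [Matrix.mul_apply, Fin.sum_univ_two] <;>
    linear_combination hc.pow_three

theorem pw_mem : pw ∈ PL A := fun _ => by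
  show ((!![0, 1; -1, 0] : Matrix (Fin 2) (Fin 2) F).map A.bar)ᵀ * !![0, 1; -1, 0] = 1
  ext i j
  fin_cases i <;> fin_cases j <;> simp [Matrix.mul_apply, Fin.sum_univ_two]

/-- a diagonal plane element -/
def pd (l : Fˣ) : SL(2, F) := ⟨!![(l : F), 0; 0, ((l⁻¹ : Fˣ) : F)], by rw [Matrix.det_fin_two_of]; simp⟩

theorem pd_mem {l : Fˣ} (hl : A.Unim (l : F)) : pd l ∈ PL A := fun hu => by
  show ((!![(l : F), 0; 0, ((l⁻¹ : Fˣ) : F)]).map A.bar)ᵀ * !![(l : F), 0; 0, ((l⁻¹ : Fˣ) : F)] = 1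
  have h := hl.2 hu
  have h' : A.bar ((l : F)⁻¹) * (l : F)⁻¹ = 1 := by rw [map_inv₀, ← mul_inv, h, inv_one]
  ext i j
  fin_cases i <;> fin_cases j <;> simp [Matrix.mul_apply, Fin.sum_univ_two, h]
  simpa using h'

/-- a normal subgroup of the plane group with the diagonal element of order three is everything -/
theorem top_of_za (hp : A.p ≠ 2) {J : Subgroup (PL A)} (hJ : J.Normal)
    (hza : (⟨za A.cube, za_mem⟩ : PL A) ∈ J) : J = ⊤ := by
  obtain ⟨K, _, _, hK, ⟨Φ⟩⟩ := Three.exists_phi A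
  haveI := A.fact
  haveI := A.charP
  haveI : CharP K A.p := charP_of_card_eq_prime hK
  have h2 := A.two_ne hp
  have h2K : (2 : K) ≠ 0 := fun h => hp ((Nat.prime_dvd_prime_iff_eq A.prime Nat.prime_two).1
    ((CharP.cast_eq_zero_iff K A.p 2).1 (by exact_mod_cast h)))
  have h4 : 4 ≤ Fintype.card K := by
    have := A.prime.two_le
    have := A.ne_three
    omega
  haveI : IsSimpleGroup (Matrix.ProjectiveSpecialLinearGroup (Fin 2) K) :=
    Classical.Linear.isSimpleGroup_PSL_fin (by norm_num) fun _ => h4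
  have hn : (Plane.imgSub (PL A) Φ J).Normal :=
    (hJ.map Φ.toMonoidHom Φ.surjective).map (KleinPSL.pi K) KleinPSL.pi_surjective
  refine Plane.top_of_imgSub (PL A) Φ h2 h2K Three.neg_one_mem_PL
    (hn.eq_bot_or_eq_top.resolve_left fun hbot => ?_)
  have h := Subgroup.mem_bot.1 (hbot ▸ Plane.img_mem (PL A) Φ hza)
  rw [show (1 : Matrix.ProjectiveSpecialLinearGroup (Fin 2) K) = Plane.img (PL A) Φ 1 by simp [Plane.img],
    Plane.img_eq_iff (PL A) Φ h2 h2K Three.neg_one_mem_PL] at h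
  rcases h with h | h
  · have := congrFun (congrFun (congrArg Subtype.val h) 0) 0
    exact A.cube.ne_one (by simpa [za] using this)
  · have e0 := congrFun (congrFun (congrArg Subtype.val h) 0) 0
    have e1 := congrFun (congrFun (congrArg Subtype.val h) 1) 1
    simp [za, Matrix.SpecialLinearGroup.coe_neg] at e0 e1
    exact h2 (by rw [e0] at e1; linear_combination e1)

variable (hH : Rich A H) (hP : Planar A (P0 H))

include hH hP in
theorem exists_bl (j : L1) (Y : PL A) : ∃ g ∈ Bd H, g j = bl (Y : SL(2, F)) := by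
  obtain ⟨x, ⟨g, hg, rfl⟩, e⟩ := hP Y
  exact ⟨_, Bd_shift hH hg j, Units.ext (by rw [bl_val, sub_self]; exact e)⟩

/-- what appears in one block, fixing the first -/
noncomputable def J (A : Amb F) (H : Subgroup T9) (j : L1) : Subgroup (PL A) :=
  ((Bd H ⊓ (Pi.evalMonoidHom (fun _ : L1 => T3) 0).ker).map (Pi.evalMonoidHom (fun _ : L1 => T3) j)).comap
    (bl.comp (PL A).subtype)

theorem mem_J {j : L1} {Y : PL A} : Y ∈ J A H j ↔ ∃ g ∈ Bd H, g 0 = 1 ∧ g j = bl (Y : SL(2, F)) := by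
  simp [J, and_assoc]

include hH hP in
theorem J_top (hp : A.p ≠ 2) {j : L1} (hj : j ≠ 0) : J A H j = ⊤ := by
  refine top_of_za hp ⟨fun Y hY X => ?_⟩ ?_
  · obtain ⟨g, hg, h0, hgj⟩ := mem_J.1 hY
    obtain ⟨k, hk, hkj⟩ := exists_bl hH hP j X
    exact mem_J.2 ⟨k * g * k⁻¹, mul_mem (mul_mem hk hg) (inv_mem hk), by simp [h0], by simp [hgj, hkj]⟩
  · obtain ⟨e, he, hw⟩ : ∃ e : PL A, ((e : SL(2, F)) = za A.cube ∨ (e : SL(2, F)) = (za A.cube)⁻¹) ∧
        wu A.cube.pow_three ((0, j) : L1 × L1) = bl (e : SL(2, F)) := by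
      refine Three.forall_zmod (P := fun j : L1 => j ≠ 0 → ∃ e : PL A,
        ((e : SL(2, F)) = za A.cube ∨ (e : SL(2, F)) = (za A.cube)⁻¹) ∧
          wu A.cube.pow_three ((0, j) : L1 × L1) = bl (e : SL(2, F)))
        (fun h => absurd rfl h) (fun _ => ?_) (fun _ => ?_) j hj
      · exact ⟨⟨_, za_mem⟩, Or.inl rfl, wu01 A.cube⟩
      · exact ⟨⟨_, inv_mem za_mem⟩, Or.inr rfl, wu02 A.cube⟩
    have hee : e * e ∈ J A H j := by
      obtain ⟨g, hg, hgj⟩ := exists_bl hH hP j ⟨pw, pw_mem⟩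
      refine mem_J.2 ⟨_ * g⁻¹, mul_mem (Bd_twist hH hg) (inv_mem hg), ?_, ?_⟩
      · rw [Pi.mul_apply, Pi.inv_apply, show ((0, 0) : L1 × L1) = 0 from rfl]
        have : wu (X := L1) A.cube.pow_three 0 = 1 := Units.ext (by simp)
        rw [this]; simp
      · have h := pw_za A.cube
        have h1 : (pw : SL(2, F)) * (e : SL(2, F))⁻¹ * (pw : SL(2, F))⁻¹ = e := by
          rcases he with e1 | e1 <;> rw [e1]
          · rw [mul_inv_eq_iff_eq_mul, mul_inv_eq_iff_eq_mul]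
            rw [mul_assoc, h, mul_inv_cancel_left]
          · rw [inv_inv, h, mul_inv_cancel_right]
        rw [Pi.mul_apply, Pi.inv_apply, hw, hgj, Subgroup.coe_mul]
        simp only [← map_inv, ← map_mul]
        congr 1
        show (e : SL(2, F)) * pw * (e : SL(2, F))⁻¹ * (pw : SL(2, F))⁻¹ = _
        conv_rhs => arg 2; rw [← h1]
        simp [mul_assoc]
    have h3 : (⟨za A.cube, za_mem⟩ : PL A) ^ 3 = 1 :=
      Subtype.ext (by rw [SubmonoidClass.coe_pow, Plane.cube_of_trace Three.za_trace]; rfl)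
    rcases he with he | he
    · have : (⟨za A.cube, za_mem⟩ : PL A) = e * e * (e * e) := by
        have e' : e = ⟨za A.cube, za_mem⟩ := Subtype.ext he
        rw [e']
        generalize (⟨za A.cube, za_mem⟩ : PL A) = x at h3
        rw [show x * x * (x * x) = x ^ 3 * x by simp [pow_succ, mul_assoc], h3, one_mul]
      exact this ▸ mul_mem hee hee
    · have : (⟨za A.cube, za_mem⟩ : PL A) = e * e := by
        have e' : e = (⟨za A.cube, za_mem⟩ : PL A)⁻¹ := Subtype.ext he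
        rw [e', ← _root_.mul_inv_rev, eq_inv_iff_mul_eq_one, ← mul_assoc, ← pow_three', h3]
      exact this ▸ hee

include hH hP in
theorem exists_pair (hp : A.p ≠ 2) {i j : L1} (hij : i ≠ j) (Y : PL A) :
    ∃ g ∈ Bd H, g i = 1 ∧ g j = bl (Y : SL(2, F)) := by
  obtain ⟨g, hg, h0, h1⟩ := mem_J.1 ((J_top hH hP hp (sub_ne_zero.2 hij.symm)).symm ▸ Subgroup.mem_top Y :
    Y ∈ J A H (j - i))
  exact ⟨_, Bd_shift hH hg i, by simpa using h0, h1⟩

include hH hP in
theorem plane (hp : A.p ≠ 2) (Y : PL A) : bd (Pi.mulSingle (0 : L1) (bl (Y : SL(2, F)))) ∈ H := by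
  obtain ⟨K, _, _, hK, ⟨Φ⟩⟩ := Three.exists_phi A
  haveI := A.fact
  haveI := A.charP
  let S : Subgroup (PL A) :=
    (Bd H).comap ((MonoidHom.mulSingle (fun _ : L1 => T3) 2).comp (bl.comp (PL A).subtype))
  have hS : S = ⊤ := Plane.eq_top_of_commutators (PL A) Φ hK hp A.ne_three Three.neg_one_mem_PL fun a b => by
    obtain ⟨g, hg, g0, g2⟩ := exists_pair hH hP hp (i := 0) (j := 2) (by decide) a
    obtain ⟨h, hh, h1, h2⟩ := exists_pair hH hP hp (i := 1) (j := 2) (by decide) b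
    have := mul_mem (mul_mem (mul_mem hg hh) (inv_mem hg)) (inv_mem hh)
    show Pi.mulSingle (2 : L1) (bl ((a * b * a⁻¹ * b⁻¹ : PL A) : SL(2, F))) ∈ Bd H
    convert this using 1
    funext k
    revert k
    refine Three.forall_zmod ?_ ?_ ?_
    · simp [g0, show (0 : L1) ≠ 2 by decide]
    · simp [h1, show (1 : L1) ≠ 2 by decide]
    · simp [g2, h2]
  have := Bd_shift hH (show Pi.mulSingle (2 : L1) (bl (Y : SL(2, F))) ∈ Bd H from
    (hS.symm ▸ Subgroup.mem_top Y : Y ∈ S)) 1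
  show Pi.mulSingle (0 : L1) (bl (Y : SL(2, F))) ∈ Bd H
  convert this using 1
  funext k
  revert k
  refine Three.forall_zmod ?_ ?_ ?_ <;> simp [show (-1 : L1) = 2 by decide, show (1 : L1) ≠ 2 by decide,
    show (0 : L1) ≠ 2 by decide, show (2 : L1) - 1 = 1 by decide, show (2 : L1) ≠ 0 by decide]

theorem conj_mon {X : Type} [Fintype X] [DecidableEq X] (σ τ : Equiv.Perm X) (t s : X → Fˣ) :
    mon σ t * mon τ s * (mon σ t)⁻¹ =
      mon (σ * τ * σ⁻¹) fun k => t (τ (σ⁻¹ k)) * s (σ⁻¹ k) * (t (σ⁻¹ k))⁻¹ := by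
  rw [mul_inv_eq_iff_eq_mul, mon_mul, mon_mul, inv_mul_cancel_right]
  congr 1
  funext j
  simp

theorem block_eq {Y : SL(2, F)} {σ : Equiv.Perm L2} {s : L2 → Fˣ}
    (hσ : ∀ x : L2, x.2 ≠ 0 → σ x = x ∧ s x = 1) (hσ0 : ∀ a, (σ (a, 0)).2 = 0)
    (h : ∀ a b : L1, blk 1 (Y : Matrix (Fin 2) (Fin 2) F) a b =
      if ((a, 0) : L2) = σ (b, 0) then (s (b, 0) : F) else 0) :
    bd (Pi.mulSingle (0 : L1) (bl Y)) = mon σ s := by
  refine Units.ext (Matrix.ext fun ⟨a, i⟩ ⟨b, j⟩ => ?_)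
  rw [bd_apply, mon_apply]
  by_cases hj : j = 0
  · subst hj
    by_cases hi : i = 0
    · subst hi; simpa using h a b
    · rw [if_neg hi, if_neg (fun e => hi (by have := congrArg Prod.snd e; rw [hσ0] at this; exact this))]
  · obtain ⟨e1, e2⟩ := hσ (b, j) hj
    rw [e1, e2]
    by_cases hij : i = j
    · subst hij
      rw [if_pos rfl, Pi.mulSingle_eq_of_ne hj]
      simp [Matrix.one_apply]
    · simp [hij]

/-- the two moved coordinates of the first block -/
abbrev p1 : L2 := (1, 0)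
/-- the two moved coordinates of the first block -/
abbrev p2 : L2 := (2, 0)

theorem plane_pw : bd (Pi.mulSingle (0 : L1) (bl (pw : SL(2, F)))) =
    mon (Equiv.swap p1 p2) fun x => if x = p1 then -1 else 1 := by
  refine block_eq (fun x hx => ⟨Equiv.swap_apply_of_ne_of_ne ?_ ?_, if_neg ?_⟩)
    (by decide) ?_
  all_goals try (rintro rfl; exact hx rfl)
  refine Three.forall_zmod ?_ ?_ ?_ <;> refine Three.forall_zmod ?_ ?_ ?_ <;>
    simp [blk, pw, Equiv.swap_apply_def, p1, p2, show (1 : L1) ≠ 2 by decide, show (2 : L1) ≠ 1 by decide, show (0 : L1) ≠ 2 by decide, show (2 : L1) ≠ 0 by decide]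

theorem plane_pd (l : Fˣ) : bd (Pi.mulSingle (0 : L1) (bl (pd l))) = dd p1 p2 l := by
  refine block_eq (fun x hx => ⟨rfl, ?_⟩) (fun _ => rfl) ?_
  · rw [if_neg (fun e => hx (by rw [e])), if_neg (fun e => hx (by rw [e]))]
  refine Three.forall_zmod ?_ ?_ ?_ <;> refine Three.forall_zmod ?_ ?_ ?_ <;>
    simp [blk, pd, p1, p2, show (1 : L1) ≠ 2 by decide, show (2 : L1) ≠ 1 by decide, show (0 : L1) ≠ 2 by decide, show (2 : L1) ≠ 0 by decide]

/-- **the plane groups in one block give everything** -/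
theorem _root_.Cfsg.Agent.Forms.Max.SympNine.Nine.big (hp : A.p ≠ 2) (hH : Rich A H) (hP : Planar A (P0 H)) :
    ∀ g ∈ A.Isom L2, (g : Matrix L2 L2 F).det = 1 → g ∈ H := by
  have hw : mon (Equiv.swap p1 p2) (fun x => if x = p1 then -1 else 1) ∈ H :=
    plane_pw (F := F) ▸ plane hH hP hp ⟨pw, pw_mem⟩
  let G : Subgroup (Equiv.Perm L2) := Three.finSub {σ | ∃ t, mon σ t ∈ H}
    ⟨fun _ => 1, by rw [mon_one_one]; exact one_mem H⟩
    (by rintro σ ⟨s, hs⟩ τ ⟨t, ht⟩; exact ⟨_, mon_mul σ τ s t ▸ mul_mem hs ht⟩)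
  have hconj : ∀ {σ : Equiv.Perm L2}, σ ∈ G → ∀ {a b}, Equiv.swap a b ∈ G → Equiv.swap (σ a) (σ b) ∈ G :=
    fun hσ a b hab => by
      rw [Equiv.swap_apply_apply]; exact mul_mem (mul_mem hσ hab) (inv_mem hσ)
  have htr : ∀ v : L2, Equiv.addRight v ∈ G := fun v => ⟨fun _ => 1, by
    have : mon (Equiv.addRight v) (fun _ => (1 : Fˣ)) = wu A.cube.pow_three ((v, 0) : L2 × L2) := by
      refine Units.ext (Matrix.ext fun y x => ?_)
      rw [mon_apply, wu_val]
      by_cases h : y = x + v <;> simp [wm, h]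
    rw [this]
    exact hH.mem_wu _⟩
  have hpc : (Equiv.prodComm L1 L1 : Equiv.Perm L2) ∈ G := ⟨_, sw_mem_H hH⟩
  have hrow : ∀ a b j : L1, a ≠ b → Equiv.swap ((a, j) : L2) (b, j) ∈ G := by
    intro a b j hab
    have h12 : Equiv.swap p1 p2 ∈ G := ⟨_, hw⟩
    obtain ⟨t, ht⟩ : ∃ t : L1, (1 + t = a ∧ 2 + t = b) ∨ (1 + t = b ∧ 2 + t = a) := by
      revert a b; decide
    have := hconj (htr (t, j)) h12
    simp only [Equiv.coe_addRight, p1, p2, Prod.mk_add_mk, zero_add] at this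
    rcases ht with ⟨h1, h2⟩ | ⟨h1, h2⟩ <;> rw [h1, h2] at this
    · exact this
    · rwa [Equiv.swap_comm]
  have hcol : ∀ a b i : L1, a ≠ b → Equiv.swap ((i, a) : L2) (i, b) ∈ G := fun a b i hab => by
    simpa using hconj hpc (hrow a b i hab)
  have hall : ∀ a b : L2, a ≠ b → Equiv.swap a b ∈ G := by
    rintro ⟨a1, a2⟩ ⟨b1, b2⟩ hne
    by_cases h1 : a1 = b1
    · subst h1
      exact hcol _ _ _ fun e => hne (by rw [e])
    by_cases h2 : a2 = b2
    · subst h2
      exact hrow _ _ _ h1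
    have := hconj (hcol a2 b2 b1 h2) (hrow a1 b1 a2 h1)
    rwa [Equiv.swap_apply_of_ne_of_ne (by simp [h1]) (by simp [h1]), Equiv.swap_apply_left] at this
  have hmove : ∀ a b : L2, a ≠ b → ∃ σ ∈ G, σ p1 = a ∧ σ p2 = b := by
    intro a b hab
    have hG : ∀ x y : L2, Equiv.swap x y ∈ G := fun x y => by
      by_cases h : x = y
      · rw [h, Equiv.swap_self]; exact one_mem G
      · exact hall x y h
    refine ⟨Equiv.swap (Equiv.swap p1 a p2) b * Equiv.swap p1 a, mul_mem (hG _ _) (hG _ _), ?_, ?_⟩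
    · rw [Equiv.Perm.mul_apply, Equiv.swap_apply_left, Equiv.swap_apply_of_ne_of_ne ?_ hab]
      intro e
      have h : Equiv.swap p1 a p1 = Equiv.swap p1 a p2 := by rw [Equiv.swap_apply_left, ← e]
      exact absurd ((Equiv.swap p1 a).injective h) (by decide)
    · rw [Equiv.Perm.mul_apply, Equiv.swap_apply_left]
  refine top_of_mono hH.le (fun g hg hgd hgm => mono_mem hH.le ?_ ?_ hg hgd hgm) (hH.mem_tu (i1 (1, 0))) ?_ ?_
  · intro a b hab
    obtain ⟨σ, ⟨t, ht⟩, ha, hb⟩ := hmove a b hab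
    have hm := mul_mem (mul_mem ht hw) (inv_mem ht)
    have hd : ((mon σ t * mon (Equiv.swap p1 p2) (fun x => if x = p1 then -1 else 1) * (mon σ t)⁻¹ : T9) :
        Matrix L2 L2 F).det = 1 := by
      rw [← Matrix.GeneralLinearGroup.val_det_apply, map_mul, map_mul, map_inv, mul_inv_cancel_comm,
        Matrix.GeneralLinearGroup.val_det_apply, mon_det, Equiv.Perm.sign_swap (by decide),
        Finset.prod_eq_single p1 (fun x _ hx => by simp [hx]) (by simp)]
      simp
    rw [conj_mon, ← Equiv.swap_apply_apply, ha, hb] at hm hd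
    exact ⟨_, hm, hd⟩
  · intro a b hab l hl
    obtain ⟨σ, ⟨t, ht⟩, ha, hb⟩ := hmove a b hab
    have hm := mul_mem (mul_mem ht (plane_pd l ▸ plane hH hP hp ⟨pd l, pd_mem hl⟩ : dd p1 p2 l ∈ H)) (inv_mem ht)
    rw [dd, conj_mon, mul_one, mul_inv_cancel] at hm
    convert hm using 2
    rw [dd]
    congr 1
    funext k
    have ea : k = a ↔ σ⁻¹ k = p1 := by rw [← ha, Equiv.Perm.inv_def, Equiv.symm_apply_eq]
    have eb : k = b ↔ σ⁻¹ k = p2 := by rw [← hb, Equiv.Perm.inv_def, Equiv.symm_apply_eq]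
    simp [ea, eb]
  · rw [tu_val, det_tu_const A.cube (v := i1 (1, 0)) (w := ((0, (1, 0)) : L2 × L2)) (by decide) (by decide),
      tm_diag A.cube, Matrix.det_diagonal, Fintype.prod_prod_type]
    have e3 : ∀ f : L1 → F, ∏ x, f x = f 0 * f 1 * f 2 := fun f => Fin.prod_univ_three f
    simp only [e3, Dot.dot]
    simp [show (2 : L1) ≠ 0 by decide]
    linear_combination (A.ω ^ 3 + 1) * A.cube.pow_three
  · intro hm
    obtain ⟨i, hi⟩ := hm ((0 : L1), (0 : L1))
    have key : ∀ a : L1, a ≠ 0 → i = ((a, 0) : L2) := fun a ha => by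
      by_contra hne
      have h := hi _ (Ne.symm hne)
      rw [tu_i1, bd_apply, if_pos rfl, tu_val] at h
      revert ha h
      revert a
      refine Three.forall_zmod (fun _ h => absurd rfl h) (fun _ _ h => ?_) (fun _ _ h => ?_) <;>
      · simp [tm, wm, Dot.dot, show (1 : L1) ≠ -1 by decide,
          show (2 : L1) = -1 by decide, show (-1 : L1) ≠ 0 by decide,
          show (-1 : L1) ≠ 1 by decide, div_eq_zero_iff, A.cube.three, sub_eq_zero] at h
        exact A.cube.ne_one h.symm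
    exact absurd ((key 1 (by decide)).symm.trans (key 2 (by decide))) (by decide)

end Cfsg.Agent.Forms.Max.SympNine.Nine.Blocks
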