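import Cfsg.Agent.Lib.Forms.Max.SympNine.Amb
import Cfsg.Agent.Lib.Forms.Max.LinearMono
import Cfsg.Agent.Lib.Forms.Max.HermFrame.Finish

/-!
# Degree nine: a subgroup with the signed permutations and the diagonal group is everything
-/

set_option autoImplicit false
set_option linter.unusedSectionVars false
set_option linter.style.haveILetI false

namespace Cfsg.Agent.Forms.Max.SympNine

open Matrix Dot LinearMono

/-- the index set in degree nine -/
abbrev L2 := ZMod 3 × ZMod 3

variable {X : Type} [Fintype X] [DecidableEq X] {F : Type*} [Field F]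

theorem mon_mul (σ τ : Equiv.Perm X) (s t : X → Fˣ) :
    mon σ s * mon τ t = mon (σ * τ) fun j => s (τ j) * t j := by
  refine Units.ext ?_
  ext i j
  rw [Units.val_mul, Matrix.mul_apply, Finset.sum_eq_single (τ j) (fun k _ hk => by simp [mon_apply, hk]) (by simp)]
  simp only [mon_apply, if_true, Units.val_mul, Equiv.Perm.mul_apply]
  by_cases h : i = σ (τ j) <;> simp [h]

theorem mon_one_one : mon (1 : Equiv.Perm X) (fun _ => (1 : Fˣ)) = 1 := by
  refine Units.ext ?_
  ext i j
  by_cases h : i = j <;> simp [mon_apply, Matrix.one_apply, h]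

theorem exists_mon {g : GL X F} (hg : Mono g) : ∃ σ s, g = mon σ s := by
  choose f hf using hg
  have hne : ∀ j, (g : Matrix X X F) (f j) j ≠ 0 := fun j h0 => by
    refine mulVec_ne_zero g (x := E F j) (by simp) (funext fun k => ?_)
    rw [LinearMono.col_apply]
    by_cases hk : k = f j
    · rw [hk, h0]; rfl
    · exact hf j k hk
  have hsurj : Function.Surjective f := fun i => by
    by_contra hc
    push Not at hc
    have h1 := congrFun (congrFun (Units.mul_inv g) i) i
    rw [Matrix.mul_apply, Finset.sum_eq_zero (fun j _ => by rw [hf j i (Ne.symm (hc j)), zero_mul])] at h1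
    simp at h1
  refine ⟨Equiv.ofBijective f (Finite.surjective_iff_bijective.1 hsurj), fun j => Units.mk0 _ (hne j), ?_⟩
  refine Units.ext ?_
  ext i j
  rw [mon_apply]
  simp only [Equiv.ofBijective_apply, Units.val_mk0]
  split_ifs with h
  · rw [h]
  · exact hf j i h

variable [Fintype F] {A : Amb F} {H : Subgroup (GL X F)}

theorem unim_of_mon {σ : Equiv.Perm X} {s : X → Fˣ} (h : mon σ s ∈ A.Isom X) (j : X) : A.Unim (s j : F) := by
  refine ⟨(s j).ne_zero, fun hu => ?_⟩
  have e := congrFun (congrFun (h hu) j) j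
  rw [Matrix.mul_apply, Finset.sum_eq_single (σ j) (fun k _ hk => by simp [mon_apply, hk]) (by simp)] at e
  simpa [mon_apply] using e

/-- signed transpositions and the pairs of inverse scalars give every monomial element of determinant one -/
theorem mono_mem (hle : H ≤ A.Isom X) (hsw : ∀ a b : X, a ≠ b → ∃ s : X → Fˣ,
      mon (Equiv.swap a b) s ∈ H ∧ (mon (Equiv.swap a b) s : Matrix X X F).det = 1)
    (hdd : ∀ a b : X, a ≠ b → ∀ l : Fˣ, A.Unim (l : F) → dd a b l ∈ H)
    {g : GL X F} (hg : g ∈ A.Isom X) (hd : (g : Matrix X X F).det = 1) (hm : Mono g) : g ∈ H := by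
  classical
  obtain ⟨σ, s, rfl⟩ := exists_mon hm
  clear hm
  induction σ using Equiv.Perm.swap_induction_on generalizing s with
  | one =>
    -- diagonal: induction on the support
    induction hN : (Finset.univ.filter fun j => s j ≠ 1).card using Nat.strong_induction_on generalizing s with
    | _ N ih =>
    by_cases h1 : ∀ j, s j = 1
    · rw [show s = fun _ => 1 from funext h1, mon_one_one]
      exact one_mem H
    push Not at h1
    obtain ⟨a, ha⟩ := h1
    obtain ⟨b, hab, hb⟩ : ∃ b, a ≠ b ∧ s b ≠ 1 := by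
      by_contra hc
      push Not at hc
      rw [mon_det, map_one, Units.val_one, Int.cast_one, one_mul,
        Finset.prod_eq_single a (fun b _ hb => by rw [hc b hb.symm, Units.val_one]) (by simp)] at hd
      exact ha (Units.ext hd)
    have hua := unim_of_mon hg a
    set s' : X → Fˣ := fun j => (if j = a then (s a)⁻¹ else if j = b then ((s a)⁻¹)⁻¹ else 1) * s j with hs'
    have e : dd a b (s a)⁻¹ * mon 1 s = mon 1 s' := by
      rw [dd, mon_mul, one_mul]; rfl
    have hl : A.Unim (((s a)⁻¹ : Fˣ) : F) := by simpa using hua.inv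
    have hmem := hdd a b hab _ hl
    have h' : mon 1 s' ∈ H := by
      refine ih _ ?_ s' ?_ ?_ rfl
      · rw [← hN]
        refine Finset.card_lt_card (Finset.ssubset_iff_of_subset ?_ |>.2 ⟨a, by simp [ha], by simp [hs']⟩)
        intro j hj
        simp only [Finset.mem_filter, Finset.mem_univ, true_and, hs'] at hj ⊢
        by_cases h2 : j = a
        · subst h2; exact ha
        by_cases h3 : j = b
        · subst h3; exact hb
        simpa [h2, h3] using hj
      · exact e ▸ mul_mem (hle hmem) hg
      · rw [← e, Units.val_mul, Matrix.det_mul, hd, mul_one, dd, mon_det, map_one, Units.val_one, Int.cast_one,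
          one_mul, prod_two hab, Units.mul_inv]
    have := mul_mem (inv_mem hmem) h'
    rwa [← e, inv_mul_cancel_left] at this
  | swap_mul σ a b hab ih =>
    obtain ⟨t, ht, htd⟩ := hsw a b hab
    set t' : X → Fˣ := fun j => (t (σ j))⁻¹ * s j with ht'
    have e : mon (Equiv.swap a b) t * mon σ t' = mon (Equiv.swap a b * σ) s := by
      rw [mon_mul]
      congr 1
      funext j
      simp [ht', ← mul_assoc]
    rw [← e] at hg hd ⊢
    refine mul_mem ht (ih _ ?_ ?_)
    · have := mul_mem (inv_mem (hle ht)) hg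
      rwa [inv_mul_cancel_left] at this
    · rwa [Units.val_mul, Matrix.det_mul, htd, one_mul] at hd

/-! ### Transport to the first nine integers -/

/-- a numbering -/
noncomputable def e9 : L2 ≃ Fin 9 := (Fintype.equivFinOfCardEq (by simp))

variable {H : Subgroup (GL L2 F)}

theorem mem_isom_iff {p : ℕ} (hp : p = A.p) (hF : Fintype.card F = p ^ 2) (hu : A.unit) (g : GL L2 F) :
    Cfsg.Geo.glReindex e9 g ∈ Cfsg.GU 9 F p ↔ g ∈ A.Isom L2 := by
  subst hp
  rw [Forms.HermStd.mem_GU_iff, Classical.Unitary.preserves_iff hF]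
  set M := ((g : Matrix L2 L2 F)) with hM
  have hre : ((Cfsg.Geo.glReindex e9 g : GL (Fin 9) F) : Matrix (Fin 9) (Fin 9) F) = M.submatrix e9.symm e9.symm := rfl
  have hmap : (M.submatrix e9.symm e9.symm).map (Forms.HermStd.qHom hF) = (M.map A.bar).submatrix e9.symm e9.symm := by
    ext i j; simp [Forms.HermStd.qHom_apply, Amb.bar_apply]
  rw [hre, hmap, Matrix.transpose_submatrix, Matrix.submatrix_mul_equiv]
  constructor
  · intro h _
    have h' : Mᵀ * M.map A.bar = 1 := by
      ext i j
      have := congrFun (congrFun h (e9 i)) (e9 j)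
      simpa [Matrix.one_apply] using this
    have := congrArg Matrix.transpose h'
    rwa [Matrix.transpose_mul, Matrix.transpose_transpose, Matrix.transpose_one] at this
  · intro h
    have := congrArg Matrix.transpose (h hu)
    rw [Matrix.transpose_mul, Matrix.transpose_transpose, Matrix.transpose_one] at this
    rw [this, Matrix.submatrix_one_equiv]

/-- **the monomial subgroup and one more element give everything** -/
theorem top_of_mono (hle : H ≤ A.Isom L2)
    (hmono : ∀ g ∈ A.Isom L2, (g : Matrix L2 L2 F).det = 1 → Mono g → g ∈ H)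
    {w : GL L2 F} (hw : w ∈ H) (hwd : (w : Matrix L2 L2 F).det = 1) (hwm : ¬ Mono w) :
    ∀ g ∈ A.Isom L2, (g : Matrix L2 L2 F).det = 1 → g ∈ H := by
  classical
  intro g hg hgd
  rcases A.card with ⟨hu, hc, hp⟩ | ⟨hu, hc, -⟩
  · have hisom : ∀ x : GL L2 F, x ∈ A.Isom L2 := fun x h => absurd h hu
    refine specialLinear_le (M := H) (fun x hx hxm => hmono x (hisom x) (Aschbacher.mem_specialLinear.1 hx) hxm)
      (by simp) ?_ hw hwm (Aschbacher.mem_specialLinear.2 hgd)
    rcases (show A.p = 2 ∨ A.p = 3 ∨ A.p = 4 ∨ 5 ≤ A.p by have := A.prime.two_le; omega) with h | h | h | h <;>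
      first | omega | exact absurd (h ▸ A.prime) (by norm_num)
  · let Φ := Cfsg.Geo.glReindex (F := F) e9
    have hval : ∀ (x : GL L2 F) (i j : Fin 9),
        (Φ x : Matrix (Fin 9) (Fin 9) F) i j = (x : Matrix L2 L2 F) (e9.symm i) (e9.symm j) := fun _ _ _ => rfl
    have hdet : ∀ x : GL L2 F, (Φ x : Matrix (Fin 9) (Fin 9) F).det = (x : Matrix L2 L2 F).det := fun x => by
      show (((x : Matrix L2 L2 F)).submatrix e9.symm e9.symm).det = _
      rw [Matrix.det_submatrix_equiv_self]
    set K : Subgroup (GL (Fin 9) F) := (H.map Φ.toMonoidHom) ⊓ Cfsg.Geo.specialLinear (Fin 9) F with hK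
    have memGU := mem_isom_iff (p := A.p) rfl hc hu
    have hmon : ∀ x : GL L2 F, HermFrame.Mon (Φ x) ↔ Mono x := fun x => by
      constructor
      · intro h j
        obtain ⟨k, a, e⟩ := h (e9 j)
        refine ⟨e9.symm k, fun l hl => ?_⟩
        have := congrFun e (e9 l)
        simp only [HermFrame.act, HermFrame.bas, Matrix.mulVec_single_one] at this
        simp only [Matrix.col_apply, hval, Equiv.symm_apply_apply, Pi.smul_apply, smul_eq_mul] at this
        rw [this, Pi.single_eq_of_ne (fun h' => hl (by rw [← h', Equiv.symm_apply_apply])), mul_zero]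
      · intro h i
        obtain ⟨k, hk⟩ := h (e9.symm i)
        refine ⟨e9 k, (x : Matrix L2 L2 F) k (e9.symm i), funext fun l => ?_⟩
        simp only [HermFrame.act, HermFrame.bas, Matrix.mulVec_single_one]
        simp only [Matrix.col_apply, hval, Pi.smul_apply, smul_eq_mul]
        by_cases hl : l = e9 k
        · rw [hl, Equiv.symm_apply_apply]; simp
        · rw [hk _ (fun h' => hl (by rw [← h', Equiv.apply_symm_apply])), Pi.single_eq_of_ne hl, mul_zero]
    let S : HermFrame.Setup F 9 A.p :=
      { hF := hc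
        K := K
        le := by
          rintro _ ⟨⟨x, hx, rfl⟩, hs⟩
          exact ⟨(memGU x).2 (hle hx), hs⟩
        mono_mem := fun y hy hym => by
          obtain ⟨x, rfl⟩ := Φ.surjective y
          refine ⟨⟨x, hmono x ((memGU x).1 hy.1) ?_ ((hmon x).1 hym), rfl⟩, hy.2⟩
          rw [← hdet]; exact Aschbacher.mem_specialLinear.1 hy.2 }
    have hwK : Φ w ∈ S.K := ⟨⟨w, hw, rfl⟩, Aschbacher.mem_specialLinear.2 (by rw [hdet, hwd])⟩
    obtain ⟨⟨x, hx, e⟩, -⟩ := HermFrame.Setup.top S (Or.inr (by norm_num)) hwK (fun h => hwm ((hmon w).1 h))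
      ⟨(memGU g).2 hg, Aschbacher.mem_specialLinear.2 (by rw [hdet, hgd])⟩
    rwa [← Φ.injective e]

end Cfsg.Agent.Forms.Max.SympNine
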