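import Cfsg.Agent.Lib.Forms.Max.SympNine.Nrm
import Cfsg.Agent.Lib.Forms.Max.SympNine.Top
import Cfsg.Agent.Lib.Forms.Max.SympNine.ThreeBase

/-!
# Degree nine as three blocks of degree three
-/

set_option autoImplicit false
set_option linter.unusedSectionVars false
set_option linter.style.haveILetI false

namespace Cfsg.Agent.Forms.Max.SympNine.Nine

open Matrix Dot
open scoped Kronecker

/-- the index set in degree three -/
abbrev L1 := ZMod 3

variable {F : Type*} [Field F]

local notation "M3" => Matrix L1 L1 F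
local notation "M9" => Matrix L2 L2 F
local notation "T3" => GL L1 F
local notation "T9" => GL L2 F

/-- labels of the first factor -/
def i1 (v : L1 × L1) : L2 × L2 := ((v.1, 0), (v.2, 0))

/-- labels of the second factor -/
def i2 (v : L1 × L1) : L2 × L2 := ((0, v.1), (0, v.2))

theorem wm_kron {ω : F} (hω : ω ^ 3 = 1) (v w : L1 × L1) :
    wm ω ((v.1, w.1), (v.2, w.2)) = wm ω v ⊗ₖ wm ω w := by
  ext y x
  simp only [wm, kroneckerMap_apply, Matrix.of_apply, Prod.ext_iff, Prod.fst_add, Prod.snd_add]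
  by_cases h1 : y.1 = x.1 + v.1 <;> by_cases h2 : y.2 = x.2 + w.1 <;> simp only [h1, h2, and_self, and_false,
    false_and, if_true, if_false, mul_zero, zero_mul]
  rw [← pow_val_add hω]
  congr 2
  show v.2 * x.1 + w.2 * x.2 + 2 * (v.1 * v.2 + w.1 * w.2) = v.2 * x.1 + 2 * (v.1 * v.2) + (w.2 * x.2 + 2 * (w.1 * w.2))
  ring

theorem wm_i1 {ω : F} (hω : ω ^ 3 = 1) (v : L1 × L1) : wm ω (i1 v) = blockDiagonal fun _ : L1 => wm ω v := by
  rw [← kronecker_one]
  exact (wm_kron hω v (0 : L1 × L1)).trans (by rw [wm_zero])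

theorem tm_i1 {ω : F} (hω : ω ^ 3 = 1) (r : F) (v : L1 × L1) :
    tm ω r (i1 v) = blockDiagonal fun _ : L1 => tm ω r v := by
  have hneg : -i1 v = i1 (-v) := by simp [i1]
  rw [tm, hneg, wm_i1 hω, wm_i1 hω, ← blockDiagonal_one, ← blockDiagonal_add, ← blockDiagonal_add,
    ← blockDiagonal_smul, ← blockDiagonal_smul, ← blockDiagonal_add]
  rfl

/-- block diagonal elements -/
noncomputable def bd : (L1 → T3) →* T9 where
  toFun g := ⟨blockDiagonal fun j => (g j : M3), blockDiagonal fun j => (((g j)⁻¹ : T3) : M3), by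
      rw [← blockDiagonal_mul]
      exact (congrArg blockDiagonal (funext fun j => Units.mul_inv (g j))).trans blockDiagonal_one, by
      rw [← blockDiagonal_mul]
      exact (congrArg blockDiagonal (funext fun j => Units.inv_mul (g j))).trans blockDiagonal_one⟩
  map_one' := Units.ext ((congrArg blockDiagonal (funext fun _ => rfl)).trans blockDiagonal_one)
  map_mul' g h := Units.ext (blockDiagonal_mul (fun j => (g j : M3)) fun j => (h j : M3))

@[simp] theorem bd_val (g : L1 → T3) : (bd g : M9) = blockDiagonal fun j => (g j : M3) := rfl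

theorem bd_apply (g : L1 → T3) (y x : L2) :
    (bd g : M9) y x = if y.2 = x.2 then (g y.2 : M3) y.1 x.1 else 0 := by
  rw [bd_val, blockDiagonal_apply]

theorem bd_injective : Function.Injective (bd : (L1 → T3) → T9) := fun g h e => by
  funext j
  refine Units.ext (Matrix.ext fun a b => ?_)
  simpa [bd_apply] using congrFun (congrFun (congrArg (fun u : T9 => (u : M9)) e) (a, j)) (b, j)

theorem bd_det (g : L1 → T3) : (bd g : M9).det = ∏ j, (g j : M3).det := by
  rw [bd_val, det_blockDiagonal]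

variable [Fintype F] {A : Amb F}

theorem bd_mem {g : L1 → T3} : bd g ∈ A.Isom L2 ↔ ∀ j, g j ∈ A.Isom L1 := by
  have e : ((bd g : M9).map A.bar)ᵀ * (bd g : M9) = blockDiagonal fun j => ((g j : M3).map A.bar)ᵀ * (g j : M3) := by
    rw [bd_val, blockDiagonal_map _ _ (map_zero _), blockDiagonal_transpose, ← blockDiagonal_mul]
  constructor
  · intro h j hu
    have h' := h hu
    rw [e] at h'
    ext a b
    have := congrFun (congrFun h' (a, j)) (b, j)
    rw [blockDiagonal_apply, if_pos rfl] at this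
    rw [this]
    simp [Matrix.one_apply]
  · intro h hu
    rw [e, show (fun j => ((g j : M3).map A.bar)ᵀ * (g j : M3)) = 1 from funext fun j => h j hu, blockDiagonal_one]

theorem wu_i1 (v : L1 × L1) : wu A.cube.pow_three (i1 v) = bd fun _ => wu A.cube.pow_three v :=
  Units.ext (wm_i1 A.cube.pow_three v)

theorem tu_i1 (v : L1 × L1) : tu A.cube (i1 v) = bd fun _ => tu A.cube v :=
  Units.ext (tm_i1 A.cube.pow_three A.ω v)

theorem sg_bd {c : F} (hc : c ≠ 0) : sg L2 hc = bd fun _ => sg L1 hc := by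
  refine Units.ext ?_
  rw [bd_val, sg_val, ← blockDiagonal_one, ← blockDiagonal_smul]
  rfl

/-- commuting with the distinguished operator means block diagonal -/
theorem exists_bd {g : T9} (h : Commute g (wu A.cube.pow_three (i2 (0, 1)))) : ∃ f : L1 → T3, g = bd f := by
  have hd : ∀ y x : L2, wm A.ω (i2 ((0, 1) : L1 × L1)) y x = if y = x then A.ω ^ (x.2).val else 0 := fun y x => by
    simp [wm, i2, Dot.dot, ← Prod.zero_eq_mk]
  have hent : ∀ k : T9, Commute k (wu A.cube.pow_three (i2 (0, 1))) → ∀ y x : L2, y.2 ≠ x.2 → (k : M9) y x = 0 := by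
    intro k hk y x hne
    have e := congrFun (congrFun (congrArg (fun u : T9 => (u : M9)) hk.eq) y) x
    simp only [Units.val_mul, wu_val, Matrix.mul_apply, hd] at e
    simp only [mul_ite, mul_zero, ite_mul, zero_mul, Finset.sum_ite_eq, Finset.sum_ite_eq', Finset.mem_univ,
      if_true] at e
    by_contra h0
    exact hne (A.cube.val_inj (mul_left_cancel₀ h0 (by linear_combination -e)))
  let blkOf : T9 → L1 → M3 := fun k j => Matrix.of fun a b => (k : M9) (a, j) (b, j)
  have hmul : ∀ k k' : T9, Commute k (wu A.cube.pow_three (i2 (0, 1))) → ∀ j,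
      blkOf k j * blkOf k' j = blkOf (k * k') j := by
    intro k k' hk j
    ext a b
    simp only [blkOf, Matrix.mul_apply, Matrix.of_apply, Units.val_mul]
    rw [Fintype.sum_prod_type]
    refine Finset.sum_congr rfl fun c _ => ?_
    rw [Finset.sum_eq_single j (fun l _ hl => by rw [hent k hk (a, j) (c, l) (Ne.symm hl), zero_mul]) (by simp)]
  have hone : ∀ j, blkOf 1 j = 1 := fun j => by ext a b; simp [blkOf, Matrix.one_apply]
  refine ⟨fun j => ⟨blkOf g j, blkOf g⁻¹ j, by rw [hmul g g⁻¹ h, mul_inv_cancel, hone],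
    by rw [hmul g⁻¹ g h.inv_left, inv_mul_cancel, hone]⟩, Units.ext ?_⟩
  ext y x
  rw [bd_apply]
  split_ifs with hyx
  · show (g : M9) y x = (g : M9) (y.1, y.2) (x.1, y.2)
    exact congrArg ((g : M9) y) (Prod.ext rfl hyx.symm)
  · exact hent g h y x hyx

/-- translating the blocks -/
theorem shift_conj (a : L1) (g : L1 → T3) :
    wu A.cube.pow_three (i2 (a, 0)) * bd g * (wu A.cube.pow_three (i2 (a, 0)))⁻¹ = bd fun j => g (j - a) := by
  rw [mul_inv_eq_iff_eq_mul]
  refine Units.ext ?_
  have hw : ∀ y x : L2, wm A.ω (i2 ((a, 0) : L1 × L1)) y x = if y = x + (0, a) then 1 else 0 := fun y x => by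
    simp [wm, i2, Dot.dot]
  ext y x
  rw [Units.val_mul, Units.val_mul, Matrix.mul_apply, Matrix.mul_apply, wu_val,
    Finset.sum_eq_single (y - (0, a)) (fun z _ hz => by
      rw [hw, if_neg (fun h => hz (by rw [h]; abel)), zero_mul]) (by simp),
    Finset.sum_eq_single (x + (0, a)) (fun z _ hz => by rw [hw, if_neg hz, mul_zero]) (by simp),
    hw, hw, if_pos (by abel), if_pos rfl, one_mul, mul_one, bd_apply, bd_apply]
  simp [Prod.fst_sub, sub_eq_iff_eq_add]

/-- the quadratic twist -/
noncomputable def dq (A : Amb F) : T9 := bd fun j => wu A.cube.pow_three ((0, j) : L1 × L1)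

theorem dq_nrm : Nrm A.ω (dq A) := by
  refine nrm_of_acts (σ := fun v => (v.1, (v.2.1 + v.1.2, v.2.2 + v.1.1))) fun v => ?_
  have hd : ∀ y x : L2, (dq A : M9) y x = if y = x then A.ω ^ (x.1 * x.2).val else 0 := fun y x => by
    rw [dq, bd_apply]
    by_cases h : y.2 = x.2
    · simp only [wu_val, wm, Matrix.of_apply, Dot.dot, Prod.ext_iff, h, and_true, if_true, add_zero, zero_mul,
        mul_zero, mul_comm x.1]
    · rw [if_neg h, if_neg (fun e => h (by rw [e]))]
  ext y x
  rw [Matrix.mul_apply, Matrix.mul_apply]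
  simp only [hd, ite_mul, zero_mul, mul_ite, mul_zero, Finset.sum_ite_eq, Finset.sum_ite_eq', Finset.mem_univ,
    if_true]
  simp only [wm, Matrix.of_apply]
  by_cases h : y = x + v.1
  · subst h
    simp only [if_true, Prod.fst_add, Prod.snd_add]
    rw [← pow_val_add A.cube.pow_three, ← pow_val_add A.cube.pow_three]
    congr 2
    simp only [Dot.dot, Prod.fst_add, Prod.snd_add]
    have h3 : (3 : ZMod 3) = 0 := by decide
    linear_combination -(v.1.1 * v.1.2) * h3
  · simp [h]

theorem dq_mem : dq A ∈ A.Isom L2 := bd_mem.2 fun _ => wu_mem _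

/-- the inversion of the first factor -/
noncomputable def sE : T9 := bd fun _ => ju

/-- exchanging the factors -/
noncomputable def sw : T9 := LinearMono.mon (Equiv.prodComm L1 L1) fun _ => 1

theorem sw_apply (y x : L2) : ((sw : T9) : M9) y x = if y = x.swap then 1 else 0 := by
  by_cases h : y = x.swap <;> simp [sw, LinearMono.mon_apply, h]

theorem sw_mem : (sw : T9) ∈ A.Isom L2 := fun _ => by
  ext y x
  rw [Matrix.mul_apply, Finset.sum_eq_single y.swap (fun z _ hz => by simp [sw_apply, hz]) (by simp)]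
  simp [sw_apply, Matrix.one_apply, Prod.swap_inj]

theorem sw_nrm {ω : F} : Nrm ω (sw : T9) := by
  refine nrm_of_acts (σ := fun v => (v.1.swap, v.2.swap)) fun v => ?_
  ext y x
  rw [Matrix.mul_apply, Finset.sum_eq_single y.swap (fun z _ hz => by
      rw [sw_apply, if_neg (fun h => hz (by rw [h, Prod.swap_swap])), zero_mul]) (by simp),
    Matrix.mul_apply, Finset.sum_eq_single x.swap (fun z _ hz => by simp [sw_apply, hz]) (by simp)]
  rw [sw_apply, sw_apply, Prod.swap_swap, if_pos rfl, if_pos rfl, one_mul, mul_one]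
  simp only [wm, Matrix.of_apply]
  obtain ⟨y1, y2⟩ := y
  obtain ⟨x1, x2⟩ := x
  obtain ⟨⟨a1, a2⟩, b1, b2⟩ := v
  simp only [Prod.swap_prod_mk, Dot.dot, Prod.mk_add_mk, Prod.mk.injEq]
  simp only [and_comm (a := y2 = x1 + a1), add_comm (b1 * x1), add_comm (a1 * b1)]

/-! ### The group acting on one block -/

variable (H : Subgroup (GL L2 F))

/-- block diagonal members -/
noncomputable def Bd : Subgroup (L1 → T3) := H.comap bd

/-- what acts on the first block -/
noncomputable def P0 : Subgroup T3 := (Bd H).map (Pi.evalMonoidHom (fun _ : L1 => T3) 0)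

variable {H}

theorem mem_Bd {g : L1 → T3} : g ∈ Bd H ↔ bd g ∈ H := Iff.rfl

variable (hH : Rich A H)
include hH

theorem Bd_shift {g : L1 → T3} (hg : g ∈ Bd H) (a : L1) : (fun j => g (j - a)) ∈ Bd H := by
  show bd _ ∈ H
  rw [← shift_conj (A := A)]
  exact mul_mem (mul_mem (hH.mem_wu _) hg) (inv_mem (hH.mem_wu _))

theorem mem_P0 {g : L1 → T3} (hg : g ∈ Bd H) (j : L1) : g j ∈ P0 H :=
  ⟨_, Bd_shift hH hg (-j), by simp⟩

theorem P0_rich : Rich A (P0 H) where
  le := by
    rintro _ ⟨g, hg, rfl⟩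
    exact bd_mem.1 (hH.le hg) 0
  wu v := ⟨1, _, mem_P0 hH (g := fun _ => wu A.cube.pow_three v) (by
    show bd _ ∈ H
    rw [← wu_i1]; exact hH.mem_wu _) 0, by simp⟩
  tu v := ⟨1, _, mem_P0 hH (g := fun _ => tu A.cube v) (by
    show bd _ ∈ H
    rw [← tu_i1]; exact hH.mem_tu _) 0, by simp⟩
  sg c hc := mem_P0 hH (g := fun _ => sg L1 hc.1) (by
    show bd _ ∈ H
    rw [← sg_bd]; exact hH.sg c hc) 0

theorem dq_mem_H : dq A ∈ H := hH.mem_of_nrm dq_mem dq_nrm

theorem sw_mem_H : (sw : T9) ∈ H := hH.mem_of_nrm sw_mem sw_nrm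

/-- twisting a block diagonal member -/
theorem Bd_twist {g : L1 → T3} (hg : g ∈ Bd H) :
    (fun j => wu A.cube.pow_three ((0, j) : L1 × L1) * g j * (wu A.cube.pow_three ((0, j) : L1 × L1))⁻¹) ∈ Bd H := by
  have hd : (fun j : L1 => wu A.cube.pow_three ((0, j) : L1 × L1)) ∈ Bd H := dq_mem_H hH
  exact mul_mem (mul_mem hd hg) (inv_mem hd)

end Cfsg.Agent.Forms.Max.SympNine.Nine
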