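import Cfsg.Agent.Lib.Forms.Max.SympNine.Block

/-!
# The linear group of the labels inside the centraliser of the inversion, in degree three
-/

set_option autoImplicit false
set_option linter.unusedSectionVars false
set_option linter.style.haveILetI false

namespace Cfsg.Agent.Forms.Max.SympNine.Nine

open Matrix Dot
open scoped Kronecker MatrixGroups

variable {F : Type*} [Field F]

local notation "M3" => Matrix L1 L1 F
local notation "M9" => Matrix L2 L2 F
local notation "T3" => GL L1 F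
local notation "T9" => GL L2 F

/-- acting on the first factor -/
noncomputable def k1 : T3 →* T9 :=
  (bd (F := F)).comp (Pi.monoidHom fun _ : L1 => MonoidHom.id T3)

/-- acting on the second factor -/
noncomputable def k2 : T3 →* T9 where
  toFun M := ⟨(1 : M3) ⊗ₖ (M : M3), (1 : M3) ⊗ₖ ((M⁻¹ : T3) : M3),
    by rw [← mul_kronecker_mul, one_mul, Units.mul_inv, one_kronecker_one],
    by rw [← mul_kronecker_mul, one_mul, Units.inv_mul, one_kronecker_one]⟩
  map_one' := Units.ext one_kronecker_one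
  map_mul' M N := Units.ext (by
    show (1 : M3) ⊗ₖ ((M : M3) * (N : M3)) = ((1 : M3) ⊗ₖ (M : M3)) * ((1 : M3) ⊗ₖ (N : M3))
    rw [← mul_kronecker_mul, one_mul])

theorem k1_eq (M : T3) : k1 M = bd fun _ => M := rfl

theorem k1_val (M : T3) : (k1 M : M9) = (M : M3) ⊗ₖ (1 : M3) := by
  rw [k1_eq, bd_val, kronecker_one]

theorem k2_val (M : T3) : (k2 M : M9) = (1 : M3) ⊗ₖ (M : M3) := rfl

theorem k1_k2_comm (a b : T3) : Commute (k1 a) (k2 b) :=
  Units.ext (by
    rw [Units.val_mul, Units.val_mul, k1_val, k2_val, ← mul_kronecker_mul, ← mul_kronecker_mul, one_mul, mul_one,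
      mul_one, one_mul])

theorem k1_inj : Function.Injective (k1 : T3 → T9) := fun a b e =>
  congrFun (bd_injective (e : bd (fun _ => a) = bd fun _ => b)) 0

theorem sE_eq : (sE : T9) = k1 ju := rfl

theorem nrm_k1 {ω : F} (hω : ω ^ 3 = 1) {M : T3} (h : Nrm ω M) : Nrm ω (k1 M) := by
  intro v
  obtain ⟨⟨a, a'⟩, b, b'⟩ := v
  obtain ⟨w, c, e⟩ := h (a, b)
  refine ⟨((w.1, a'), (w.2, b')), c, ?_⟩
  rw [k1_val, show wm ω ((a, a'), (b, b')) = wm ω ((a, b) : L1 × L1) ⊗ₖ wm ω ((a', b') : L1 × L1) from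
      wm_kron hω (a, b) (a', b'), wm_kron hω w (a', b'), ← mul_kronecker_mul, ← mul_kronecker_mul, e, one_mul,
    mul_one, smul_kronecker]

theorem nrm_k2 {ω : F} (hω : ω ^ 3 = 1) {M : T3} (h : Nrm ω M) : Nrm ω (k2 M) := by
  intro v
  obtain ⟨⟨a, a'⟩, b, b'⟩ := v
  obtain ⟨w, c, e⟩ := h (a', b')
  refine ⟨((a, w.1), (b, w.2)), c, ?_⟩
  rw [k2_val, show wm ω ((a, a'), (b, b')) = wm ω ((a, b) : L1 × L1) ⊗ₖ wm ω ((a', b') : L1 × L1) from
      wm_kron hω (a, b) (a', b'), wm_kron hω (a, b) w, ← mul_kronecker_mul, ← mul_kronecker_mul, e, one_mul,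
    mul_one, kronecker_smul]

/-- the antisymmetric vector -/
def v0 : L1 → F := ![0, 1, -1]

theorem comm_entry {X : Type} [AddCommGroup X] [Fintype X] [DecidableEq X] [Dot X] {g : GL X F} (hc : Commute g ju)
    (y x : X) : (g : Matrix X X F) (-y) (-x) = (g : Matrix X X F) y x := by
  have e := congrFun (congrFun (congrArg (fun u : GL X F => (u : Matrix X X F)) hc.eq) (-y)) x
  simp only [Units.val_mul, Matrix.mul_apply, ju_val, jm, Matrix.of_apply] at e
  simpa [neg_inj, eq_comm (a := y)] using e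

theorem fix_iff {g : T3} (hc : Commute g ju) :
    (g : M3) 1 1 - (g : M3) 1 2 = 1 ↔ (g : M3) *ᵥ v0 = v0 := by
  have hz : ∀ y, ((g : M3) *ᵥ v0) y = (g : M3) y 1 - (g : M3) y 2 := fun y => by
    simp [Matrix.mulVec, dotProduct, v0, Three.sum_zmod]
    ring
  constructor
  · intro h
    funext y
    rw [hz]
    refine Three.forall_zmod (P := fun y => (g : M3) y 1 - (g : M3) y 2 = v0 y) ?_ ?_ ?_ y
    · have := comm_entry hc (0 : L1) 1
      rw [neg_zero, show -(1 : ZMod 3) = 2 by decide] at this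
      simp [v0, this]
    · simpa [v0] using h
    · have h1 := comm_entry hc (1 : L1) 1
      have h2 := comm_entry hc (1 : L1) 2
      rw [show -(1 : ZMod 3) = 2 by decide] at h1 h2
      rw [show -(2 : ZMod 3) = 1 by decide] at h2
      rw [h1, h2]
      simp [v0]
      linear_combination -h
  · intro h
    have e := congrFun h 1
    rw [hz] at e
    simpa [v0] using e

variable [Fintype F] {A : Amb F}

theorem k1_mem {M : T3} (h : M ∈ A.Isom L1) : k1 M ∈ A.Isom L2 := bd_mem.2 fun _ => h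

theorem k2_mem {M : T3} (h : M ∈ A.Isom L1) : k2 M ∈ A.Isom L2 := fun hu => by
  rw [k2_val, show ((1 : M3) ⊗ₖ (M : M3)).map A.bar = (1 : M3) ⊗ₖ ((M : M3).map A.bar) from by
      ext y x; by_cases h : y.1 = x.1 <;> simp [Matrix.one_apply, h],
    ← kroneckerMap_transpose, transpose_one, ← mul_kronecker_mul, one_mul, h hu, one_kronecker_one]

theorem wu_i2 (v : L1 × L1) : wu A.cube.pow_three (i2 v) = k2 (wu A.cube.pow_three v) := Units.ext (by
  rw [k2_val, wu_val, wu_val]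
  exact (wm_kron A.cube.pow_three (0 : L1 × L1) v).trans (by rw [wm_zero]))

variable (A) in
/-- the labels' linear group fixing the antisymmetric vector -/
noncomputable def C0 : Subgroup T3 where
  carrier := {l | l ∈ A.Isom L1 ∧ Commute l ju ∧ (∃ σ, Sym σ ∧ Acts A.ω (l : M3) σ) ∧
    (l : M3) 1 1 - (l : M3) 1 2 = 1}
  one_mem' := ⟨one_mem _, Commute.one_left _, ⟨id, Three.sym_id, by rw [Units.val_one]; exact acts_one⟩,
    by simp [Matrix.one_apply]; decide⟩
  mul_mem' := by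
    rintro a b ⟨ha, hca, ⟨σ, hσ, haσ⟩, hfa⟩ ⟨hb, hcb, ⟨τ, hτ, hbτ⟩, hfb⟩
    refine ⟨mul_mem ha hb, hca.mul_left hcb, ⟨σ ∘ τ, hσ.comp hτ, by rw [Units.val_mul]; exact haσ.mul hbτ⟩, ?_⟩
    rw [fix_iff (hca.mul_left hcb), Units.val_mul, ← Matrix.mulVec_mulVec, (fix_iff hcb).1 hfb, (fix_iff hca).1 hfa]
  inv_mem' := by
    rintro a ⟨ha, hca, ⟨σ, hσ, haσ⟩, hfa⟩
    obtain ⟨τ, hτ⟩ := hσ.surjective.hasRightInverse
    have hsym : Sym τ := ⟨fun x y => hσ.injective (by rw [hσ.add, hτ, hτ, hτ]),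
      fun x y => by rw [← hσ.form, hτ, hτ]⟩
    refine ⟨inv_mem ha, hca.inv_left, ⟨τ, hsym, fun v => ?_⟩, ?_⟩
    · calc ((a⁻¹ : T3) : M3) * wm A.ω v
          = ((a⁻¹ : T3) : M3) * (wm A.ω (σ (τ v)) * (a : M3)) * ((a⁻¹ : T3) : M3) := by
            rw [hτ, ← Matrix.mul_assoc, Matrix.mul_assoc, Units.mul_inv, Matrix.mul_one]
        _ = _ := by rw [← haσ, ← Matrix.mul_assoc, Units.inv_mul, one_mul]
    · rw [fix_iff hca.inv_left]
      conv_lhs => rw [← (fix_iff hca).1 hfa]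
      rw [Matrix.mulVec_mulVec, Units.inv_mul, Matrix.one_mulVec]

theorem mem_C0 {l : T3} : l ∈ C0 A ↔ l ∈ A.Isom L1 ∧ Commute l ju ∧ (∃ σ, Sym σ ∧ Acts A.ω (l : M3) σ) ∧
    (l : M3) 1 1 - (l : M3) 1 2 = 1 := Iff.rfl

theorem nrm_C0 {l : T3} (h : l ∈ C0 A) : Nrm A.ω l := by
  obtain ⟨σ, -, ha⟩ := h.2.2.1
  exact nrm_of_acts ha

/-- normalising elements commuting with the inversion and fixing the vector -/
theorem C0_of_nrm {l : T3} (hl : l ∈ A.Isom L1) (hn : Nrm A.ω l) (hc : Commute l ju)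
    (hf : (l : M3) 1 1 - (l : M3) 1 2 = 1) : l ∈ C0 A := by
  obtain ⟨u, σ, g₀, hσ, ha, hfac⟩ := hn.exists_factor A.cube
  have hg0 : Commute g₀ (ju : T3) := by
    have h0 : σ 0 = 0 := by have := hσ.add 0 0; rw [add_zero, left_eq_add] at this; exact this
    have hneg : (Neg.neg ∘ σ) = σ ∘ Neg.neg := funext fun v =>
      (eq_neg_of_add_eq_zero_left (by rw [Function.comp_apply, ← hσ.add, neg_add_cancel, h0])).symm
    have h1 : Acts A.ω ((g₀ * ju : T3) : M3) (σ ∘ Neg.neg) := by rw [Units.val_mul]; exact ha.mul acts_jm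
    have h2 : Acts A.ω ((ju * g₀ : T3) : M3) (σ ∘ Neg.neg) := by
      rw [Units.val_mul, ← hneg]; exact acts_jm.mul ha
    obtain ⟨c, e⟩ := Acts.unique A.cube h1 h2
    exact commute_jm_of_smul e
  have hu : Commute (wu A.cube.pow_three u) (ju : T3) := by
    rw [show wu A.cube.pow_three u = l * g₀⁻¹ by rw [hfac, mul_inv_cancel_right]]
    exact hc.mul_left hg0.inv_left
  have e := congrArg (fun x : T3 => (x : M3)) hu.eq
  simp only [Units.val_mul, wu_val, ju_val, jm_wm] at e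
  have e' := congrArg (fun M : M3 => M * jm) e
  simp only [Matrix.mul_assoc, jm_sq, Matrix.mul_one] at e'
  have h2 := (wm_inj A.cube (v := u) (w := -u) (c := (1 : F)) (by rwa [one_smul])).1
  have hu0 : u = 0 := by
    have h3 := two_nsmul_eq u
    rw [← h2] at h3
    exact add_eq_left.1 h3
  refine ⟨hl, hc, ⟨σ, hσ, ?_⟩, hf⟩
  rw [hfac, hu0, Units.val_mul, wu_val, wm_zero, one_mul]
  exact ha

/-- the label map -/
noncomputable def sigma (l : C0 A) : L1 × L1 → L1 × L1 := l.2.2.2.1.choose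

theorem sigma_sym (l : C0 A) : Sym (sigma l) := l.2.2.2.1.choose_spec.1

theorem sigma_acts (l : C0 A) : Acts A.ω ((l : T3) : M3) (sigma l) := l.2.2.2.1.choose_spec.2

theorem sigma_eq (l : C0 A) {σ : L1 × L1 → L1 × L1} (h : Acts A.ω ((l : T3) : M3) σ) : sigma l = σ := by
  funext v
  refine (wm_inj A.cube (c := (1 : F)) ?_).1
  rw [one_smul]
  have e := (sigma_acts l v).symm.trans (h v)
  have e' := congrArg (fun M => M * (((l : T3)⁻¹ : T3) : M3)) e
  simpa [Matrix.mul_assoc] using e'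

/-- the label matrix -/
noncomputable def toL : C0 A →* SL(2, ZMod 3) where
  toFun l := Three.toSL (sigma_sym l)
  map_one' := by
    rw [← Three.toSL_id]
    have e := sigma_eq (1 : C0 A) (σ := id) (by rw [Subgroup.coe_one, Units.val_one]; exact acts_one)
    simp [e]
  map_mul' l m := by
    rw [← Three.toSL_comp]
    have e := sigma_eq (l * m) (σ := sigma l ∘ sigma m) (by
      rw [Subgroup.coe_mul, Units.val_mul]; exact (sigma_acts l).mul (sigma_acts m))
    simp [e]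

theorem toL_eq (l : C0 A) {σ : L1 × L1 → L1 × L1} (hσ : Sym σ) (h : Acts A.ω ((l : T3) : M3) σ) :
    toL l = Three.toSL hσ := by
  show Three.toSL (sigma_sym l) = _
  simp [sigma_eq l h]

theorem toL_injective : Function.Injective (toL : C0 A → SL(2, ZMod 3)) := by
  rw [injective_iff_map_eq_one]
  intro l h
  have hs : sigma l = id := Three.toSL_inj (sigma_sym l) Three.sym_id (h.trans Three.toSL_id.symm)
  obtain ⟨c, e⟩ := Acts.unique A.cube (h := 1) (sigma_acts l) (by rw [hs, Units.val_one]; exact acts_one)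
  rw [Units.val_one] at e
  have hf := l.2.2.2.2
  rw [e] at hf
  simp [Matrix.one_apply, show (1 : ZMod 3) ≠ 2 by decide] at hf
  subst hf
  exact Subtype.ext (Units.ext (by simpa using e))

/-- the central involution -/
noncomputable def tau : T3 := sg L1 (neg_ne_zero.2 (one_ne_zero (α := F))) * ju

theorem tau_val : ((tau : T3) : M3) = -jm := by simp [tau]

theorem tau_C0 : tau ∈ C0 A := by
  refine ⟨mul_mem (sg_mem A.unim_neg_one) ju_mem, Units.ext ?_,
    ⟨Neg.neg, Three.sym_neg, by rw [tau_val, ← neg_one_smul F jm]; exact acts_jm.smul _⟩, ?_⟩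
  · simp [tau_val]
  · rw [tau_val]
    simp [jm, show -(1 : ZMod 3) = 2 by decide, show -(2 : ZMod 3) = 1 by decide, show (1 : ZMod 3) ≠ 2 by decide]

theorem toL_tau : toL (⟨tau, tau_C0⟩ : C0 A) = -1 := by
  rw [toL_eq _ Three.sym_neg (by show Acts A.ω ((tau : T3) : M3) _; rw [tau_val, ← neg_one_smul F jm]; exact acts_jm.smul _),
    Three.toSL_neg]

theorem du_C0 : Three.du A.cube ∈ C0 A := by
  refine ⟨Three.du_mem, Units.ext ?_, ⟨_, Three.sym_rot, Three.dft_acts A.cube⟩, ?_⟩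
  · rw [Units.val_mul, Units.val_mul, Three.du_val, ju_val, Three.dft, Three.jm_eq, Matrix.smul_mul,
      Matrix.mul_smul, Three.m3_mul, Three.m3_mul]
    congr 1
    apply Three.ext3 <;> simp <;> ring
  · have hs := Three.s_ne A.cube
    simp [Three.dft]
    field_simp
    linear_combination -A.cube.sum

theorem toL_du : toL (⟨_, du_C0⟩ : C0 A) = Three.rot := by
  rw [toL_eq _ Three.sym_rot (Three.dft_acts A.cube)]
  apply Subtype.ext
  ext i j
  fin_cases i <;> fin_cases j <;> simp [Three.toSL, Three.rot]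

variable (A) in
/-- the normalised transvection -/
noncomputable def l0 : T3 := sg L1 (pow_ne_zero 2 A.cube.ne_zero) * tu A.cube ((0, 1) : L1 × L1)

theorem l0_val : ((l0 A : T3) : M3) = Three.m3 (A.ω ^ 2) 0 0 0 1 0 0 0 1 := by
  simp only [l0, Units.val_mul, sg_val, tu_val, Three.tm01 A.cube, Matrix.smul_mul, Matrix.one_mul, Three.m3_smul]
  apply Three.ext3 <;> simp <;> linear_combination A.cube.pow_three

theorem l0_acts : Acts A.ω ((l0 A : T3) : M3) (tv ((0, 1) : L1 × L1)) := by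
  rw [l0, Units.val_mul, sg_val, tu_val, Matrix.smul_mul, Matrix.one_mul]
  exact (tm_wm A.cube _).smul _

theorem l0_C0 : l0 A ∈ C0 A := by
  refine ⟨mul_mem (sg_mem (c := A.ω ^ 2) (pow_two A.ω ▸ A.unim_ω.mul A.unim_ω)) (tu_mem _), Units.ext ?_,
    ⟨_, tvc_one (X := ZMod 3) ((0, 1) : L1 × L1) ▸ sym_tvc 1 _, l0_acts⟩, ?_⟩
  · rw [Units.val_mul, Units.val_mul, l0_val, ju_val, Three.jm_eq, Three.m3_mul, Three.m3_mul]
    apply Three.ext3 <;> simp
  · simp [l0_val]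

theorem toL_l0 : toL (⟨_, l0_C0⟩ : C0 A) = Three.shear := by
  rw [toL_eq _ (tvc_one (X := ZMod 3) ((0, 1) : L1 × L1) ▸ sym_tvc 1 _) l0_acts]
  apply Subtype.ext
  ext i j
  fin_cases i <;> fin_cases j <;> simp [Three.toSL, Three.shear, tv, sf, Dot.dot] <;> decide

set_option maxRecDepth 20000 in
theorem sl_reach : ∀ L : SL(2, ZMod 3), L = 1 ∨ L = -1 ∨ L * L = -1 ∨ L * L * L = -1 ∨
    Three.rot * L * Three.rot⁻¹ * L⁻¹ = -1 ∨
    (Three.rot * L * Three.rot⁻¹ * L⁻¹) * (Three.rot * L * Three.rot⁻¹ * L⁻¹) = -1 ∨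
    Three.shear * L * Three.shear⁻¹ * L⁻¹ = -1 ∨
    (Three.shear * L * Three.shear⁻¹ * L⁻¹) * (Three.shear * L * Three.shear⁻¹ * L⁻¹) = -1 := by decide

/-- a subgroup stable under conjugation by the group contains the central involution or is trivial -/
theorem tau_mem {S : Subgroup T3} (hS : S ≤ C0 A) (hconj : ∀ l ∈ C0 A, ∀ x ∈ S, l * x * l⁻¹ ∈ S) {x : T3}
    (hx : x ∈ S) (hx1 : x ≠ 1) : (tau : T3) ∈ S := by
  have key : ∀ y : C0 A, (y : T3) ∈ S → toL y = -1 → (tau : T3) ∈ S := fun y hy e => by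
    have := toL_injective (e.trans toL_tau.symm)
    rw [this] at hy
    exact hy
  have hcm : ∀ m : C0 A, (m : T3) * x * (m : T3)⁻¹ * x⁻¹ ∈ S := fun m => mul_mem (hconj m m.2 x hx) (inv_mem hx)
  rcases sl_reach (toL ⟨x, hS hx⟩) with h | h | h | h | h | h | h | h
  · exact absurd (congrArg Subtype.val (toL_injective (h.trans (map_one toL).symm))) hx1
  · exact key _ hx h
  · exact key (⟨x, hS hx⟩ * ⟨x, hS hx⟩) (mul_mem hx hx) (by rw [map_mul]; exact h)
  · exact key (⟨x, hS hx⟩ * ⟨x, hS hx⟩ * ⟨x, hS hx⟩) (mul_mem (mul_mem hx hx) hx) (by rw [map_mul, map_mul]; exact h)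
  · rw [← toL_du (A := A)] at h
    exact key (⟨_, du_C0⟩ * ⟨x, hS hx⟩ * ⟨_, du_C0⟩⁻¹ * ⟨x, hS hx⟩⁻¹) (by simp only [Subgroup.coe_mul, Subgroup.coe_inv]; exact hcm ⟨_, du_C0⟩) (by simp only [map_mul, map_inv]; exact h)
  · rw [← toL_du (A := A)] at h
    refine key ((⟨_, du_C0⟩ * ⟨x, hS hx⟩ * ⟨_, du_C0⟩⁻¹ * ⟨x, hS hx⟩⁻¹) * (⟨_, du_C0⟩ * ⟨x, hS hx⟩ * ⟨_, du_C0⟩⁻¹ * ⟨x, hS hx⟩⁻¹))
      (by simp only [Subgroup.coe_mul, Subgroup.coe_inv]; exact mul_mem (hcm ⟨_, du_C0⟩) (hcm ⟨_, du_C0⟩)) (by simp only [map_mul, map_inv]; exact h)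
  · rw [← toL_l0 (A := A)] at h
    exact key (⟨_, l0_C0⟩ * ⟨x, hS hx⟩ * ⟨_, l0_C0⟩⁻¹ * ⟨x, hS hx⟩⁻¹) (by simp only [Subgroup.coe_mul, Subgroup.coe_inv]; exact hcm ⟨_, l0_C0⟩) (by simp only [map_mul, map_inv]; exact h)
  · rw [← toL_l0 (A := A)] at h
    refine key ((⟨_, l0_C0⟩ * ⟨x, hS hx⟩ * ⟨_, l0_C0⟩⁻¹ * ⟨x, hS hx⟩⁻¹) * (⟨_, l0_C0⟩ * ⟨x, hS hx⟩ * ⟨_, l0_C0⟩⁻¹ * ⟨x, hS hx⟩⁻¹))
      (by simp only [Subgroup.coe_mul, Subgroup.coe_inv]; exact mul_mem (hcm ⟨_, l0_C0⟩) (hcm ⟨_, l0_C0⟩)) (by simp only [map_mul, map_inv]; exact h)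

end Cfsg.Agent.Forms.Max.SympNine.Nine
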