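import Cfsg.Agent.Lib.Coprime.Generation

/-!
# Group lemmas: fusion of involutions, and a subgroup with small fixed points under nine automorphisms
-/

set_option autoImplicit false
set_option linter.style.haveILetI false

namespace Cfsg.Agent.Forms.Max.SympNine

open Subgroup
open scoped Pointwise

/-- an involution commuting with a central one is conjugate to a distinguished involution when that
one has all its centraliser in a subgroup in which it fuses the non-central involutions -/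
theorem conj_into {G : Type*} [Group G] [Finite G] (L : Subgroup G) {t s : G}
    (htc : ∀ x, t * x = x * t) (hs2 : s * s = 1) (hs1 : s ≠ 1)
    (hsL : s ∈ L) (hst : s ≠ t)
    (hconj : ∀ u ∈ L, u * u = 1 → u ≠ 1 → u ≠ t → ∃ l ∈ L, l * s * l⁻¹ = u)
    (hC : ∀ x, x * s = s * x → x ∈ L) {r : G} (hr : r * r = 1) (hr1 : r ≠ 1) (hrt : r ≠ t) :
    ∃ x, x * s * x⁻¹ = r := by
  have hs : s⁻¹ = s := inv_eq_of_mul_eq_one_right hs2
  set k := r * s with hk
  have hskm : ∀ i : ℤ, s * k ^ i * s⁻¹ = k ^ (-i) := fun i => by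
    rw [← conj_zpow, _root_.zpow_neg, ← inv_zpow]
    congr 1
    rw [hk, _root_.mul_inv_rev, inv_eq_of_mul_eq_one_right hr, hs]
    simp [mul_assoc, hs2]
  have hconjk : ∀ i : ℤ, k ^ i * s * (k ^ i)⁻¹ = k ^ (2 * i) * s := fun i => by
    have h := hskm (-i)
    rw [neg_neg, mul_inv_eq_iff_eq_mul] at h
    rw [mul_assoc, ← _root_.zpow_neg, h, two_mul, _root_.zpow_add, mul_assoc]
  have hsq : ∀ i : ℤ, k ^ (2 * i) ∈ L → k ^ i ∈ L := fun i hi => by
    obtain ⟨l, hl, he⟩ := hconj (k ^ i * s * (k ^ i)⁻¹) (by rw [hconjk]; exact mul_mem hi hsL)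
      (by rw [show ∀ g : G, g * s * g⁻¹ * (g * s * g⁻¹) = g * (s * s) * g⁻¹ from fun g => by group, hs2, mul_one, mul_inv_cancel])
      (fun h => hs1 (by simpa using h))
      (fun h => hst (by rw [mul_inv_eq_iff_eq_mul, htc] at h; exact mul_left_cancel h))
    have h1 : (k ^ i)⁻¹ * l ∈ L := hC _ (by
      rw [mul_inv_eq_iff_eq_mul] at he
      rw [mul_assoc, he]
      group)
    have := mul_mem hl (inv_mem h1)
    simpa using this
  obtain ⟨e, m, ⟨b, hm⟩, hn⟩ := Nat.exists_eq_two_pow_mul_odd (orderOf_pos k).ne'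
  have hmL : k ^ (m : ℤ) ∈ L := by
    have : ∀ j : ℕ, k ^ ((2 : ℤ) ^ j * m) ∈ L → k ^ (m : ℤ) ∈ L := by
      intro j
      induction j with
      | zero => simp
      | succ j ih => intro h; exact ih (hsq _ (by rw [← mul_assoc, ← pow_succ']; exact h))
    refine this e ?_
    have e1 : (2 : ℤ) ^ e * m = ((orderOf k : ℕ) : ℤ) := by rw [hn]; push_cast; ring
    rw [e1, zpow_natCast, pow_orderOf_eq_one]
    exact one_mem L
  have hr' : k ^ (b : ℤ) * r * (k ^ (b : ℤ))⁻¹ = k ^ (m : ℤ) * s := by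
    have e1 : r = k * s := by rw [hk, mul_assoc, hs2, mul_one]
    have e2 : k ^ (b : ℤ) * (k * s) * (k ^ (b : ℤ))⁻¹ = k * (k ^ (b : ℤ) * s * (k ^ (b : ℤ))⁻¹) := by
      group
    rw [e1, e2, hconjk, ← mul_assoc, ← _root_.zpow_one_add, hm]
    congr 2
    push_cast; ring
  obtain ⟨l, -, he⟩ := hconj (k ^ (m : ℤ) * s) (mul_mem hmL hsL)
    (by rw [← hr', show ∀ g : G, g * r * g⁻¹ * (g * r * g⁻¹) = g * (r * r) * g⁻¹ from fun g => by group, hr, mul_one, mul_inv_cancel])
    (by rw [← hr']; exact fun h => hr1 (by simpa using h))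
    (by rw [← hr']; exact fun h => hrt (by rw [mul_inv_eq_iff_eq_mul, htc] at h; exact mul_left_cancel h))
  refine ⟨(k ^ (b : ℤ))⁻¹ * l, ?_⟩
  rw [show (k ^ (b : ℤ))⁻¹ * l * s * ((k ^ (b : ℤ))⁻¹ * l)⁻¹ =
    (k ^ (b : ℤ))⁻¹ * (l * s * l⁻¹) * k ^ (b : ℤ) by group, he, ← hr']
  group

theorem le_of_fixed {G : Type*} [Group G] [Finite G] (K C A : Subgroup G) [IsMulCommutative A]
    (hA : Nat.card A = 9) (hA3 : ∀ a ∈ A, a ^ 3 = 1) (hAK : A ≤ normalizer (K : Set G))
    (hcent : ∀ a ∈ A, a ≠ 1 → K ⊓ centralizer {a} ≤ C) (hAC : ∀ a ∈ A, ∀ c ∈ C, a * c = c * a)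
    (hC : ¬ 9 ∣ Nat.card C)
    {u : G} (huC : u ∈ C) (huK : u ∈ K) (hu3 : orderOf u = 3)
    (hu : ∀ g ∈ K, g * u * g⁻¹ ≠ u⁻¹) : K ≤ C := by
  classical
  haveI : Fact (Nat.Prime 3) := ⟨Nat.prime_three⟩
  have hAp : IsPGroup 3 A := IsPGroup.of_card (n := 2) (by rw [hA]; norm_num)
  let φ : A →* MulAut K := (Subgroup.normalizerMonoidHom K).comp (Subgroup.inclusion hAK)
  have hφ : ∀ (a : A) (k : K), ((φ a k : K) : G) = a * k * (a : G)⁻¹ := fun a k => rfl
  have hfix : ∀ (a : A) (k : K), a ≠ 1 → φ a k = k → (k : G) ∈ C := fun a k ha hk => by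
    have h := congrArg Subtype.val hk
    rw [hφ, mul_inv_eq_iff_eq_mul] at h
    exact hcent a a.2 (fun h => ha (Subtype.ext h))
      ⟨k.2, Subgroup.mem_centralizer_singleton_iff.2 h.symm⟩
  have hA1 : ∃ a : A, a ≠ 1 := by
    haveI : Nontrivial A := Finite.one_lt_card_iff_nontrivial.1 (by rw [hA]; norm_num)
    exact exists_ne 1
  letI actS : MulAction A (Sylow 3 K) := MulAction.compHom _ φ
  obtain ⟨P, hPfix⟩ := hAp.nonempty_fixed_point_of_prime_not_dvd_card (Sylow 3 K) (not_dvd_card_sylow 3 K)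
  have hPinv : ∀ (a : A) (k : K), k ∈ (P : Subgroup K) → φ a k ∈ (P : Subgroup K) := fun a k hk => by
    have h := congrArg (fun Q : Sylow 3 K => (Q : Subgroup K)) (hPfix a)
    change (φ a) • (P : Subgroup K) = P at h
    rw [← h]
    exact Subgroup.smul_mem_pointwise_smul k (φ a) _ hk
  -- the Sylow subgroup has order three
  have hP9 : ¬ 9 ∣ Nat.card (P : Subgroup K) := by
    intro h9
    set W : Set K := {k | k ∈ (P : Subgroup K) ∧ (k : G) ∉ C} with hW
    have hinv : ∀ (a : A) (k : K), k ∈ W → φ a k ∈ W := fun a k hk => by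
      refine ⟨hPinv a k hk.1, fun h => hk.2 ?_⟩
      have hc := hAC a a.2 _ h
      rw [hφ] at h hc
      have : (a : G) * k * (a : G)⁻¹ = k := by
        refine mul_left_cancel (a := (a : G)) ?_
        rw [hc]; group
      rwa [this] at h
    letI actW : MulAction A W :=
      { smul := fun a k => ⟨φ a k.1, hinv a k.1 k.2⟩
        one_smul := fun k => Subtype.ext (by change φ 1 k.1 = k.1; simp)
        mul_smul := fun a b k => Subtype.ext (by change φ (a * b) k.1 = φ a (φ b k.1); simp) }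
    have hfree : ∀ k : W, MulAction.stabilizer A k = ⊥ := fun k => by
      rw [Subgroup.eq_bot_iff_forall]
      intro a ha
      by_contra hne
      exact k.2.2 (hfix a k.1 hne (congrArg Subtype.val ha))
    have hWcard : 9 ∣ Nat.card W := by
      rw [Nat.card_congr (MulAction.selfEquivOrbitsQuotientProd hfree), Nat.card_prod, hA]
      exact Dvd.intro_left _ rfl
    set D : Subgroup K := (P : Subgroup K) ⊓ C.subgroupOf K with hD
    have hsum : Nat.card (P : Subgroup K) = Nat.card W + Nat.card D := by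
      have hset : ((P : Subgroup K) : Set K) = W ∪ (D : Set K) := by
        ext k; simp [hW, hD, Subgroup.mem_subgroupOf]; tauto
      rw [← SetLike.coe_sort_coe, Nat.card_coe_set_eq, hset,
        Set.ncard_union_eq (Set.disjoint_left.2 fun k hk hk' => hk.2 (Subgroup.mem_subgroupOf.1 hk'.2)),
        Nat.card_coe_set_eq, ← Nat.card_coe_set_eq (D : Set K)]
      rfl
    have hDC : Nat.card D ∣ Nat.card C := by
      refine Dvd.dvd.trans (dvd_of_eq (Nat.card_congr ((Subgroup.equivMapOfInjective D K.subtype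
        (Subgroup.subtype_injective K)).toEquiv))) (Subgroup.card_dvd_of_le ?_)
      rintro x ⟨k, hk, rfl⟩
      exact Subgroup.mem_subgroupOf.1 hk.2
    exact hC (Dvd.dvd.trans ((Nat.dvd_add_right hWcard).1 (hsum ▸ h9)) hDC)
  obtain ⟨n, hn⟩ := IsPGroup.iff_card.1 P.2
  have hn1 : n ≤ 1 := by
    by_contra h
    exact hP9 (hn ▸ (show 9 ∣ 3 ^ n from (show 9 = 3 ^ 2 by norm_num) ▸ pow_dvd_pow 3 (by omega)))
  have huo : orderOf (⟨u, huK⟩ : K) = 3 := by rw [Subgroup.orderOf_mk]; exact hu3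
  have hU : IsPGroup 3 (Subgroup.zpowers (⟨u, huK⟩ : K)) :=
    IsPGroup.of_card (n := 1) (by rw [Nat.card_zpowers, huo, pow_one])
  obtain ⟨Q, hQ⟩ := hU.exists_le_sylow
  have hQeq : (Q : Subgroup K) = Subgroup.zpowers (⟨u, huK⟩ : K) := by
    refine (Subgroup.eq_of_le_of_card_ge hQ ?_).symm
    have e := Sylow.card_eq_multiplicity Q
    rw [← Sylow.card_eq_multiplicity P, hn] at e
    rw [e, Nat.card_zpowers, huo]
    exact (Nat.pow_le_pow_right (by norm_num) hn1).trans (le_of_eq (pow_one 3))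
  have hQN : Subgroup.normalizer (Q : Set K) ≤ Subgroup.centralizer (Q : Set K) := by
    intro g hg
    rw [show (Q : Set K) = ((Q : Subgroup K) : Set K) from rfl, hQeq,
      Subgroup.zpowers_eq_closure, Subgroup.centralizer_closure]
    rw [show (Q : Set K) = ((Q : Subgroup K) : Set K) from rfl, hQeq] at hg
    rw [Subgroup.mem_centralizer_singleton_iff]
    have h1 := (Subgroup.mem_normalizer_iff.1 hg (⟨u, huK⟩ : K)).1 (Subgroup.mem_zpowers _)
    obtain ⟨i, hi⟩ := Subgroup.mem_zpowers_iff.1 h1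
    rw [← zpow_mod_orderOf, huo] at hi
    rcases (show i % ((3 : ℕ) : ℤ) = 0 ∨ i % ((3 : ℕ) : ℤ) = 1 ∨ i % ((3 : ℕ) : ℤ) = 2 by omega) with h | h | h
    · rw [h, _root_.zpow_zero, eq_mul_inv_iff_mul_eq, one_mul, left_eq_mul] at hi
      rw [hi, orderOf_one] at huo
      omega
    · rw [h, _root_.zpow_one, eq_mul_inv_iff_mul_eq] at hi
      exact hi.symm
    · exfalso
      refine hu g g.2 ?_
      have h3 : (⟨u, huK⟩ : K) ^ 3 = 1 := by rw [← huo]; exact pow_orderOf_eq_one _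
      have h2 : (⟨u, huK⟩ : K) ^ (2 : ℤ) = (⟨u, huK⟩ : K)⁻¹ :=
        eq_inv_of_mul_eq_one_left (by rw [← _root_.zpow_add_one]; exact_mod_cast h3)
      rw [h, h2] at hi
      simpa using (congrArg Subtype.val hi).symm
  set M := (MonoidHom.transferSylow Q hQN).ker with hMdef
  have hcop : (Nat.card A).Coprime (Nat.card M) := by
    rw [hA, show (9 : ℕ) = 3 ^ 2 by norm_num]
    exact Nat.Coprime.pow_left _ ((Nat.prime_three.coprime_iff_not_dvd).2
      (MonoidHom.not_dvd_card_ker_transferSylow Q hQN))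
  have hMchar : ∀ k ∈ M, ∀ e : MulAut K, e k ∈ M := fun k hk e => by
    have h1 : ¬ 3 ∣ orderOf (e k) := fun h => MonoidHom.not_dvd_card_ker_transferSylow Q hQN
      (h.trans ((MulEquiv.orderOf_eq e k) ▸ M.orderOf_dvd_natCard hk))
    by_contra hne
    have h2 := orderOf_map_dvd (MonoidHom.transferSylow Q hQN) (e k)
    have h3 := (Q : Subgroup K).orderOf_dvd_natCard ((MonoidHom.transferSylow Q hQN) (e k)).2
    have hQc : Nat.card (Q : Subgroup K) = 3 := by rw [hQeq, Nat.card_zpowers, huo]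
    rw [hQc, Subgroup.orderOf_coe] at h3
    rcases (Nat.dvd_prime Nat.prime_three).1 h3 with h | h
    · exact hne (MonoidHom.mem_ker.2 (orderOf_eq_one_iff.1 h))
    · exact h1 (h ▸ h2)
  set M' : Subgroup G := M.map K.subtype with hM'
  have hAM : A ≤ normalizer (M' : Set G) := by
    intro a ha
    have hsub : ∀ b : A, ∀ y ∈ M', (b : G) * y * (b : G)⁻¹ ∈ M' := by
      rintro b _ ⟨k, hk, rfl⟩
      exact ⟨φ b k, hMchar k hk (φ b), hφ b k⟩
    rw [Subgroup.mem_normalizer_iff]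
    refine fun y => ⟨hsub ⟨a, ha⟩ y, fun h => ?_⟩
    have := hsub ⟨a⁻¹, inv_mem ha⟩ _ h
    simpa [mul_assoc] using this
  have hnc : ¬ IsCyclic A := fun h => by
    have e := h.exponent_eq_card (α := A)
    have h3 : Monoid.exponent A ∣ 3 := Monoid.exponent_dvd_of_forall_pow_eq_one fun a => Subtype.ext (hA3 a a.2)
    rw [e, hA] at h3
    norm_num at h3
  have hMC : M' ≤ C := by
    rw [← Cfsg.Agent.Coprime.fixedGen_eq hnc hAM (by
      rwa [hM', ← Nat.card_congr (M.equivMapOfInjective K.subtype (Subgroup.subtype_injective K)).toEquiv])]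
    refine iSup₂_le fun a ha => ?_
    rintro x ⟨⟨k, -, rfl⟩, hx⟩
    exact hcent a ha.1 ha.2 ⟨k.2, hx⟩
  intro x hx
  have hcomp := MonoidHom.ker_transferSylow_isComplement' Q hQN
  obtain ⟨⟨⟨m, hm⟩, ⟨v, hv⟩⟩, hmv : m * v = ⟨x, hx⟩⟩ := (hcomp.existsUnique ⟨x, hx⟩).exists
  rw [hQeq] at hv
  obtain ⟨i, rfl⟩ := Subgroup.mem_zpowers_iff.1 hv
  have e := congrArg Subtype.val hmv
  simp only [Subgroup.coe_mul, SubgroupClass.coe_zpow] at e
  rw [← e]
  exact mul_mem (hMC ⟨m, hm, rfl⟩) (zpow_mem huC i)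

end Cfsg.Agent.Forms.Max.SympNine
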