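import Cfsg.Agent.Lib.Forms.Max.SympNine.Block

/-!
# Degree three over the field of four elements
-/

set_option autoImplicit false
set_option linter.unusedSectionVars false
set_option linter.style.haveILetI false

namespace Cfsg.Agent.Forms.Max.SympNine.Nine.InnerTwo

open Matrix Dot
attribute [local instance 10] Classical.propDecidable

variable {F : Type*} [Field F] [Fintype F] {A : Amb F}

local notation "M3" => Matrix L1 L1 F
local notation "T3" => GL L1 F

theorem two_zero (hp : A.p = 2) : (2 : F) = 0 := by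
  haveI := A.charP
  have := CharP.cast_eq_zero F A.p
  rw [hp] at this
  exact_mod_cast this

theorem bar_mul_self (hp : A.p = 2) (x : F) : A.bar x * x = if x = 0 then 0 else 1 := by
  split_ifs with h
  · simp [h]
  · have hcard : Fintype.card F = 4 := by
      rcases A.card with ⟨h', -⟩ | ⟨-, hc, -⟩
      · exact absurd (A.unit_of_two hp) h'
      · rw [hc, hp]; norm_num
    have := FiniteField.pow_card_sub_one_eq_one x h
    rw [hcard] at this
    rw [A.bar_apply, hp, ← pow_succ]
    exact this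

theorem exists_pow (hp : A.p = 2) {x : F} (hx : x ≠ 0) : ∃ k : ZMod 3, x = A.ω ^ k.val := by
  have h3 : x ^ 3 = 1 := by
    have := bar_mul_self hp x
    rw [if_neg hx, A.bar_apply, hp, ← pow_succ] at this
    exact this
  have e : (x - 1) * ((x - A.ω) * (x - A.ω ^ 2)) = 0 := by
    linear_combination h3 + (x - x ^ 2 + (A.ω - 1) * (x - 1)) * A.cube.sum
  rcases mul_eq_zero.1 e with e | e
  · exact ⟨0, by simpa using sub_eq_zero.1 e⟩
  · rcases mul_eq_zero.1 e with e | e
    · exact ⟨1, by rw [show ZMod.val (1 : ZMod 3) = 1 from rfl, pow_one]; exact sub_eq_zero.1 e⟩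
    · exact ⟨-1, by rw [show ZMod.val (-1 : ZMod 3) = 2 from rfl]; exact sub_eq_zero.1 e⟩

/-- one non-zero entry in every column -/
def Mon (g : T3) (f : L1 → L1) : Prop :=
  ∀ j, (g : M3) (f j) j ≠ 0 ∧ ∀ i, i ≠ f j → (g : M3) i j = 0

theorem sum_three (f : L1 → F) : ∑ i, f i = f 0 + f 1 + f 2 := Fin.sum_univ_three f

theorem col_cases (hp : A.p = 2) {g : T3} (hg : g ∈ A.Isom L1) (j : L1) :
    (∀ i, (g : M3) i j ≠ 0) ∨ ∃ i, (g : M3) i j ≠ 0 ∧ ∀ i', i' ≠ i → (g : M3) i' j = 0 := by
  have h := congrFun (congrFun (hg (A.unit_of_two hp)) j) j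
  simp only [Matrix.mul_apply, Matrix.transpose_apply, Matrix.map_apply, Matrix.one_apply_eq,
    bar_mul_self hp, sum_three] at h
  have h2 := two_zero hp
  have all3 : ∀ {P : L1 → Prop}, P 0 → P 1 → P 2 → ∀ i, P i := fun h0 h1 h2 i => by
    fin_cases i <;> assumption
  by_cases c0 : (g : M3) 0 j = 0 <;> by_cases c1 : (g : M3) 1 j = 0 <;> by_cases c2 : (g : M3) 2 j = 0 <;>
    simp only [c0, c1, c2, if_true, if_false, zero_add, add_zero] at h
  · exact absurd h zero_ne_one
  · exact Or.inr ⟨2, c2, all3 (fun _ => c0) (fun _ => c1) (fun h => absurd rfl h)⟩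
  · exact Or.inr ⟨1, c1, all3 (fun _ => c0) (fun h => absurd rfl h) (fun _ => c2)⟩
  · exact absurd (h.symm.trans (one_add_one_eq_two.trans h2)) one_ne_zero
  · exact Or.inr ⟨0, c0, all3 (fun h => absurd rfl h) (fun _ => c1) (fun _ => c2)⟩
  · exact absurd (h.symm.trans (one_add_one_eq_two.trans h2)) one_ne_zero
  · exact absurd (h.symm.trans (one_add_one_eq_two.trans h2)) one_ne_zero
  · exact Or.inl (all3 c0 c1 c2)

theorem orth (hp : A.p = 2) {g : T3} (hg : g ∈ A.Isom L1) {i j k : L1} (hjk : j ≠ k)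
    (h0 : ∀ i', i' ≠ i → (g : M3) i' j = 0) (hi : (g : M3) i j ≠ 0) : (g : M3) i k = 0 := by
  have h := congrFun (congrFun (hg (A.unit_of_two hp)) j) k
  rw [Matrix.mul_apply, Finset.sum_eq_single i (fun l _ hl => by simp [h0 l hl]) (by simp),
    Matrix.one_apply_ne hjk, Matrix.transpose_apply, Matrix.map_apply] at h
  refine (mul_eq_zero.1 h).resolve_left fun hb => hi ?_
  rw [A.bar_apply] at hb
  exact eq_zero_of_pow_eq_zero hb

theorem mon_of_col (hp : A.p = 2) {g : T3} (hg : g ∈ A.Isom L1) {i : L1} (hi : (g : M3) i 0 ≠ 0)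
    (h0 : ∀ i', i' ≠ i → (g : M3) i' 0 = 0) : ∃ f : L1 → L1, Function.Injective f ∧ Mon g f := by
  have hall : ∀ j, ∃ l, (g : M3) l j ≠ 0 ∧ ∀ i', i' ≠ l → (g : M3) i' j = 0 := fun j => by
    by_cases hj : j = 0
    · subst hj; exact ⟨i, hi, h0⟩
    · rcases col_cases hp hg j with h | h
      · exact absurd (orth hp hg (Ne.symm hj) h0 hi) (h i)
      · exact h
  choose f hf using hall
  exact ⟨f, fun a b hab => by_contra fun hne =>
    (hf b).1 (hab ▸ orth hp hg hne (hf a).2 (hf a).1), hf⟩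

theorem affine : ∀ f : L1 → L1, Function.Injective f → ∃ s t : L1, s * s = 1 ∧ ∀ j, f j = s * j + t := by
  unfold Function.Injective
  decide

theorem second_diff : ∀ (q : L1 → L1) (a : L1), ∃ l k : L1, ∀ x, q (x + a) - q x = l * x + k := by decide

theorem nrm_mon (hp : A.p = 2) {g : T3} {f : L1 → L1} (hf : Function.Injective f) (hg : Mon g f) :
    Nrm A.ω g := by
  obtain ⟨s, t, hs, haff⟩ := affine f hf
  choose q hq using fun j => exists_pow hp (hg j).1
  have hω := A.cube.pow_three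
  rintro ⟨a, b⟩
  obtain ⟨l, k, hlk⟩ := second_diff q a
  set w2 := (l + b) * s
  refine ⟨(s * a, w2), A.ω ^ (k + 2 * (a * b) - w2 * t - 2 * (s * a * w2)).val, ?_⟩
  rw [Three.wm_three, Three.wm_three]
  ext y x
  rw [Matrix.smul_apply, Matrix.mul_apply,
    Finset.sum_eq_single (x + a) (fun z _ hz => by simp [hz]) (by simp), Matrix.mul_apply,
    Finset.sum_eq_single (f x) (fun z _ hz => by rw [(hg x).2 z hz, mul_zero]) (by simp)]
  simp only [Matrix.of_apply, if_true, smul_eq_mul]
  have hfx : f (x + a) = f x + s * a := by rw [haff, haff]; ring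
  by_cases hy : y = f x + s * a
  · subst hy
    rw [if_pos rfl, ← hfx, hq, hq, ← pow_val_add hω, ← pow_val_add hω, ← pow_val_add hω]
    congr 2
    rw [haff x]
    linear_combination hlk x - (l + b) * x * hs
  · rw [if_neg hy, (hg (x + a)).2 y (by rw [hfx]; exact hy)]
    simp

end Cfsg.Agent.Forms.Max.SympNine.Nine.InnerTwo
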