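import Cfsg.Agent.Lib.Forms.Max.SympNine.InnerSigma
import Cfsg.Agent.Lib.Forms.Max.SympNine.InnerTwo
import Cfsg.Agent.Lib.Forms.Max.SympNine.Groups

/-!
# Degree nine: the centraliser of the inner inversion decides, and degree three over four elements

From a subgroup in which everything commuting with the inversion of one factor permutes the lines of
the operators, so does the whole subgroup.
-/

set_option autoImplicit false
set_option linter.unusedSectionVars false
set_option linter.style.haveILetI false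

namespace Cfsg.Agent.Forms.Max.SympNine.Nine

open Matrix Dot
open scoped MatrixGroups

variable {F : Type*} [Field F] [Fintype F] {A : Amb F} {H : Subgroup (GL L2 F)}

local notation "M9" => Matrix L2 L2 F
local notation "T9" => GL L2 F
local notation "V" => L2 × L2
local notation "π" => Matrix.ProjGenLinGroup.mk (n := L2) (R := F)

/-- **Degree three over the field of four elements.** -/
theorem base_two (hp : A.p = 2) {g : GL L1 F} (hg : g ∈ A.Isom L1) : Nrm A.ω g := by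
  rcases InnerTwo.col_cases hp hg (0 : L1) with hall | ⟨i, hi, h0⟩
  swap
  · obtain ⟨f, hf, hm⟩ := InnerTwo.mon_of_col hp hg hi h0
    exact InnerTwo.nrm_mon hp hf hm
  set d : L1 → F := fun i => (g : Matrix L1 L1 F) i 0 with hd
  let D : GL L1 F := Matrix.GeneralLinearGroup.mkOfDetNeZero (Matrix.diagonal d)
    (by rw [Matrix.det_diagonal]; exact Finset.prod_ne_zero_iff.2 fun i _ => hall i)
  have hDv : (D : Matrix L1 L1 F) = Matrix.diagonal d := rfl
  have hDI : D ∈ A.Isom L1 := fun _ => by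
    classical
    rw [hDv, Matrix.diagonal_map (map_zero _), Matrix.diagonal_transpose, Matrix.diagonal_mul_diagonal]
    ext i j
    by_cases hij : i = j
    · subst hij
      rw [Matrix.diagonal_apply_eq, Matrix.one_apply_eq, InnerTwo.bar_mul_self hp, if_neg (hall i)]
    · rw [Matrix.diagonal_apply_ne _ hij, Matrix.one_apply_ne hij]
  have hDn : Nrm A.ω D := InnerTwo.nrm_mon hp (f := id) Function.injective_id fun j => by
    rw [hDv]
    exact ⟨by rw [id, Matrix.diagonal_apply_eq]; exact hall j, fun i hi => Matrix.diagonal_apply_ne _ hi⟩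
  set E := D * Three.du A.cube with hE
  have hcol : ∀ i, (E : Matrix L1 L1 F) i 0 = (g : Matrix L1 L1 F) i 0 := fun i => by
    rw [hE, Units.val_mul, hDv, Three.du_val, Matrix.diagonal_mul]
    have hs : 2 * A.ω + 1 = 1 := by rw [InnerTwo.two_zero hp, zero_mul, zero_add]
    have : Three.dft A.ω i 0 = 1 := by
      rw [Three.dft, Matrix.smul_apply, hs, inv_one, one_smul]
      revert i
      exact Three.forall_zmod (by simp) (by simp) (by simp)
    rw [this, mul_one]
  have hg' : E⁻¹ * g ∈ A.Isom L1 := mul_mem (inv_mem (mul_mem hDI Three.du_mem)) hg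
  have he : ∀ i, ((E⁻¹ * g : GL L1 F) : Matrix L1 L1 F) i 0 = (1 : Matrix L1 L1 F) i 0 := fun i => by
    rw [← Units.inv_mul E, Units.val_mul, Matrix.mul_apply, Matrix.mul_apply]
    simp only [hcol]
  obtain ⟨f, hf, hm⟩ := InnerTwo.mon_of_col hp hg' (i := 0) (by rw [he]; simp)
    fun i hi => by rw [he, Matrix.one_apply_ne hi]
  have hn := (hDn.mul (nrm_of_acts (Three.dft_acts A.cube) : Nrm A.ω (Three.du A.cube))).mul
    (InnerTwo.nrm_mon hp hf hm)
  rwa [← hE, mul_inv_cancel_left] at hn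

namespace Inner

theorem sE_sq : (sE : T9) * sE = 1 := by
  rw [sE, ← map_mul, ← map_one (bd : (L1 → GL L1 F) →* T9)]
  congr 1
  funext j
  exact Units.ext jm_sq

theorem trace_sE : ((sE : T9) : M9).trace = 3 := by
  rw [sE, bd_val, Matrix.trace_blockDiagonal]
  simp [trace_jm]

theorem eq_of_acts_id {g : T9} (h : Acts A.ω (g : M9) id) : ∃ c : F, (g : M9) = c • 1 := by
  obtain ⟨c, hc⟩ := Acts.unique A.cube h
    (show Acts A.ω ((1 : T9) : M9) id by rw [Units.val_one]; exact acts_one)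
  exact ⟨c, by simpa using hc⟩

theorem sigma_id_of_smul {g : T9} {σ : V → V} (h : Acts A.ω (g : M9) σ) {c : F} (e : (g : M9) = c • 1) :
    σ = id :=
  Three.acts_sigma_unique A.cube h
    (show Acts A.ω ((1 : T9) : M9) id by rw [Units.val_one]; exact acts_one) (by rw [Units.val_one]; exact e)

theorem comm_ju_of_acts {g : T9} {σ : V → V} (hσ : Sym σ) (h : Acts A.ω (g : M9) σ) : Commute g ju := by
  have h1 : Acts A.ω ((g * ju : T9) : M9) (σ ∘ Neg.neg) := by rw [Units.val_mul]; exact h.mul acts_jm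
  have h2 : Acts A.ω ((ju * g : T9) : M9) (σ ∘ Neg.neg) := by
    rw [Units.val_mul, show σ ∘ (Neg.neg : V → V) = Neg.neg ∘ σ from funext fun v => map_neg' hσ v]
    exact Acts.mul acts_jm h
  obtain ⟨c, e⟩ := Acts.unique A.cube h1 h2
  exact commute_jm_of_smul (c := c) (by simpa using e)

theorem exists_exact {g : T9} (hc : Commute g ju) (hn : Nrm A.ω g) :
    ∃ σ : V → V, Sym σ ∧ Acts A.ω (g : M9) σ := by
  obtain ⟨u, σ, g₀, hσ, ha, hfac⟩ := hn.exists_factor A.cube
  have hu : u = -u := by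
    have h0 := comm_ju_of_acts hσ ha
    have hj : (ju : T9) * wu A.cube.pow_three u = wu A.cube.pow_three (-u) * ju := Units.ext (jm_wm u)
    have e : wu A.cube.pow_three u * (g₀ * ju) = wu A.cube.pow_three (-u) * (g₀ * ju) := by
      rw [← mul_assoc, ← hfac, hc.eq, hfac, ← mul_assoc, hj, mul_assoc, h0.eq]
    exact (wm_inj A.cube (c := 1) (by
      rw [one_smul]; exact congrArg (fun w : T9 => (w : M9)) (mul_right_cancel e))).1
  have hu0 : u = 0 := by
    have := two_nsmul_eq u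
    nth_rewrite 2 [hu] at this
    rw [add_neg_cancel] at this
    exact neg_eq_zero.1 this.symm
  subst hu0
  refine ⟨σ, hσ, ?_⟩
  rw [hfac, Units.val_mul, wu_val, wm_zero, Matrix.one_mul]
  exact ha

theorem sE_comm_ju (A : Amb F) : Commute (sE : T9) ju :=
  comm_ju_of_acts (A := A) sym_σs (sE_acts A.cube.pow_three)

theorem commute_sE_of_smul (A : Amb F) {g : T9} {c : F} (e : ((g * sE : T9) : M9) = c • ((sE * g : T9) : M9)) :
    Commute g sE := by
  have e' : (g : M9) * (sE : T9) * ((g⁻¹ : T9) : M9) = c • ((sE : T9) : M9) := by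
    rw [← Units.val_mul g, e, Matrix.smul_mul, Units.val_mul, Matrix.mul_assoc, Units.mul_inv, Matrix.mul_one]
  have ht := congrArg Matrix.trace e'
  rw [Matrix.trace_mul_comm, ← Matrix.mul_assoc, Units.inv_mul, Matrix.one_mul, Matrix.trace_smul, trace_sE,
    smul_eq_mul] at ht
  have hc : c = 1 := mul_right_cancel₀ (show (3 : F) ≠ 0 from A.cube.three) (by rw [one_mul]; exact ht.symm)
  rw [hc, one_smul] at e
  exact Units.ext e

theorem mk_eq_one_iff {g : T9} : π g = 1 ↔ ∃ c : F, (g : M9) = c • 1 := by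
  rw [← map_one π, mk_eq_iff_smul]
  simp

variable (hH : Rich A H)
include hH

theorem sE_mem : (sE : T9) ∈ H :=
  hH.mem_of_nrm (bd_mem.2 fun _ => ju_mem) (nrm_of_acts (sE_acts A.cube.pow_three))

theorem exists_real' {σ : V → V} (hσ : Sym σ) : ∃ g ∈ H, Commute g ju ∧ Acts A.ω (g : M9) σ := by
  obtain ⟨g, hg, ha⟩ := hH.exists_acts hσ
  exact ⟨g, hg, comm_ju_of_acts hσ ha, ha⟩

/-- an involution of the labels is realised by a conjugate of `sE` -/
theorem exists_conj_sE {u : T9} {σ : V → V} (hσ : Sym σ) (h2 : ∀ v, σ (σ v) = v) (hid : σ ≠ id)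
    (hneg : σ ≠ Neg.neg) (ha : Acts A.ω (u : M9) σ) :
    ∃ l ∈ H, Commute l ju ∧ Nrm A.ω l ∧ π u = π l * π sE * (π l)⁻¹ := by
  obtain ⟨τ, hτ, he⟩ := exists_conj hσ h2 hid hneg
  obtain ⟨l, hl, hlc, hla⟩ := exists_real' hH hτ
  refine ⟨l, hl, hlc, nrm_of_acts hla, ?_⟩
  have h1 : Acts A.ω ((u * l : T9) : M9) (σ ∘ τ) := by rw [Units.val_mul]; exact ha.mul hla
  have h2' : Acts A.ω ((l * sE : T9) : M9) (σ ∘ τ) := by
    rw [Units.val_mul, show σ ∘ τ = τ ∘ σs from funext he]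
    exact hla.mul (sE_acts A.cube.pow_three)
  rw [eq_mul_inv_iff_mul_eq, ← map_mul, ← map_mul]
  exact mk_eq_iff_smul.2 (Acts.unique A.cube h1 h2')

end Inner

open Inner

/-- fixed vectors of the inversion need five coordinates, those of the inner inversion six -/
theorem not_conj_sE (k : T9) : (ju : T9) ≠ k * sE * k⁻¹ := by
  classical
  intro hk
  let Vf : (L1 × Bool → F) → L2 → F := fun f x => f (x.2, decide (x.1 = 0))
  have hfix : ∀ f, ((sE : T9) : M9) *ᵥ Vf f = Vf f := fun f => by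
    funext y
    rw [Matrix.mulVec, dotProduct, Finset.sum_eq_single (-y.1, y.2)]
    · simp [sE, bd_apply, jm, Vf]
    · intro z _ hz
      rw [sE, bd_apply]
      split_ifs with h
      · have : ¬ y.1 = -z.1 := fun h' => hz (Prod.ext (by rw [h', neg_neg]) h.symm)
        simp [jm, this]
      · rw [zero_mul]
    · simp
  have hj : ∀ (w : L2 → F) (y : L2), ((jm : M9) *ᵥ w) y = w (-y) := fun w y => by
    rw [Matrix.mulVec, dotProduct, Finset.sum_eq_single (-y)]
    · simp [jm]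
    · intro z _ hz
      have : ¬ y = -z := fun h' => hz (by rw [h', neg_neg])
      simp [jm, this]
    · simp
  let rep : Fin 5 → L2 := ![(0, 0), (1, 0), (0, 1), (1, 1), (1, 2)]
  have hrep : ∀ x : L2, ∃ i, x = rep i ∨ x = -rep i := by decide
  let Φ : (L1 × Bool → F) → (Fin 5 → F) := fun f i => ((k : M9) *ᵥ Vf f) (rep i)
  have hinj : Function.Injective Φ := fun f f' h => by
    have hw : ∀ f, ∀ y, ((k : M9) *ᵥ Vf f) (-y) = ((k : M9) *ᵥ Vf f) y := fun f y => by
      rw [← hj ((k : M9) *ᵥ Vf f) y, show (jm : M9) = ((k * sE * k⁻¹ : T9) : M9) from congrArg Units.val hk, Units.val_mul,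
        Units.val_mul, Matrix.mulVec_mulVec, Matrix.mul_assoc, Units.inv_mul, Matrix.mul_one,
        ← Matrix.mulVec_mulVec, hfix]
    have hall : (k : M9) *ᵥ Vf f = (k : M9) *ᵥ Vf f' := funext fun x => by
      obtain ⟨i, rfl | rfl⟩ := hrep x
      · exact congrFun h i
      · rw [hw, hw]; exact congrFun h i
    have hV : Vf f = Vf f' := by
      have := congrArg (fun w => ((k⁻¹ : T9) : M9) *ᵥ w) hall
      simpa [Matrix.mulVec_mulVec] using this
    funext ⟨j, b⟩
    cases b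
    · simpa [Vf] using congrFun hV (1, j)
    · simpa [Vf] using congrFun hV (0, j)
  have := Fintype.card_le_of_injective Φ hinj
  simp only [Fintype.card_fun, Fintype.card_prod, ZMod.card, Fintype.card_bool, Fintype.card_fin] at this
  have := Nat.pow_lt_pow_right (Fintype.one_lt_card (α := F)) (show 5 < 3 * 2 by norm_num)
  omega

variable (hH : Rich A H) (hs : ∀ g ∈ H, Commute g (sE : GL L2 F) → Nrm A.ω g)
include hH hs

theorem Inner.isolated : ∀ g ∈ H, Commute (g * ju * g⁻¹) (ju : T9) → g * ju * g⁻¹ = ju := by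
  intro g hg hcomm
  set r := g * ju * g⁻¹ with hr
  have hrH : r ∈ H := mul_mem (mul_mem hg hH.mem_ju) (inv_mem hg)
  have hr2 : r * r = 1 := by
    rw [show r * r = g * (ju * ju) * g⁻¹ by rw [hr]; group,
      show (ju * ju : T9) = 1 from Units.ext (by simp [jm_sq]), mul_one, mul_inv_cancel]
  have htr : (r : M9).trace = 1 := by
    rw [hr, Units.val_mul, Matrix.trace_mul_comm, ← Units.val_mul, inv_mul_cancel_left]
    exact trace_jm
  haveI : Finite (Matrix.ProjGenLinGroup L2 F) :=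
    Finite.of_surjective π (QuotientGroup.mk'_surjective _)
  set G : Subgroup (Matrix.ProjGenLinGroup L2 F) :=
    (H ⊓ Subgroup.centralizer {(ju : T9)}).map π with hG
  have memC : ∀ {x : T9}, x ∈ H → Commute x ju → π x ∈ G := fun {x} hx hc =>
    ⟨x, ⟨hx, Subgroup.mem_centralizer_singleton_iff.2 hc.eq⟩, rfl⟩
  let L : Subgroup (Matrix.ProjGenLinGroup L2 F) :=
    { carrier := {x | ∃ l ∈ H, Commute l (ju : T9) ∧ Nrm A.ω l ∧ π l = x}
      one_mem' := ⟨1, one_mem H, Commute.one_left _,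
        nrm_of_acts (σ := id) (by rw [Units.val_one]; exact acts_one), map_one π⟩
      mul_mem' := by
        rintro _ _ ⟨a, ha, hac, han, rfl⟩ ⟨b, hb, hbc, hbn, rfl⟩
        exact ⟨a * b, mul_mem ha hb, hac.mul_left hbc, han.mul hbn, map_mul π a b⟩
      inv_mem' := by
        rintro _ ⟨a, ha, hac, han, rfl⟩
        exact ⟨a⁻¹, inv_mem ha, hac.inv_left, han.inv A.cube, map_inv π a⟩ }
  let t : G := ⟨π ju, memC hH.mem_ju (Commute.refl _)⟩
  let s : G := ⟨π sE, memC (sE_mem hH) (sE_comm_ju A)⟩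
  by_cases hrt : π r = π ju
  · obtain ⟨c, hc⟩ := mk_eq_iff_smul.1 hrt
    rw [hc, Matrix.trace_smul, ju_val, trace_jm, smul_eq_mul, mul_one] at htr
    exact Units.ext (by rw [hc, htr, one_smul])
  exfalso
  have hs1 : π (sE : T9) ≠ 1 := fun h => σs_ne_id (by
    obtain ⟨c, hc⟩ := mk_eq_one_iff.1 h
    exact sigma_id_of_smul (sE_acts A.cube.pow_three) hc)
  have hst : π (sE : T9) ≠ π ju := fun h => σs_ne_neg (by
    obtain ⟨c, hc⟩ := mk_eq_iff_smul.1 h
    exact Three.acts_sigma_unique A.cube (sE_acts A.cube.pow_three)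
      (show Acts A.ω ((ju : T9) : M9) Neg.neg from acts_jm) hc)
  obtain ⟨⟨_, y, hy, rfl⟩, hxe⟩ := conj_into (G := G) (L.subgroupOf G) (t := t) (s := s)
    (by
      rintro ⟨_, y, hy, rfl⟩
      apply Subtype.ext
      show π ju * π y = π y * π ju
      rw [← map_mul, ← map_mul, Subgroup.mem_centralizer_singleton_iff.1 hy.2])
    (Subtype.ext (by
      show π (sE : T9) * π sE = 1
      rw [← map_mul, sE_sq, map_one]))
    (fun h => hs1 (congrArg Subtype.val h))
    (Subgroup.mem_subgroupOf.2 ⟨sE, sE_mem hH, sE_comm_ju A, nrm_of_acts (sE_acts A.cube.pow_three), rfl⟩)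
    (fun h => hst (congrArg Subtype.val h))
    (by
      rintro ⟨ub, hub⟩ hu hu2 hu1 hut
      obtain ⟨l, hl, hlc, hln, hlu⟩ := Subgroup.mem_subgroupOf.1 hu
      change π l = ub at hlu
      subst hlu
      obtain ⟨σ, hσ, hla⟩ := exists_exact hlc hln
      have hσ2 : ∀ v, σ (σ v) = v := fun v => by
        have e : π (l * l) = 1 := by rw [map_mul]; exact congrArg Subtype.val hu2
        obtain ⟨c, hc⟩ := mk_eq_one_iff.1 e
        exact congrFun (sigma_id_of_smul (σ := σ ∘ σ) (by rw [Units.val_mul]; exact hla.mul hla) hc) v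
      have hid : σ ≠ id := fun h => hu1 (Subtype.ext (mk_eq_one_iff.2 (eq_of_acts_id (h ▸ hla))))
      have hneg : σ ≠ Neg.neg := fun h => hut (Subtype.ext (mk_eq_iff_smul.2
        (Acts.unique A.cube (h ▸ hla) (show Acts A.ω ((ju : T9) : M9) Neg.neg from acts_jm))))
      obtain ⟨k, hk, hkc, hkn, hkl⟩ := exists_conj_sE hH hσ hσ2 hid hneg hla
      exact ⟨⟨π k, memC hk hkc⟩, Subgroup.mem_subgroupOf.2 ⟨k, hk, hkc, hkn, rfl⟩, Subtype.ext hkl.symm⟩)
    (by
      rintro ⟨_, y, hy, rfl⟩ he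
      have e := congrArg Subtype.val he
      change π y * π sE = π sE * π y at e
      rw [← map_mul, ← map_mul] at e
      obtain ⟨c, hc⟩ := mk_eq_iff_smul.1 e
      have hyj : Commute y (ju : T9) := Subgroup.mem_centralizer_singleton_iff.1 hy.2
      exact Subgroup.mem_subgroupOf.2
        ⟨y, hy.1, hyj, hs y hy.1 (commute_sE_of_smul A hc), rfl⟩)
    (r := ⟨π r, memC hrH hcomm⟩)
    (Subtype.ext (by show π r * π r = 1; rw [← map_mul, hr2, map_one]))
    (fun h => by
      have h' : π r = 1 := congrArg Subtype.val h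
      rw [hr, map_mul, map_mul, map_inv] at h'
      exact mk_ju_ne_one (conj_eq_one_iff.1 h'))
    (fun h => hrt (congrArg Subtype.val h))
  have e := congrArg Subtype.val hxe
  change π y * π sE * (π y)⁻¹ = π r at e
  rw [← map_inv, ← map_mul, ← map_mul] at e
  obtain ⟨c, hc⟩ := mk_eq_iff_smul.1 e.symm
  have hu2 : (y * sE * y⁻¹) * (y * sE * y⁻¹) = (1 : T9) := by
    rw [show (y * sE * y⁻¹) * (y * sE * y⁻¹) = y * (sE * sE) * y⁻¹ by group, sE_sq, mul_one, mul_inv_cancel]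
  have htc : (1 : F) = c * 3 := by
    rw [← htr, hc, Matrix.trace_smul, smul_eq_mul]
    congr 1
    rw [Units.val_mul, Matrix.trace_mul_comm, ← Units.val_mul, inv_mul_cancel_left]
    exact trace_sE
  have hcc : c * c = 1 := by
    have h1 := congrArg Units.val hr2
    rw [Units.val_mul, hc, Matrix.smul_mul, Matrix.mul_smul, smul_smul, ← Units.val_mul, hu2, Units.val_one] at h1
    simpa using congrFun (congrFun h1 0) 0
  have h2 : (2 : F) = 0 := by
    by_contra h2
    exact mul_ne_zero (mul_ne_zero h2 h2) h2 (by linear_combination -(3 * c + 1) * htc - 9 * hcc)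
  have hc1 : c = 1 := by linear_combination -htc - c * h2
  rw [hc1, one_smul] at hc
  refine not_conj_sE (g⁻¹ * y) ?_
  rw [show g⁻¹ * y * sE * (g⁻¹ * y)⁻¹ = g⁻¹ * (y * sE * y⁻¹) * g by group, ← Units.ext hc, hr]
  group

theorem Inner.core_cent {O : Subgroup T9} (hOH : O ≤ H) (hconj : ∀ g ∈ H, ∀ x ∈ O, g * x * g⁻¹ ∈ O)
    {N : ℕ} (hN : Odd N) (hpow : ∀ x ∈ O, ∃ c : F, ((x ^ N : T9) : M9) = c • 1)
    {x : T9} (hx : x ∈ O) (hxj : Commute x (ju : T9)) (hxs : Commute x (sE : T9)) :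
    ∃ c : F, (x : M9) = c • 1 := by
  obtain ⟨σ, hσ, hxa⟩ := exists_exact hxj (hs x (hOH hx) hxs)
  have hcs : ∀ v, σ (σs v) = σs (σ v) := fun v => by
    have h1 : Acts A.ω ((x * sE : T9) : M9) (σ ∘ σs) := by
      rw [Units.val_mul]; exact hxa.mul (sE_acts A.cube.pow_three)
    have h2 : Acts A.ω ((sE * x : T9) : M9) (σs ∘ σ) := by
      rw [Units.val_mul]; exact (sE_acts A.cube.pow_three).mul hxa
    exact congrFun (Three.acts_sigma_unique A.cube (c := 1) h1 h2 (by rw [one_smul, hxs.eq])) v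
  obtain ⟨p, rfl⟩ := exists_pl hσ hcs
  have hord : ∀ {z : T9} {q : SL(2, ZMod 3) × SL(2, ZMod 3)}, z ∈ O → (z, q) ∈ pairs A.ω → q ^ N = 1 := by
    intro z q hz hzq
    have h : Acts A.ω ((z ^ N : T9) : M9) (pl (q ^ N)) := pow_mem hzq N
    obtain ⟨c, hc⟩ := hpow z hz
    exact eq_of_pl_eq_id (sigma_id_of_smul h hc)
  have hcomm : ∀ q : SL(2, ZMod 3) × SL(2, ZMod 3),
      (q.1 * p.1 * q.1⁻¹ * p.1⁻¹) ^ 3 = 1 ∧ (q.2 * p.2 * q.2⁻¹ * p.2⁻¹) ^ 3 = 1 := by
    intro q
    obtain ⟨u, hu, -, hua⟩ := exists_real' hH (sym_pl q)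
    have hz : u * x * u⁻¹ * x⁻¹ ∈ O := mul_mem (hconj u hu x hx) (inv_mem hx)
    have hu' : ((u, q) : T9 × (SL(2, ZMod 3) × SL(2, ZMod 3))) ∈ pairs A.ω := mem_pairs.2 hua
    have hx' : ((x, p) : T9 × (SL(2, ZMod 3) × SL(2, ZMod 3))) ∈ pairs A.ω := mem_pairs.2 hxa
    have hzq := mul_mem (mul_mem (mul_mem hu' hx') (inv_mem hu')) (inv_mem hx')
    rw [Prod.inv_mk, Prod.inv_mk, Prod.mk_mul_mk, Prod.mk_mul_mk, Prod.mk_mul_mk] at hzq
    have h := hord hz hzq
    exact ⟨Three.sl_pow_three hN (congrArg Prod.fst h), Three.sl_pow_three hN (congrArg Prod.snd h)⟩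
  have ha := Three.sl_core p.1 (hcomm (Three.rot, 1)).1 (hcomm (Three.shear, 1)).1
  have hb := Three.sl_core p.2 (hcomm (1, Three.rot)).2 (hcomm (1, Three.shear)).2
  have hp := hord hx (mem_pairs.2 hxa)
  have key : ∀ a : SL(2, ZMod 3), a = 1 ∨ a = -1 → a ^ N = 1 → a = 1 := fun a h hN' => by
    rcases h with h | h
    · exact h
    · rwa [h, hN.neg_one_pow, ← h] at hN'
  have hp1 : p = 1 := Prod.ext (key _ ha (congrArg Prod.fst hp)) (key _ hb (congrArg Prod.snd hp))
  rw [hp1, pl_one] at hxa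
  exact eq_of_acts_id hxa

theorem Inner.core {O : Subgroup T9} (hOH : O ≤ H) (hconj : ∀ g ∈ H, ∀ x ∈ O, g * x * g⁻¹ ∈ O)
    {N : ℕ} (hN : Odd N) (hpow : ∀ x ∈ O, ∃ c : F, ((x ^ N : T9) : M9) = c • 1)
    {x : T9} (hx : x ∈ O) (hxj : Commute x (ju : T9)) : ∃ c : F, (x : M9) = c • 1 := by
  haveI : Finite (Matrix.ProjGenLinGroup L2 F) :=
    Finite.of_surjective π (QuotientGroup.mk'_surjective _)
  set K : Subgroup (Matrix.ProjGenLinGroup L2 F) := (O ⊓ Subgroup.centralizer {(ju : T9)}).map π with hK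
  have memK : ∀ {z : Matrix.ProjGenLinGroup L2 F}, z ∈ K → ∃ y ∈ O, Commute y (ju : T9) ∧ π y = z := by
    rintro _ ⟨y, hy, rfl⟩
    exact ⟨y, hy.1, Subgroup.mem_centralizer_singleton_iff.1 hy.2, rfl⟩
  have hnorm : ∀ l ∈ H, Commute l (ju : T9) → ∀ z ∈ K, π l * z * (π l)⁻¹ ∈ K := by
    intro l hl hlc z hz
    obtain ⟨y, hy, hyc, rfl⟩ := memK hz
    exact ⟨l * y * l⁻¹, ⟨hconj l hl y hy,
      Subgroup.mem_centralizer_singleton_iff.2 ((hlc.mul_left hyc).mul_left hlc.inv_left).eq⟩, by simp⟩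
  have hsj := sE_comm_ju A
  -- the inner inversion inverts
  have hinv : ∀ z ∈ K, π sE * z * (π sE)⁻¹ = z⁻¹ := by
    let φ : K →* K :=
      { toFun := fun z => ⟨π sE * z * (π sE)⁻¹, hnorm _ (sE_mem hH) hsj z z.2⟩
        map_one' := Subtype.ext (by simp)
        map_mul' := fun a b => Subtype.ext (by simp [mul_assoc]) }
    have hfpf : MonoidHom.FixedPointFree φ := by
      rintro ⟨z, hz⟩ hfix
      obtain ⟨y, hy, hyc, rfl⟩ := memK hz
      have e : π sE * π y * (π sE)⁻¹ = π y := congrArg Subtype.val hfix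
      rw [mul_inv_eq_iff_eq_mul, ← map_mul, ← map_mul] at e
      obtain ⟨c, hc⟩ := mk_eq_iff_smul.1 e.symm
      obtain ⟨d, hd⟩ := Inner.core_cent hH hs hOH hconj hN hpow hy hyc (commute_sE_of_smul A hc)
      exact Subtype.ext (mk_eq_one_iff.2 ⟨d, hd⟩)
    have h2 : Function.Involutive φ := fun z => Subtype.ext (by
      show π sE * (π sE * z * (π sE)⁻¹) * (π sE)⁻¹ = z
      rw [show ∀ a b : Matrix.ProjGenLinGroup L2 F, a * (a * b * a⁻¹) * a⁻¹ = (a * a) * b * (a * a)⁻¹ from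
        fun a b => by group, ← map_mul, sE_sq, map_one, one_mul, inv_one, mul_one])
    intro z hz
    exact congrArg Subtype.val (congrFun (hfpf.coe_eq_inv_of_involutive h2) ⟨z, hz⟩)
  -- so do its conjugates
  have hinvσ : ∀ {σ : V → V}, Sym σ → (∀ v, σ (σ v) = v) → σ ≠ id → σ ≠ Neg.neg →
      ∃ u : T9, Acts A.ω (u : M9) σ ∧ ∀ z ∈ K, π u * z * (π u)⁻¹ = z⁻¹ := by
    intro σ hσ h2 hid hneg
    obtain ⟨u, -, -, hua⟩ := exists_real' hH hσ
    obtain ⟨l, hl, hlc, -, hlu⟩ := exists_conj_sE hH hσ h2 hid hneg hua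
    refine ⟨u, hua, fun z hz => ?_⟩
    have h' := hinv _ (hnorm _ (inv_mem hl) hlc.inv_left z hz)
    rw [map_inv, inv_inv] at h'
    rw [hlu, show π l * π sE * (π l)⁻¹ * z * (π l * π sE * (π l)⁻¹)⁻¹ =
      π l * (π sE * ((π l)⁻¹ * z * π l) * (π sE)⁻¹) * (π l)⁻¹ by group, h']
    group
  -- products of two of them centralise
  have hpair : ∀ M : SL(2, ZMod 3), ∃ v : T9, Acts A.ω (v : M9) (wσ M ∘ wσ 1) ∧
      ∀ z ∈ K, π v * z * (π v)⁻¹ = z := by
    intro M
    obtain ⟨u, hu, hui⟩ := hinvσ (sym_wσ M) (wσ_invol M) (wσ_ne M).1 (wσ_ne M).2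
    obtain ⟨u', hu', hu'i⟩ := hinvσ (sym_wσ 1) (wσ_invol 1) (wσ_ne 1).1 (wσ_ne 1).2
    refine ⟨u * u', by rw [Units.val_mul]; exact hu.mul hu', fun z hz => ?_⟩
    rw [map_mul, _root_.mul_inv_rev, show π u * π u' * z * ((π u')⁻¹ * (π u)⁻¹) =
      π u * (π u' * z * (π u')⁻¹) * (π u)⁻¹ by group, hu'i z hz, hui _ (inv_mem hz), inv_inv]
  obtain ⟨v₁, a₁, c₁⟩ := hpair Three.rot
  obtain ⟨v₂, a₂, c₂⟩ := hpair quat
  obtain ⟨v₃, a₃, c₃⟩ := hpair (Three.rot⁻¹ * quat⁻¹)
  have hv : π (v₁ * (v₂ * v₃)) = π sE := mk_eq_iff_smul.2 (Acts.unique A.cube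
    (σ := σs) (by rw [← σs_six, Units.val_mul, Units.val_mul]; exact a₁.mul (a₂.mul a₃))
    (sE_acts A.cube.pow_three))
  have hzK : π x ∈ K := ⟨x, ⟨hx, Subgroup.mem_centralizer_singleton_iff.2 hxj.eq⟩, rfl⟩
  have hsq : π x * π x = 1 := by
    have h := hinv _ hzK
    rw [← hv, map_mul, map_mul, show π v₁ * (π v₂ * π v₃) * π x * (π v₁ * (π v₂ * π v₃))⁻¹ =
      π v₁ * (π v₂ * (π v₃ * π x * (π v₃)⁻¹) * (π v₂)⁻¹) * (π v₁)⁻¹ by group, c₃ _ hzK, c₂ _ hzK, c₁ _ hzK] at h
    exact eq_inv_iff_mul_eq_one.1 h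
  refine mk_eq_one_iff.1 ?_
  obtain ⟨k, rfl⟩ := hN
  obtain ⟨c, hc⟩ := hpow x hx
  have h : π (x ^ (2 * k + 1)) = 1 := mk_eq_one_iff.2 ⟨c, hc⟩
  rw [map_pow, pow_succ, pow_mul, pow_two, hsq, one_pow, one_mul] at h
  exact h

/-- **The centraliser of the inner inversion decides.** -/
theorem nrm_of_cent : ∀ g ∈ H, Nrm A.ω g :=
  finish hH (Inner.isolated hH hs) fun _ hOH hconj _ ⟨_, hN, hpow⟩ _ hx hxj =>
    Inner.core hH hs hOH hconj hN hpow hx hxj

end Cfsg.Agent.Forms.Max.SympNine.Nine
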