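import Cfsg.Agent.Lib.Forms.Max.SympNine.Elem
import Cfsg.Agent.Lib.Forms.Max.SympNine.Big
import Cfsg.Agent.Lib.Forms.Max.SympNine.Inner

/-!
# The centraliser of the inversion of one factor normalises the operators
-/

set_option autoImplicit false
set_option linter.unusedSectionVars false
set_option linter.style.haveILetI false

namespace Cfsg.Agent.Forms.Max.SympNine.Nine.Cent

open Matrix Dot LinearMono
open scoped Kronecker MatrixGroups

variable {F : Type*} [Field F]

local notation "M3" => Matrix L1 L1 F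
local notation "M9" => Matrix L2 L2 F
local notation "T3" => GL L1 F
local notation "T9" => GL L2 F

/-- the action on the negative eigenspace -/
def hm (g : T9) : M3 :=
  Matrix.of fun y x => (g : M9) (1, y) (1, x) - (g : M9) (1, y) (2, x)

theorem hm_apply (g : T9) (y x : L1) : hm g y x = (g : M9) (1, y) (1, x) - (g : M9) (1, y) (2, x) := rfl

theorem hm_smul {g g' : T9} {c : F} (e : (g : M9) = c • (g' : M9)) : hm g = c • hm g' := by
  ext y x
  simp [hm, e, mul_sub]

theorem sE_entry {g : T9} (hg : Commute g (sE : T9)) (y x : L2) :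
    (g : M9) (-y.1, y.2) (-x.1, x.2) = (g : M9) y x := by
  have hs : ∀ a b : L2, ((sE : T9) : M9) a b = if a = (-b.1, b.2) then 1 else 0 := fun a b => by
    rw [sE, bd_apply]
    by_cases h2 : a.2 = b.2 <;> by_cases h1 : a.1 = -b.1 <;> simp [jm, h1, h2, Prod.ext_iff]
  have e := congrFun (congrFun (congrArg (fun u : T9 => (u : M9)) hg.eq) (-y.1, y.2)) x
  simp only [Units.val_mul, Matrix.mul_apply, hs] at e
  rw [Finset.sum_eq_single (-x.1, x.2) (fun z _ hz => by simp [hz]) (by simp),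
    Finset.sum_eq_single y (fun z _ hz => by
      rw [if_neg (fun (h : ((-y.1, y.2) : L2) = (-z.1, z.2)) => hz (Prod.ext (neg_injective (congrArg Prod.fst h)).symm (congrArg (fun w : L2 => w.2) h).symm)),
        zero_mul]) (by simp)] at e
  simpa using e

theorem neg_one3 : -(1 : L1) = 2 := by decide
theorem neg_two3 : -(2 : L1) = 1 := by decide

theorem hm_mul {g g' : T9} (hg' : Commute g' (sE : T9)) : hm (g * g') = hm g * hm g' := by
  ext y x
  simp only [hm_apply, Units.val_mul, Matrix.mul_apply, Fintype.sum_prod_type, Three.sum_zmod]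
  have a : ∀ w : L1, (g' : M9) ((0 : L1), w) ((2 : L1), x) = (g' : M9) (0, w) (1, x) := fun w => by
    have := sE_entry hg' ((0 : L1), w) ((1 : L1), x)
    simpa [neg_one3] using this
  have b : ∀ w : L1, (g' : M9) ((2 : L1), w) ((1 : L1), x) = (g' : M9) (1, w) (2, x) := fun w => by
    have := sE_entry hg' ((1 : L1), w) ((2 : L1), x)
    simpa [neg_one3, neg_two3] using this
  have c : ∀ w : L1, (g' : M9) ((2 : L1), w) ((2 : L1), x) = (g' : M9) (1, w) (1, x) := fun w => by
    have := sE_entry hg' ((1 : L1), w) ((1 : L1), x)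
    simpa [neg_one3] using this
  simp only [a, b, c]
  ring

/-- the restriction to the negative eigenspace -/
noncomputable def hh : Subgroup.centralizer {(sE : T9)} →* T3 :=
  MonoidHom.toHomUnits
    { toFun := fun g => hm (g : T9)
      map_one' := by
        ext y x
        by_cases h : y = x <;>
          simp [hm, Matrix.one_apply, h, show (1 : L1) ≠ 2 by decide]
      map_mul' := fun g g' => hm_mul (Subgroup.mem_centralizer_singleton_iff.1 g'.2) }

theorem mem_cs {g : T9} : g ∈ Subgroup.centralizer {(sE : T9)} ↔ Commute g sE :=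
  Subgroup.mem_centralizer_singleton_iff

theorem hh_val (g : Subgroup.centralizer {(sE : T9)}) : (hh g : M3) = hm (g : T9) := rfl

theorem hm_k1 (l : T3) : hm (k1 l) = ((l : M3) 1 1 - (l : M3) 1 2) • (1 : M3) := by
  ext y x
  simp only [hm_apply, k1_val, kroneckerMap_apply, Matrix.smul_apply, smul_eq_mul]
  ring

theorem hm_k2 (M : T3) : hm (k2 M) = (M : M3) := by
  ext y x
  simp [hm_apply, k2_val, Matrix.one_apply, show (1 : L1) ≠ 2 by decide]

theorem k2_comm (M : T3) : Commute (k2 M) (sE : T9) := by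
  rw [sE_eq]; exact (k1_k2_comm ju M).symm

theorem k1_comm {l : T3} (h : Commute l ju) : Commute (k1 l) (sE : T9) := by
  rw [sE_eq]; exact h.map k1

variable [Fintype F] {A : Amb F}

theorem hm_C0 {l : T3} (hl : l ∈ C0 A) : hm (k1 l) = 1 := by rw [hm_k1, hl.2.2.2, one_smul]

theorem hh_mem {g : Subgroup.centralizer {(sE : T9)}} (hg : (g : T9) ∈ A.Isom L2) : hh g ∈ A.Isom L1 := fun hu => by
  rw [hh_val]
  ext y x
  have e := hg hu
  have hc := mem_cs.1 g.2
  have e1 := congrFun (congrFun e ((1 : L1), y)) ((1 : L1), x)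
  have e2 := congrFun (congrFun e ((2 : L1), y)) ((1 : L1), x)
  simp only [Matrix.mul_apply, Matrix.transpose_apply, Matrix.map_apply, Fintype.sum_prod_type,
    Three.sum_zmod, hm_apply, Matrix.one_apply, map_sub] at e1 e2 ⊢
  have a : ∀ w z : L1, ((g : T9) : M9) ((0 : L1), w) ((2 : L1), z) = ((g : T9) : M9) (0, w) (1, z) := fun w z => by
    simpa [neg_one3] using sE_entry hc ((0 : L1), w) ((1 : L1), z)
  have b : ∀ w z : L1, ((g : T9) : M9) ((2 : L1), w) ((1 : L1), z) = ((g : T9) : M9) (1, w) (2, z) := fun w z => by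
    simpa [neg_one3, neg_two3] using sE_entry hc ((1 : L1), w) ((2 : L1), z)
  have c : ∀ w z : L1, ((g : T9) : M9) ((2 : L1), w) ((2 : L1), z) = ((g : T9) : M9) (1, w) (1, z) := fun w z => by
    simpa [neg_one3] using sE_entry hc ((1 : L1), w) ((1 : L1), z)
  simp only [a, b, c, Prod.mk.injEq, show (2 : L1) ≠ 1 by decide, false_and, if_false, true_and] at e1 e2 ⊢
  linear_combination e1 - e2

theorem tu_i2 (v : L1 × L1) : tu A.cube (i2 v) = k2 (tu A.cube v) := Units.ext (by
  have hneg : -i2 v = i2 (-v) := by simp [i2]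
  have e : ∀ u : L1 × L1, wm A.ω (i2 u) = (1 : M3) ⊗ₖ wm A.ω u := fun u =>
    congrArg (fun z : T9 => (z : M9)) (wu_i2 (A := A) u)
  rw [k2_val, tu_val, tu_val, tm, tm, hneg, e, e, kronecker_add, kronecker_smul, kronecker_smul, kronecker_add,
    kronecker_add, one_kronecker_one])

variable (A) in
/-- the kernel -/
noncomputable def Ker (H : Subgroup T9) : Subgroup T9 :=
  ((H.comap (Subgroup.centralizer {(sE : T9)}).subtype) ⊓ hh.ker).map (Subgroup.centralizer {(sE : T9)}).subtype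

variable {H : Subgroup (GL L2 F)}

theorem mem_Ker {g : T9} : g ∈ Ker H ↔ g ∈ H ∧ Commute g sE ∧ hm g = 1 := by
  constructor
  · rintro ⟨x, ⟨hx, hk⟩, rfl⟩
    exact ⟨hx, mem_cs.1 x.2, congrArg Units.val hk⟩
  · rintro ⟨hg, hc, h1⟩
    exact ⟨⟨g, mem_cs.2 hc⟩, ⟨hg, Units.ext h1⟩, rfl⟩

theorem hm_conj {r g : T9} (hr : Commute r (sE : T9)) (hg : Commute g (sE : T9)) (h1 : hm g = 1) :
    hm (r * g * r⁻¹) = 1 := by
  have : hh (⟨r, mem_cs.2 hr⟩ * ⟨g, mem_cs.2 hg⟩ * ⟨r, mem_cs.2 hr⟩⁻¹) = 1 := by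
    rw [map_mul, map_mul, map_inv, show hh ⟨g, mem_cs.2 hg⟩ = 1 from Units.ext h1, mul_one, mul_inv_cancel]
  exact congrArg Units.val this

local notation "π" => Matrix.ProjGenLinGroup.mk (n := L2) (R := F)

theorem sl_centre : ∀ L : SL(2, ZMod 3), Three.rot * L = L * Three.rot → Three.shear * L = L * Three.shear →
    L = 1 ∨ L = -1 := by decide

theorem eq_one_or_tau {z : T3} (hz : z ∈ C0 A) (h : ∀ l ∈ C0 A, Commute z l) : z = 1 ∨ z = tau := by
  rcases sl_centre (toL ⟨z, hz⟩) (by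
      rw [← toL_du (A := A), ← map_mul, ← map_mul]; exact congrArg toL (Subtype.ext (h _ du_C0).eq.symm))
      (by rw [← toL_l0 (A := A), ← map_mul, ← map_mul]; exact congrArg toL (Subtype.ext (h _ l0_C0).eq.symm)) with e | e
  · exact Or.inl (congrArg Subtype.val (toL_injective (e.trans (map_one toL).symm)))
  · exact Or.inr (congrArg Subtype.val (toL_injective (e.trans toL_tau.symm)))

theorem tau_sq : (tau : T3) * tau = 1 := Units.ext (by simp [tau_val, jm_sq])

variable (hH : Rich A H)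
include hH

theorem k2_mem_H {M : T3} (hM : M ∈ A.Isom L1) (hn : Nrm A.ω M) : k2 M ∈ H :=
  hH.mem_of_nrm (k2_mem hM) (nrm_k2 A.cube.pow_three hn)

theorem k1_mem_H {l : T3} (hl : l ∈ C0 A) : k1 l ∈ H :=
  hH.mem_of_nrm (k1_mem hl.1) (nrm_k1 A.cube.pow_three (nrm_C0 hl))

section Small

variable (hsmall : ∀ g ∈ P0 H, Nrm A.ω g) (hnf : ¬ Full A H)
include hsmall hnf

theorem ker_block {g : T9} (hg : g ∈ Ker H) (hc : Commute g (wu A.cube.pow_three (i2 (0, 1)))) :
    ∃ l ∈ C0 A, g = k1 l := by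
  obtain ⟨hgH, hgs, hg1⟩ := mem_Ker.1 hg
  obtain ⟨f, rfl⟩ := exists_bd hc
  have hC : ∀ j, f j ∈ C0 A := fun j => by
    have hcomm : Commute (f j) (ju : T3) := by
      have hbd : bd (f * fun _ => (ju : T3)) = bd ((fun _ => ju) * f) := by
        rw [map_mul, map_mul]; exact hgs.eq
      exact congrFun (bd_injective hbd) j
    refine C0_of_nrm (bd_mem.1 (hH.le hgH) j) (hsmall _ (mem_P0 hH hgH j)) hcomm ?_
    have := congrFun (congrFun hg1 j) j
    simpa [hm_apply, bd_apply] using this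
  refine ⟨f 0, hC 0, ?_⟩
  have hmem : (fun j => (f 0)⁻¹ * f j) ∈ Bd H := by
    show bd ((fun _ => (f 0)⁻¹) * f) ∈ H
    rw [map_mul]
    exact mul_mem (k1_mem_H hH (inv_mem (hC 0))) hgH
  by_contra hne
  refine hnf (elem hH hmem (inv_mul_cancel _) (fun j => mul_mem (inv_mem (hC 0)) (hC j)) (fun h => hne ?_) hsmall)
  rw [k1_eq]
  congr 1
  funext j
  exact (inv_mul_eq_one.1 (congrFun h j)).symm

theorem ker_le {g : T9} (hg : g ∈ Ker H) : ∃ l ∈ C0 A, g = k1 l := by
  classical
  haveI : Finite (Matrix.ProjGenLinGroup L2 F) := Finite.of_surjective π (QuotientGroup.mk'_surjective _)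
  have hlin : ∀ {x y : T9}, π x = π y → hm y = 1 → hm x = 1 → x = y := fun {x y} e hy hx => by
    obtain ⟨c, hc⟩ := mk_eq_iff_smul.1 e
    have := hm_smul hc
    rw [hx, hy] at this
    have hc1 : c = 1 := by simpa using (congrFun (congrFun this 0) 0).symm
    exact Units.ext (by rw [hc, hc1, one_smul])
  let ψ : Multiplicative (L1 × L1) →* Matrix.ProjGenLinGroup L2 F :=
    MonoidHom.mk' (fun v => π (k2 (wu A.cube.pow_three v.toAdd))) fun v w => by
      rw [← map_mul, ← map_mul, mk_eq_iff_smul]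
      refine ⟨(A.ω ^ (sf v.toAdd w.toAdd).val)⁻¹, ?_⟩
      rw [k2_val, k2_val, Units.val_mul, wu_val, wu_val, wu_val, wm_mul A.cube.pow_three, kronecker_smul, smul_smul,
        inv_mul_cancel₀ (pow_ne_zero _ A.cube.ne_zero), one_smul]
      rfl
  have hψ : Function.Injective ψ := by
    rw [injective_iff_map_eq_one]
    intro v hv
    change π _ = 1 at hv
    rw [← map_one π, mk_eq_iff_smul] at hv
    obtain ⟨c, hc⟩ := hv
    have e := hm_smul (g := k2 (wu A.cube.pow_three v.toAdd)) (g' := k2 1) (c := c) (by rw [map_one]; exact hc)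
    rw [hm_k2, hm_k2, wu_val, Units.val_one, ← wm_zero (ω := A.ω) (X := L1)] at e
    exact Multiplicative.toAdd.injective (wm_inj A.cube e).1
  set K := (Ker H).map π with hK
  set C := (C0 A).map ((π : T9 →* _).comp k1) with hCdef
  set B := ψ.range with hB
  haveI : IsMulCommutative B := ⟨⟨by
    rintro ⟨_, v, rfl⟩ ⟨_, w, rfl⟩
    exact Subtype.ext (by simp only [Subgroup.coe_mul, ← map_mul, mul_comm])⟩⟩
  have hconjK : ∀ a ∈ B, ∀ k ∈ K, a * k * a⁻¹ ∈ K := by
    rintro _ ⟨v, rfl⟩ _ ⟨x, hx, rfl⟩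
    obtain ⟨hxH, hxs, hx1⟩ := mem_Ker.1 hx
    set r := k2 (wu A.cube.pow_three v.toAdd)
    have hr : r ∈ H := k2_mem_H hH (wu_mem _) (nrm_wu A.cube _)
    refine ⟨r * x * r⁻¹, mem_Ker.2 ⟨mul_mem (mul_mem hr hxH) (inv_mem hr),
      ((k2_comm _).mul_left hxs).mul_left (k2_comm _).inv_left, hm_conj (k2_comm _) hxs hx1⟩, ?_⟩
    simp [ψ, r]
  have key : K ≤ C := by
    refine le_of_fixed K C B ?_ ?_ ?_ ?_ ?_ ?_ (u := π (k1 (l0 A))) ⟨_, l0_C0, rfl⟩
      ⟨_, mem_Ker.2 ⟨k1_mem_H hH l0_C0, k1_comm l0_C0.2.1, hm_C0 l0_C0⟩, rfl⟩ ?_ ?_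
    · rw [hB, ← Nat.card_congr (MonoidHom.ofInjective hψ).toEquiv, Nat.card_eq_fintype_card]
      rfl
    · rintro _ ⟨v, rfl⟩
      rw [← map_pow, ← map_one ψ]
      congr 1
      refine Multiplicative.toAdd.injective ?_
      show (3 : ℕ) • v.toAdd = 0
      rw [succ_nsmul, succ_nsmul, one_nsmul]
      exact (congrArg₂ (fun a b => (a, b)) (Exp3.add3 v.toAdd.1) (Exp3.add3 v.toAdd.2)).trans rfl
    · intro a ha
      rw [Subgroup.mem_normalizer_iff]
      refine fun k => ⟨hconjK a ha k, fun h => ?_⟩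
      have := hconjK a⁻¹ (inv_mem ha) _ h
      simpa [mul_assoc] using this
    · rintro _ ⟨v, rfl⟩ hv _ ⟨⟨x, hx, rfl⟩, hxc⟩
      obtain ⟨hxH, hxs, hx1⟩ := mem_Ker.1 hx
      have hv0 : v.toAdd ≠ 0 := fun h => hv (by
        rw [show v = 1 from Multiplicative.toAdd.injective h, map_one])
      set w := k2 (wu A.cube.pow_three v.toAdd) with hw
      have hxw : Commute x w := by
        have e : π (x * w) = π (w * x) := by
          rw [map_mul, map_mul]; exact Subgroup.mem_centralizer_singleton_iff.1 hxc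
        obtain ⟨c, hc⟩ := mk_eq_iff_smul.1 e
        have e1 := hm_smul hc
        rw [hm_mul (k2_comm _), hm_mul hxs, hx1, one_mul, mul_one, hm_k2, wu_val] at e1
        exact Units.ext (by rw [hc, (wm_inj A.cube e1).2, one_smul])
      obtain ⟨σ, hσ, hσv⟩ := exists_sym_map (v := v.toAdd) (w := ((0, 1) : L1 × L1)) hv0 (by decide)
      obtain ⟨M, hM, hMa⟩ := exists_real A.cube hσ (S := H.comap k2) fun u => by
        show k2 _ ∈ H
        rw [← tu_i2]; exact hH.mem_tu _
      set r := k2 M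
      have hconj : r * w * r⁻¹ = wu A.cube.pow_three (i2 (0, 1)) := by
        rw [wu_i2, hw, ← map_mul, ← map_inv, ← map_mul, ← hσv]
        congr 1
        rw [mul_inv_eq_iff_eq_mul]
        exact Units.ext (hMa v.toAdd)
      obtain ⟨l, hl, e⟩ := ker_block hH hsmall hnf (g := r * x * r⁻¹)
        (mem_Ker.2 ⟨mul_mem (mul_mem hM hxH) (inv_mem hM), ((k2_comm _).mul_left hxs).mul_left (k2_comm _).inv_left,
          hm_conj (k2_comm _) hxs hx1⟩) (by rw [← hconj]; exact Commute.conj_iff r |>.2 hxw)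
      refine ⟨l, hl, ?_⟩
      show π (k1 l) = π x
      rw [show x = r⁻¹ * (r * x * r⁻¹) * r by group, e, mul_assoc, (k1_k2_comm l M).eq, inv_mul_cancel_left]
    · rintro _ ⟨v, rfl⟩ _ ⟨l, hl, rfl⟩
      show π _ * π (k1 l) = π (k1 l) * π _
      rw [← map_mul, ← map_mul, (k1_k2_comm l _).eq]
    · intro h
      have h1 : Nat.card C ∣ 24 := by
        refine (Subgroup.card_map_dvd (C0 A) _).trans ?_
        have := Subgroup.card_dvd_of_injective (toL : C0 A →* SL(2, ZMod 3)) toL_injective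
        rwa [Nat.card_eq_fintype_card (α := SL(2, ZMod 3)), show Fintype.card SL(2, ZMod 3) = 24 by decide] at this
      exact absurd (h.trans h1) (by norm_num)
    · refine orderOf_eq_prime ?_ fun h => ?_
      · rw [← map_pow, ← map_pow, show (l0 A) ^ 3 = 1 from Units.ext ?_, map_one, map_one]
        rw [pow_succ, pow_two, Units.val_mul, Units.val_mul, l0_val, Three.m3_mul, Three.m3_mul, Units.val_one,
          Three.one_eq]
        have h3 := A.cube.pow_three
        apply Three.ext3 <;> simp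
        linear_combination (A.ω ^ 3 + 1) * h3
      · rw [← map_one π, mk_eq_iff_smul] at h
        obtain ⟨c, hc⟩ := h
        have a := congrFun (congrFun hc ((0, 0) : L2)) (0, 0)
        have b := congrFun (congrFun hc ((1, 0) : L2)) (1, 0)
        simp [k1_val, kroneckerMap_apply, l0_val] at a b
        exact A.cube.sq_ne_one (a.trans b.symm)
    · rintro _ ⟨x, hx, rfl⟩ e
      obtain ⟨hxH, hxs, hx1⟩ := mem_Ker.1 hx
      rw [← map_inv, ← map_inv, ← map_mul, ← map_mul] at e
      have hl := k1_comm (F := F) (l0_C0 (A := A)).2.1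
      have e' := congrArg (fun u : T9 => (u : M9).trace) (hlin e (by rw [← map_inv]; exact hm_C0 (inv_mem l0_C0))
        (hm_conj hxs hl (hm_C0 l0_C0)))
      simp only [Units.val_mul] at e'
      rw [Matrix.trace_mul_comm, ← Matrix.mul_assoc, Units.inv_mul, Matrix.one_mul, ← map_inv,
        show (l0 A)⁻¹ = l0 A * l0 A from inv_eq_of_mul_eq_one_right (Units.ext (by
          rw [Units.val_mul, Units.val_mul, l0_val, Three.m3_mul, Three.m3_mul, Units.val_one, Three.one_eq]
          apply Three.ext3 <;> simp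
          linear_combination (A.ω ^ 3 + 1) * A.cube.pow_three)), k1_val, k1_val, trace_kronecker, trace_kronecker,
        Units.val_mul, l0_val, Three.m3_mul, Matrix.trace_one, ZMod.card] at e'
      simp [Matrix.trace, Three.sum_zmod] at e'
      have h30 := A.cube.three
      apply A.cube.ne_one
      refine mul_left_cancel₀ (mul_ne_zero h30 A.cube.ne_zero) ?_
      rcases e' with e' | e'
      · linear_combination 3 * e' + 3 * A.ω * A.cube.pow_three
      · exact absurd e' h30
  obtain ⟨l, hl, e⟩ := key ⟨g, hg, rfl⟩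
  exact ⟨l, hl, hlin e.symm (hm_C0 hl) (mem_Ker.1 hg).2.2⟩

/-- lifts centralising the kernel -/
theorem exists_lift (hp : A.p ≠ 2) (hP : ∀ Y : Three.PL A, ∃ g ∈ H, Commute g (sE : T9) ∧
      hm g = Three.blk 1 ((Y : SL(2, F)) : Matrix (Fin 2) (Fin 2) F)) (Y : Three.PL A) :
    ∃ y ∈ H, Commute y (sE : T9) ∧ (∀ l ∈ C0 A, Commute y (k1 l)) ∧
      hm y = Three.blk 1 ((Y : SL(2, F)) : Matrix (Fin 2) (Fin 2) F) := by
  let J : Subgroup (Three.PL A) := Three.finSub
    {Y | ∃ y ∈ H, Commute y (sE : T9) ∧ (∀ l ∈ C0 A, Commute y (k1 l)) ∧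
      hm y = Three.blk 1 ((Y : SL(2, F)) : Matrix (Fin 2) (Fin 2) F)}
    ⟨1, one_mem H, Commute.one_left _, fun _ _ => Commute.one_left _, by
      rw [← map_one k2, hm_k2, Units.val_one]; simp [Three.blk_one]⟩
    (by
      rintro a ⟨y, hy, hys, hyl, e⟩ b ⟨y', hy', hys', hyl', e'⟩
      exact ⟨y * y', mul_mem hy hy', hys.mul_left hys', fun l hl => (hyl l hl).mul_left (hyl' l hl), by
        rw [hm_mul hys', e, e', Three.blk_mul]; simp⟩)
  have hJ : J = ⊤ := Blocks.top_of_za hp ⟨fun a ha b => by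
    obtain ⟨y, hy, hys, hyl, e⟩ := ha
    obtain ⟨g, hg, hgs, eg⟩ := hP b
    have hgy : Commute (g * y * g⁻¹) (sE : T9) := (hgs.mul_left hys).mul_left hgs.inv_left
    refine ⟨g * y * g⁻¹, mul_mem (mul_mem hg hy) (inv_mem hg), hgy, fun l hl => ?_, ?_⟩
    · obtain ⟨l', hl', e'⟩ := ker_le hH hsmall hnf (g := g⁻¹ * k1 l * g) (mem_Ker.2
        ⟨mul_mem (mul_mem (inv_mem hg) (k1_mem_H hH hl)) hg, (hgs.inv_left.mul_left (k1_comm hl.2.1)).mul_left hgs,
          by simpa using hm_conj hgs.inv_left (k1_comm hl.2.1) (hm_C0 hl)⟩)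
      rw [show k1 l = g * k1 l' * g⁻¹ by rw [← e']; group]
      exact Commute.conj_iff g |>.2 (hyl l' hl')
    · have key : hm (g * y * g⁻¹) * hm g = hm g * hm y := by
        rw [← hm_mul hgs, inv_mul_cancel_right, hm_mul hys]
      rw [e, eg, Three.blk_mul, one_mul] at key
      calc hm (g * y * g⁻¹) = hm (g * y * g⁻¹) * (Three.blk 1 ((b : SL(2, F)) : Matrix (Fin 2) (Fin 2) F) *
            Three.blk 1 (((b⁻¹ : Three.PL A) : SL(2, F)) : Matrix (Fin 2) (Fin 2) F)) := by
            rw [Three.blk_mul, one_mul, ← Matrix.SpecialLinearGroup.coe_mul, ← Subgroup.coe_mul, mul_inv_cancel]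
            simp [Three.blk_one]
        _ = _ := by
            rw [← Matrix.mul_assoc, key, Three.blk_mul, one_mul, ← Matrix.SpecialLinearGroup.coe_mul,
              ← Matrix.SpecialLinearGroup.coe_mul, ← Subgroup.coe_mul, ← Subgroup.coe_mul]⟩
    ⟨k2 (wu A.cube.pow_three ((0, 1) : L1 × L1)), k2_mem_H hH (wu_mem _) (nrm_wu A.cube _), k2_comm _,
      fun l _ => (k1_k2_comm l _).symm, by rw [hm_k2, wu_val, Three.wm01]; rfl⟩
  exact (hJ ▸ Subgroup.mem_top Y : Y ∈ J)

end Small

end Cfsg.Agent.Forms.Max.SympNine.Nine.Cent
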