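import Cfsg.Agent.Lib.Forms.Max.SympNine.Cent

/-!
# The dichotomy in degree nine
-/

set_option autoImplicit false
set_option linter.unusedSectionVars false
set_option linter.style.haveILetI false

namespace Cfsg.Agent.Forms.Max.SympNine.Nine

open Matrix Dot LinearMono Cent
open scoped MatrixGroups

variable {F : Type*} [Field F]

local notation "M3" => Matrix L1 L1 F
local notation "M9" => Matrix L2 L2 F
local notation "T3" => GL L1 F
local notation "T9" => GL L2 F

/-- an element exchanging two blocks moves block scalars -/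
theorem anti_conj {w : T9} (hw : ∀ y x : L2, y.2 ≠ -x.2 → (w : M9) y x = 0) {f : L1 → T3}
    (hf : ∀ j, Commute w (k1 (f j))) : w * bd f = bd (fun j => f (-j)) * w := by
  refine Units.ext ?_
  ext y x
  have hk := congrFun (congrFun (congrArg (fun u : T9 => (u : M9)) (hf x.2).eq) y) x
  simp only [Units.val_mul, Matrix.mul_apply, k1_eq, bd_apply] at hk ⊢
  by_cases h : y.2 = -x.2
  · calc ∑ z, (w : M9) y z * (if z.2 = x.2 then (f z.2 : M3) z.1 x.1 else 0)
        = ∑ z, (w : M9) y z * (if z.2 = x.2 then (f x.2 : M3) z.1 x.1 else 0) :=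
          Finset.sum_congr rfl fun z _ => by by_cases hz : z.2 = x.2 <;> simp [hz]
      _ = ∑ z, (if y.2 = z.2 then (f x.2 : M3) y.1 z.1 else 0) * (w : M9) z x := hk
      _ = _ := Finset.sum_congr rfl fun z _ => by rw [h, neg_neg]
  · rw [Finset.sum_eq_zero, Finset.sum_eq_zero]
    · intro z _
      by_cases hz : y.2 = z.2
      · rw [hw z x (by rw [← hz]; exact h), mul_zero]
      · rw [if_neg hz, zero_mul]
    · intro z _
      by_cases hz : z.2 = x.2
      · rw [hw y z (by rw [hz]; exact h), zero_mul]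
      · rw [if_neg hz, mul_zero]

theorem k2_diag {D : T3} (hD : ∀ y x : L1, y ≠ x → (D : M3) y x = 0) {c : L1 → F} (hc : ∀ j, c j ≠ 0)
    (hcD : ∀ j, c j = (D : M3) j j) : k2 D = bd fun j => sg L1 (hc j) := by
  refine Units.ext ?_
  ext y x
  rw [bd_apply, k2_val]
  by_cases h2 : y.2 = x.2
  · by_cases h1 : y.1 = x.1 <;> simp [kroneckerMap_apply, Matrix.one_apply, h1, h2, hcD]
  · simp [kroneckerMap_apply, h2, hD _ _ h2]

variable [Fintype F] {A : Amb F}

theorem sw_k2 (M : T3) : (sw : T9) * k2 M = k1 M * sw := by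
  refine Units.ext ?_
  ext y x
  rw [Units.val_mul, Units.val_mul, Matrix.mul_apply, Matrix.mul_apply,
    Finset.sum_eq_single y.swap (fun z _ hz => by
      rw [sw_apply, if_neg (fun h => hz (by rw [h, Prod.swap_swap])), zero_mul]) (by simp),
    Finset.sum_eq_single x.swap (fun z _ hz => by rw [sw_apply, if_neg hz, mul_zero]) (by simp)]
  by_cases h : y.2 = x.1 <;>
    simp [sw_apply, k1_val, k2_val, kroneckerMap_apply, Matrix.one_apply, h, Ne.symm, mul_comm]


theorem exists_unim_cube (hp : A.p ≠ 2) : ∃ l : Fˣ, A.Unim (l : F) ∧ (l : F) ^ 3 ≠ 1 := by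
  classical
  obtain ⟨γ, hγ⟩ := IsCyclic.exists_ofOrder_eq_natCard (α := Fˣ)
  rw [Nat.card_units, Nat.card_eq_fintype_card] at hγ
  have h2 := A.prime.two_le
  have h3 := A.ne_three
  rcases A.card with ⟨hu, hc, hp3⟩ | ⟨hu, hc, hp3⟩
  · refine ⟨γ, ⟨γ.ne_zero, fun h => absurd h hu⟩, fun h => ?_⟩
    have := orderOf_dvd_of_pow_eq_one (show γ ^ 3 = 1 from Units.ext (by simpa using h))
    have := Nat.le_of_dvd (by norm_num) this
    rw [hγ, hc] at this
    rcases (show A.p = 2 ∨ A.p = 3 ∨ A.p = 4 by omega) with e | e | e <;>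
      first | omega | exact absurd (e ▸ A.prime) (by norm_num)
  · obtain ⟨k, hk⟩ : ∃ k, A.p = k + 1 := ⟨A.p - 1, by omega⟩
    have hcard : Fintype.card F - 1 = k * (A.p + 1) := by
      rw [hc, hk]
      rw [show (k + 1) ^ 2 = k * (k + 1 + 1) + 1 by ring, Nat.add_sub_cancel]
    refine ⟨γ ^ k, ⟨(γ ^ k).ne_zero, fun _ => ?_⟩, fun h => ?_⟩
    · have e : γ ^ (k * (A.p + 1)) = 1 := by rw [← hcard, ← hγ, pow_orderOf_eq_one]
      rw [A.bar_apply, ← pow_succ, ← Units.val_pow_eq_pow_val, ← pow_mul, e, Units.val_one]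
    · have := orderOf_dvd_of_pow_eq_one (show (γ ^ k) ^ 3 = 1 from Units.ext (by simpa using h))
      rw [orderOf_pow' γ (by omega), hγ, hcard, Nat.gcd_eq_right (Dvd.intro _ rfl),
        Nat.mul_div_cancel_left _ (by omega)] at this
      have := Nat.le_of_dvd (by norm_num) this
      omega

variable {H : Subgroup (GL L2 F)} (hH : Rich A H)
include hH

section Small

variable (hsmall : ∀ g ∈ P0 H, Nrm A.ω g) (hnf : ¬ Full A H)
include hsmall hnf

/-- a member supported on one block by the inversion is impossible -/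
theorem no_single_ju (h : bd (fun j : L1 => if j = 0 then (ju : T3) else 1) ∈ H) : False := by
  have e0 : bd (fun j : L1 => if j = 0 then (ju : T3) else 1) =
      mon (Equiv.swap ((1, 0) : L2) (2, 0)) fun _ => (1 : Fˣ) := by
    refine Units.ext ?_
    ext y x
    rw [bd_apply, mon_apply]
    obtain ⟨x1, x2⟩ := x
    obtain ⟨y1, y2⟩ := y
    by_cases hx : x2 = 0
    · subst hx
      have hsw : Equiv.swap ((1, 0) : L2) (2, 0) (x1, 0) = (-x1, 0) := by revert x1; decide
      by_cases hy : y2 = 0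
      · subst hy
        rw [hsw]
        by_cases h1 : y1 = -x1 <;> simp [h1, jm]
      · simp [hsw, hy]
    · rw [Equiv.swap_apply_of_ne_of_ne (fun e => hx (congrArg Prod.snd e)) (fun e => hx (congrArg Prod.snd e))]
      by_cases hy : y2 = x2
      · subst hy
        by_cases h1 : y1 = x1 <;> simp [hx, h1]
      · simp [hy]
  rw [e0] at h
  obtain ⟨π, -, -, hg⟩ := moved hH (by decide) h (u := ((0, 0) : L2)) (v := (0, 1)) (by decide)
  set g := mon (Equiv.swap ((0, 0) : L2) (0, 1)) fun _ => (1 : Fˣ)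
  have hker : g ∈ Ker H := by
    refine Cent.mem_Ker.2 ⟨hg, ?_, ?_⟩
    · refine Units.ext ?_
      ext y x
      rw [Units.val_mul, Units.val_mul, Matrix.mul_apply, Matrix.mul_apply]
      simp only [g, mon_apply, sE, bd_apply, ju_val, jm, Matrix.of_apply, Units.val_one]
      revert y x
      have key : ∀ y x : L2, (y = Equiv.swap ((0, 0) : L2) (0, 1) (-x.1, x.2)) ↔
          (Equiv.swap ((0, 0) : L2) (0, 1) x = (-y.1, y.2)) := by decide
      intro y x
      rw [Finset.sum_eq_single (-x.1, x.2) (fun z _ hz => by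
          by_cases h2 : z.2 = x.2
          · by_cases h1 : z.1 = -x.1
            · exact absurd (Prod.ext (x := z) (y := ((-x.1, x.2) : L2)) h1 h2) hz
            · simp [h2, h1]
          · simp [h2]) (by simp),
        Finset.sum_eq_single (Equiv.swap ((0, 0) : L2) (0, 1) x) (fun z _ hz => by simp [hz]) (by simp)]
      have k := key y x
      by_cases h : y = Equiv.swap ((0, 0) : L2) (0, 1) (-x.1, x.2)
      · have h' := k.1 h
        simp [← h, h']
      · have h' := fun e => h (k.2 e)
        rw [if_neg h]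
        by_cases ha : y.2 = (Equiv.swap ((0, 0) : L2) (0, 1) x).2
        · by_cases hb : y.1 = -(Equiv.swap ((0, 0) : L2) (0, 1) x).1
          · exact absurd (Prod.ext (y := ((-y.1, y.2) : L2)) (by simp [hb]) ha.symm) h'
          · simp [hb]
        · simp [ha]
    · ext y x
      have e1 : Equiv.swap ((0, 0) : L2) (0, 1) ((1 : L1), x) = (1, x) :=
        Equiv.swap_apply_of_ne_of_ne (by simp [Prod.ext_iff]) (by simp [Prod.ext_iff])
      have e2 : Equiv.swap ((0, 0) : L2) (0, 1) ((2 : L1), x) = (2, x) :=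
        Equiv.swap_apply_of_ne_of_ne (fun e => (show (2 : L1) ≠ 0 by decide) (congrArg Prod.fst e))
          (fun e => (show (2 : L1) ≠ 0 by decide) (congrArg Prod.fst e))
      simp only [hm_apply, g, mon_apply, e1, e2]
      by_cases hyx : y = x
      · subst hyx; simp [show (1 : L1) ≠ 2 by decide]
      · simp [hyx, show (1 : L1) ≠ 2 by decide]
  obtain ⟨l, -, e⟩ := ker_le hH hsmall hnf hker
  have := congrFun (congrFun (congrArg (fun u : T9 => (u : M9)) e) ((0, 0) : L2)) ((0, 1) : L2)
  simp [g, mon_apply, k1_eq, bd_apply] at this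

/-- the negative eigenspace does not carry plane groups -/
theorem not_planar (hp : A.p ≠ 2) (hP : ∀ Y : Three.PL A, ∃ g ∈ H, Commute g (sE : T9) ∧
      hm g = Three.blk 1 ((Y : SL(2, F)) : Matrix (Fin 2) (Fin 2) F)) : False := by
  obtain ⟨l, hl, hl3⟩ := exists_unim_cube hp
  set a : T9 := k2 (wu A.cube.pow_three ((0, 1) : L1 × L1)) with hadef
  have haw : a = wu A.cube.pow_three (i2 (0, 1)) := (wu_i2 _).symm
  have haH : a ∈ H := k2_mem_H hH (wu_mem _) (nrm_wu A.cube _)
  have hwd : wm A.ω ((0, 1) : L1 × L1) = Three.blk 1 !![A.ω, 0; 0, A.ω ^ 2] := Three.wm01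
  have ha3 : a * a * a = 1 := by
    rw [hadef, ← map_mul, ← map_mul, ← map_one k2]
    congr 1
    refine Units.ext ?_
    rw [Units.val_mul, Units.val_mul, wu_val, hwd, Three.blk_mul, Three.blk_mul, Units.val_one, ← Three.blk_one]
    congr 1
    · ring
    · have h3 := A.cube.pow_three
      ext i j
      fin_cases i <;> fin_cases j <;> simp [Matrix.mul_apply, Fin.sum_univ_two] <;>
        first | linear_combination h3 | linear_combination (A.ω ^ 3 + 1) * h3
  -- a centralising lift carries the operator exactly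
  have hexact : ∀ {y b : T9}, y ∈ H → Commute y (sE : T9) → (∀ l ∈ C0 A, Commute y (k1 l)) → (b = a ∨ b = a⁻¹) →
      hm (y * a) = hm (b * y) → y * a = b * y := by
    intro y b hy hys hyl hb e
    have hbH : b ∈ H := by rcases hb with rfl | rfl; exacts [haH, inv_mem haH]
    have hbs : Commute b (sE : T9) := by rcases hb with rfl | rfl; exacts [k2_comm _, (k2_comm _).inv_left]
    have hbl : ∀ z, Commute b (k1 z) := fun z => by
      rcases hb with rfl | rfl
      exacts [(k1_k2_comm z _).symm, (k1_k2_comm z _).symm.inv_left]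
    have hb3 : b * b * b = 1 := by
      rcases hb with rfl | rfl
      · exact ha3
      · rw [← _root_.mul_inv_rev, ← _root_.mul_inv_rev, ← mul_assoc, ha3, inv_one]
    have hby : Commute (b * y) (sE : T9) := hbs.mul_left hys
    have hyas : Commute (y * a) (sE : T9) := hys.mul_left (k2_comm _)
    set k := y * a * (b * y)⁻¹ with hk
    have hkK : k ∈ Ker H := by
      refine Cent.mem_Ker.2 ⟨mul_mem (mul_mem hy haH) (inv_mem (mul_mem hbH hy)), hyas.mul_left hby.inv_left, ?_⟩
      rw [hk, hm_mul hby.inv_left, e, ← hm_mul hby.inv_left, mul_inv_cancel, ← map_one k2, hm_k2, Units.val_one]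
    obtain ⟨z, hz, hkz⟩ := ker_le hH hsmall hnf hkK
    have hzl : ∀ m ∈ C0 A, Commute z m := fun m hm' => by
      have hc : Commute k (k1 m) := by
        rw [hk]
        exact ((hyl m hm').mul_left ((k1_k2_comm m _).symm)).mul_left ((hbl m).mul_left (hyl m hm')).inv_left
      rw [hkz] at hc
      exact k1_inj (by rw [map_mul, map_mul]; exact hc.eq)
    have hk2 : k * k = 1 := by
      rcases eq_one_or_tau hz hzl with rfl | rfl
      · rw [hkz, map_one, one_mul]
      · rw [hkz, ← map_mul, tau_sq, map_one]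
    have hkb : Commute k b := by rw [hkz]; exact (hbl z).symm
    have hyab : y * a * y⁻¹ = k * b := by rw [hk]; group
    have h3 : (k * b) ^ 3 = 1 := by
      rw [← hyab, conj_pow, pow_succ, pow_two, ha3, mul_one, mul_inv_cancel]
    rw [hkb.mul_pow, pow_succ, pow_two, hk2, one_mul, pow_succ, pow_two, hb3, mul_one] at h3
    rw [h3, one_mul, mul_inv_eq_iff_eq_mul] at hyab
    exact hyab
  obtain ⟨y, hy, hys, hyl, ey⟩ := exists_lift hH hsmall hnf hp hP ⟨Blocks.pd l, Blocks.pd_mem hl⟩
  obtain ⟨w, hw, hws, hwl, ew⟩ := exists_lift hH hsmall hnf hp hP ⟨Blocks.pw, Blocks.pw_mem⟩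
  have hya : Commute y a := hexact hy hys hyl (Or.inl rfl) (by
    rw [hm_mul (k2_comm _), hm_mul hys, hm_k2, wu_val, hwd, ey, Three.blk_mul, Three.blk_mul]
    congr 1
    ext i j
    fin_cases i <;> fin_cases j <;> simp [Blocks.pd, Matrix.mul_apply, Fin.sum_univ_two, mul_comm])
  have hwa : w * a = a⁻¹ * w := hexact hw hws hwl (Or.inr rfl) (by
    rw [hm_mul (k2_comm _), hm_mul hws, hadef, ← map_inv, hm_k2, hm_k2, wu_val, hwd,
      show (((wu A.cube.pow_three ((0, 1) : L1 × L1))⁻¹ : T3) : M3) = Three.blk 1 !![A.ω ^ 2, 0; 0, A.ω] from ?_,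
      ew, Three.blk_mul, Three.blk_mul]
    · congr 1
      ext i j
      fin_cases i <;> fin_cases j <;> simp [Blocks.pw, Matrix.mul_apply, Fin.sum_univ_two]
    · show wm A.ω (-((0, 1) : L1 × L1)) = _
      rw [Three.wm_three]
      apply Three.ext3 <;> simp [Three.blk, show ZMod.val (1 : ZMod 3) = 1 from rfl,
        show ZMod.val (2 : ZMod 3) = 2 from rfl, show (-(1 : ZMod 3)) = 2 by decide, show (-(2 : ZMod 3)) = 1 by decide,
        show (2 : ZMod 3) * 2 = 1 by decide, show (0 : ZMod 3) ≠ 2 by decide, show (1 : ZMod 3) ≠ 2 by decide,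
        show (2 : ZMod 3) ≠ 0 by decide, show (2 : ZMod 3) ≠ 1 by decide] <;> linear_combination A.ω * A.cube.pow_three)
  have hwant : ∀ u x : L2, u.2 ≠ -x.2 → (w : M9) u x = 0 := by
    intro u x hne
    have e : a * w * a = w := by rw [mul_assoc, hwa, mul_inv_cancel_left]
    have e1 := congrFun (congrFun (congrArg (fun u : T9 => (u : M9)) e) u) x
    have hd : ∀ u x : L2, (a : M9) u x = if u = x then A.ω ^ (x.2).val else 0 := fun u x => by
      rw [haw]; simp [wm, i2, Dot.dot, ← Prod.zero_eq_mk]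
    simp only [Units.val_mul, Matrix.mul_apply, hd] at e1
    simp only [mul_ite, mul_zero, ite_mul, zero_mul, Finset.sum_ite_eq, Finset.sum_ite_eq', Finset.mem_univ,
      if_true] at e1
    by_contra h0
    apply hne
    refine eq_neg_of_add_eq_zero_left (A.cube.val_inj ?_)
    rw [ZMod.val_zero, pow_zero, pow_val_add A.cube.pow_three]
    refine mul_right_cancel₀ h0 ?_
    linear_combination e1
  obtain ⟨f, rfl⟩ := exists_bd (A := A) (g := y) (haw ▸ hya)
  set c : L1 → Fˣ := tr 1 l l⁻¹ with hc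
  have hcu : ∀ j, A.Unim (c j : F) :=
    Three.forall_zmod (by simpa [hc] using A.unim_one) (by simpa [hc] using hl) (by simpa [hc] using hl.inv)
  have hdiag : ∀ j, (f j : M3) 1 1 - (f j : M3) 1 2 = (c j : F) := by
    intro j
    have e := congrFun (congrFun ey j) j
    simp only [hm_apply, bd_apply, if_true] at e
    rw [e]
    revert j
    refine fun j _ => ?_
    revert j
    exact Three.forall_zmod (by simp [hc, Three.blk]) (by simp [hc, Three.blk, Blocks.pd])
      (by simp [hc, Three.blk, Blocks.pd])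
  -- the normalised blocks
  obtain ⟨z, hz⟩ : ∃ z : L1 → T3, ∀ j, z j = (sg L1 (c j).ne_zero)⁻¹ * f j := ⟨_, fun _ => rfl⟩
  have hfj : ∀ j, f j = sg L1 (c j).ne_zero * z j := fun j => by rw [hz, mul_inv_cancel_left]
  have hcomm : ∀ j, Commute (f j) (ju : T3) := fun j => by
    have hbd : bd (f * fun _ => (ju : T3)) = bd ((fun _ => ju) * f) := by
      rw [map_mul, map_mul]; exact hys.eq
    exact congrFun (bd_injective hbd) j
  have hfl : ∀ j, ∀ m ∈ C0 A, Commute (f j) m := fun j m hm' => by
    have hbd : bd (f * fun _ => m) = bd ((fun _ => m) * f) := by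
      rw [map_mul, map_mul]; exact (hyl m hm').eq
    exact congrFun (bd_injective hbd) j
  have hsgc : ∀ {d : F} (hd : d ≠ 0) (m : T3), Commute (sg L1 hd) m := fun hd m => Units.ext (by simp)
  have hz2 : ∀ j, z j = 1 ∨ z j = tau := fun j => by
    have hsgv : (((sg L1 (c j).ne_zero)⁻¹ : T3) : M3) = (c j : F)⁻¹ • 1 := rfl
    have hfI := bd_mem.1 (hH.le hy) j
    have hzI : z j ∈ A.Isom L1 := by rw [hz]; exact mul_mem (inv_mem (sg_mem (hcu j))) hfI
    refine eq_one_or_tau (A := A) (C0_of_nrm hzI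
      (nrm_smul (c := (c j : F)⁻¹) (h := f j) (by simp [hz, hsgv]) (hsmall _ (mem_P0 hH hy j)))
      (by rw [hz]; exact (hsgc (c j).ne_zero _).inv_left.mul_left (hcomm j)) ?_)
      fun m hm' => by rw [hz]; exact (hsgc (c j).ne_zero _).inv_left.mul_left (hfl j m hm')
    rw [hz]
    simp only [Units.val_mul, hsgv, Matrix.smul_mul, Matrix.one_mul, Matrix.smul_apply, smul_eq_mul, ← mul_sub,
      hdiag, inv_mul_cancel₀ (c j).ne_zero]
  have hzC : ∀ j, z j ∈ C0 A := fun j => by
    rcases hz2 j with e | e <;> rw [e]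
    exacts [one_mem _, tau_C0]
  have hzsq : ∀ j, z j * z j = 1 := fun j => by rcases hz2 j with e | e <;> rw [e] <;> simp [tau_sq]
  have hzc : ∀ i j, Commute (z i) (z j) := fun i j => by
    rcases hz2 i with e | e <;> rcases hz2 j with e' | e' <;> rw [e, e'] <;> simp
  -- strip the first block
  set f' : L1 → T3 := fun j => sg L1 (c j).ne_zero * (z 0 * z j) with hf'
  have hf'H : bd f' ∈ H := by
    have := mul_mem (k1_mem_H hH (hzC 0)) hy
    rw [k1_eq, ← map_mul] at this
    convert this using 2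
    funext j
    simp only [hf', Pi.mul_apply]
    rw [hfj, ← mul_assoc, ← mul_assoc, (hsgc (c j).ne_zero (z 0)).eq]
  set u : L1 → T3 := fun j => z 0 * z j with hu
  have hu0 : u 0 = 1 := hzsq 0
  have huC : ∀ j, u j ∈ C0 A := fun j => mul_mem (hzC 0) (hzC j)
  have hu2 : ∀ j, u j = 1 ∨ u j = tau := fun j => by
    rcases hz2 0 with e | e <;> rcases hz2 j with e' | e' <;> simp [hu, e, e', tau_sq]
  -- exchanging two blocks
  have hswap : bd (fun j => f' (-j)) ∈ H := by
    have hk : ∀ j, Commute w (k1 (f' j)) := fun j => by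
      rw [hf', map_mul]
      refine Commute.mul_right ?_ (hwl _ (huC j))
      rw [k1_eq, ← sg_bd]
      exact (Units.ext (by simp) : Commute w (sg L2 (c j).ne_zero))
    have := mul_mem (mul_mem hw hf'H) (inv_mem hw)
    rwa [anti_conj hwant hk, mul_inv_cancel_right] at this
  have hprod : (fun j => u (-j) * u j) ∈ Bd H := by
    show bd _ ∈ H
    have := mul_mem hswap hf'H
    rw [← map_mul] at this
    convert this using 2
    funext j
    have hcc : (c (-j) : F) * c j = 1 := by
      revert j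
      exact Three.forall_zmod (by simp [hc]) (by simp [hc, Cent.neg_one3]) (by simp [hc, Cent.neg_two3])
    rw [Pi.mul_apply, hf']
    refine Units.ext ?_
    have hcc' : (c j : F) * c (-j) = 1 := by rw [mul_comm]; exact hcc
    simp [smul_smul, hcc, hcc', hu]
  have hpair : ∀ j, u (-j) = u j := by
    by_contra hne
    refine hnf (elem hH hprod (by simp [hu0]) (fun j => mul_mem (huC _) (huC _)) (fun h => hne fun j => ?_) hsmall)
    have e : u (-j) * u j = 1 := congrFun h j
    rcases hu2 (-j) with a | a <;> rcases hu2 j with b | b <;> rw [a, b] at e ⊢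
    · rw [one_mul] at e; exact absurd e tau_ne_one
    · rw [mul_one] at e; exact absurd e tau_ne_one
  -- scalar blocks are impossible
  have scal : ∀ m : Fˣ, A.Unim (m : F) → (m : F) ^ 3 ≠ 1 →
      bd (fun j => sg L1 ((tr 1 m m⁻¹ : L1 → Fˣ) j).ne_zero) ∈ H → False := by
    intro m hm' hm3 hmem
    set D : T3 := Blocks.bl (Blocks.pd m) with hD
    have hDv : (D : M3) = Three.blk 1 !![(m : F), 0; 0, ((m⁻¹ : Fˣ) : F)] := by
      rw [hD, Blocks.bl_val]; rfl
    have hDd : ∀ y x : L1, y ≠ x → (D : M3) y x = 0 := by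
      refine Three.forall_zmod ?_ ?_ ?_ <;> refine Three.forall_zmod ?_ ?_ ?_ <;>
        simp [hDv, Three.blk]
    have e := k2_diag hDd (c := fun j => (((tr 1 m m⁻¹ : L1 → Fˣ) j) : F)) (fun j => Units.ne_zero _)
      (Three.forall_zmod (by simp [hDv, Three.blk]) (by simp [hDv, Three.blk])
        (by simp [hDv, Three.blk]))
    rw [← e] at hmem
    have h1 := mul_mem (mul_mem (sw_mem_H hH) hmem) (inv_mem (sw_mem_H hH))
    rw [sw_k2, mul_inv_cancel_right] at h1
    have := diag_nrm_cube (hsmall _ (mem_P0 hH (show (fun _ : L1 => D) ∈ Bd H from h1) 0)) hDd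
    simp [hDv, Three.blk] at this
    exact hm3 this
  rcases hu2 1 with h1 | h1
  · refine scal l hl hl3 ?_
    convert hf'H using 2
    funext j
    have : u j = 1 := by
      revert j
      exact Three.forall_zmod hu0 h1 (by rw [← h1, ← hpair 1, Cent.neg_one3])
    simp only [hf', show z 0 * z j = 1 from this, mul_one]
  have huJ : ∀ j, j ≠ 0 → u j = tau := Three.forall_zmod (fun h => absurd rfl h) (fun _ => h1)
    (fun _ => by rw [← h1, ← hpair 1, Cent.neg_one3])
  by_cases h6 : ((l : F) * l) ^ 3 = 1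
  · have hl6 : (l : F) ^ 3 = -1 := by
      have : ((l : F) ^ 3 - 1) * ((l : F) ^ 3 + 1) = 0 := by linear_combination h6
      rcases mul_eq_zero.1 this with e | e
      · exact absurd (sub_eq_zero.1 e) hl3
      · exact eq_neg_of_add_eq_zero_left e
    have hJJ : (fun j : L1 => if j = 0 then 1 else (ju : T3)) ∈ Bd H := by
      show bd _ ∈ H
      have := mul_mem (mul_mem hf'H hf'H) hf'H
      rw [← map_mul, ← map_mul] at this
      convert this using 2
      funext j
      refine Units.ext ?_
      by_cases hj : j = 0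
      · subst hj
        simp [hf', hc, show z 0 * z 0 = 1 from hu0]
      · have hcj : (c j : F) * c j * c j = -1 := by
          have h' : (l : F)⁻¹ * (l : F)⁻¹ * (l : F)⁻¹ = -1 := by
            rw [← mul_inv, ← mul_inv, show (l : F) * l * l = (l : F) ^ 3 by ring, hl6, inv_neg, inv_one]
          revert hj
          revert j
          refine Three.forall_zmod (fun h => absurd rfl h) (fun _ => ?_) (fun _ => ?_)
          · simp [hc]; linear_combination hl6
          · simpa [hc] using h'
        simp [hf', show z 0 * z j = tau from huJ j hj, hj, tau_val, smul_smul, jm_sq]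
        rw [← mul_assoc, hcj, neg_one_smul, neg_neg]
    refine no_single_ju hH hsmall hnf ?_
    -- (J,J,1) times (J,J,J)
    have h2 := Bd_shift hH hJJ 1
    have hconst : (fun _ : L1 => (ju : T3)) ∈ Bd H := hH.mem_of_nrm (k1_mem ju_mem) (nrm_k1 A.cube.pow_three (nrm_of_acts acts_jm))
    have hj2 : (ju : T3) * ju = 1 := Units.ext (by simp [jm_sq])
    have := mul_mem (mul_mem hJJ h2) hconst
    have h4 := Bd_shift hH this 1
    show (fun j : L1 => if j = 0 then (ju : T3) else 1) ∈ Bd H
    convert h4 using 1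
    exact ext3f (by simp [show (2 : L1) ≠ 0 by decide, show (2 : L1) - 1 = 1 by decide,
        show (0 : L1) - 1 = 2 by decide, show (1 : L1) ≠ 0 by decide, hj2])
      (by simp [show (2 : L1) ≠ 0 by decide, show (1 : L1) - 1 = 0 by decide, show (0 : L1) - 1 = 2 by decide,
        show (1 : L1) ≠ 0 by decide, hj2])
      (by simp [show (2 : L1) ≠ 0 by decide, show (2 : L1) - 1 = 1 by decide, show (1 : L1) - 1 = 0 by decide,
        show (1 : L1) ≠ 0 by decide, hj2])
  · refine scal (l * l) (by simpa using hl.mul hl) (by simpa using h6) ?_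
    have := mul_mem hf'H hf'H
    rw [← map_mul] at this
    convert this using 2
    funext j
    have hcj : ((tr 1 (l * l) (l * l)⁻¹ : L1 → Fˣ) j : F) = (c j : F) * c j := by
      revert j
      exact Three.forall_zmod (by simp [hc]) (by simp [hc]) (by simp [hc, mul_comm])
    have huu : u j * u j = 1 := by rcases hu2 j with e | e <;> rw [e] <;> simp [tau_sq]
    refine Units.ext ?_
    have huu' := congrArg (fun m : T3 => (m : M3)) huu
    simp only [Units.val_mul, Units.val_one] at huu'
    simp only [Pi.mul_apply, hf', Units.val_mul, sg_val, Matrix.smul_mul, Matrix.mul_smul, Matrix.one_mul,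
      smul_smul, hcj]
    rw [show ((z 0 : M3) * (z j : M3)) * ((z 0 : M3) * (z j : M3)) = 1 from huu']

/-- **the centraliser of the inversion of a factor normalises** -/
theorem nrm_of_comm {g : T9} (hg : g ∈ H) (hgs : Commute g (sE : T9)) : Nrm A.ω g := by
  set P1 : Subgroup T3 := (H.comap (Subgroup.centralizer {(sE : T9)}).subtype).map hh with hP1
  have memP1 : ∀ {x : T9}, x ∈ H → Commute x (sE : T9) → ∀ {M : T3}, hm x = (M : M3) → M ∈ P1 :=
    fun {x} hx hxs {M} e => ⟨⟨x, mem_cs.2 hxs⟩, hx, Units.ext e⟩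
  have hR : Rich A P1 :=
    { le := by
        rintro _ ⟨x, hx, rfl⟩
        exact hh_mem (hH.le hx)
      wu := fun v => ⟨1, _, memP1 (k2_mem_H hH (wu_mem _) (nrm_wu A.cube v)) (k2_comm _) (hm_k2 _), by simp⟩
      tu := fun v => ⟨1, _, memP1 (by rw [← tu_i2]; exact hH.mem_tu _) (k2_comm _) (hm_k2 (tu A.cube v)), by simp⟩
      sg := fun c hc => memP1 (x := sg L2 hc.1) (hH.sg c hc) (Units.ext (by simp))
        (by rw [sg_bd, ← k1_eq, hm_k1]; simp [Matrix.one_apply, show (1 : L1) ≠ 2 by decide]) }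
  have hn : ∀ M ∈ P1, Nrm A.ω M := by
    by_cases hp : A.p = 2
    · exact fun M hM => base_two hp (hR.le hM)
    · refine (Three.base hp hR).resolve_right fun hPl => not_planar hH hsmall hnf hp fun Y => ?_
      obtain ⟨M, ⟨x, hx, rfl⟩, e⟩ := hPl Y
      exact ⟨x, hx, mem_cs.1 x.2, e⟩
  have hM := hn (hh ⟨g, mem_cs.2 hgs⟩) (memP1 hg hgs rfl)
  set r := k2 (hh ⟨g, mem_cs.2 hgs⟩) with hr
  have hI : hh ⟨g, mem_cs.2 hgs⟩ ∈ A.Isom L1 := hh_mem (hH.le hg)
  have hrH : r ∈ H := k2_mem_H hH hI hM
  obtain ⟨l, hl, e⟩ := ker_le hH hsmall hnf (g := g * r⁻¹) (Cent.mem_Ker.2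
    ⟨mul_mem hg (inv_mem hrH), hgs.mul_left (k2_comm _).inv_left, by
      rw [hr, ← map_inv, hm_mul (k2_comm _), hm_k2]
      exact Units.mul_inv (hh ⟨g, mem_cs.2 hgs⟩)⟩)
  rw [show g = k1 l * r by rw [← e, inv_mul_cancel_right]]
  exact (nrm_k1 A.cube.pow_three (nrm_C0 hl)).mul (nrm_k2 A.cube.pow_three hM)

end Small

/-- **the dichotomy** -/
theorem core : (∀ g ∈ H, Nrm A.ω g) ∨ Full A H := by
  by_cases hnf : Full A H
  · exact Or.inr hnf
  refine Or.inl ?_
  have hsmall : ∀ g ∈ P0 H, Nrm A.ω g := by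
    by_cases hp : A.p = 2
    · exact fun g hg => base_two hp ((P0_rich hH).le hg)
    · exact (Three.base hp (P0_rich hH)).resolve_right fun hP => hnf (big hp hH hP)
  exact nrm_of_cent hH fun g hg hc => nrm_of_comm hH hsmall hnf hg hc

end Cfsg.Agent.Forms.Max.SympNine.Nine
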