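import Cfsg.Agent.Lib.Forms.Max.SympNine.C0

/-!
# One block with a small element moves every coordinate
-/

set_option autoImplicit false
set_option linter.unusedSectionVars false
set_option linter.style.haveILetI false

namespace Cfsg.Agent.Forms.Max.SympNine.Nine

open Matrix Dot LinearMono

variable {F : Type*} [Field F]

local notation "M3" => Matrix L1 L1 F
local notation "M9" => Matrix L2 L2 F
local notation "T3" => GL L1 F
local notation "T9" => GL L2 F

/-! ### Affine coordinate permutations -/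

/-- the determinant of an integral matrix given by its rows -/
def det2 (m : L2 × L2) : ZMod 3 := m.1.1 * m.2.2 - m.1.2 * m.2.1

/-- a linear map of the plane -/
def lp (m : L2 × L2) (x : L2) : L2 := (m.1.1 * x.1 + m.1.2 * x.2, m.2.1 * x.1 + m.2.2 * x.2)

/-- the inverse transpose -/
def lpt (m : L2 × L2) (b : L2) : L2 :=
  (det2 m * (m.2.2 * b.1 - m.2.1 * b.2), det2 m * (-m.1.2 * b.1 + m.1.1 * b.2))

theorem sq_one {d : ZMod 3} (h : d ≠ 0) : d * d = 1 := by revert d; decide

/-- a linear map as a permutation -/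
noncomputable def lpe (m : L2 × L2) (h : det2 m ≠ 0) : Equiv.Perm L2 where
  toFun := lp m
  invFun x := (det2 m * (m.2.2 * x.1 - m.1.2 * x.2), det2 m * (-m.2.1 * x.1 + m.1.1 * x.2))
  left_inv x := by
    have hd := sq_one h
    simp only [lp, det2] at hd ⊢
    refine Prod.ext ?_ ?_ <;> simp <;> first | linear_combination x.1 * hd | linear_combination x.2 * hd
  right_inv x := by
    have hd := sq_one h
    simp only [lp, det2] at hd ⊢
    refine Prod.ext ?_ ?_ <;> simp <;> first | linear_combination x.1 * hd | linear_combination x.2 * hd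

@[simp] theorem lpe_apply (m : L2 × L2) (h : det2 m ≠ 0) (x : L2) : lpe m h x = lp m x := rfl

theorem mon_inv_one (π : Equiv.Perm L2) : (mon π (fun _ => (1 : Fˣ)))⁻¹ = mon π⁻¹ fun _ => 1 := by
  refine inv_eq_of_mul_eq_one_right ?_
  rw [mon_mul, mul_inv_cancel]
  simpa using mon_one_one (X := L2) (F := F)

theorem nrm_lpe {ω : F} (m : L2 × L2) (h : det2 m ≠ 0) : Nrm ω (mon (lpe m h) fun _ => (1 : Fˣ)) := by
  refine nrm_of_acts (σ := fun v => (lp m v.1, lpt m v.2)) fun v => ?_
  have hadd : ∀ x a : L2, lp m (x + a) = lp m x + lp m a := fun x a => by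
    simp only [lp, Prod.fst_add, Prod.snd_add, Prod.mk_add_mk]
    refine Prod.ext ?_ ?_ <;> simp <;> ring
  have hdot : ∀ b x : L2, dot (lpt m b) (lp m x) = dot b x := fun b x => by
    have hd := sq_one h
    simp only [Dot.dot, lp, lpt, det2] at hd ⊢
    linear_combination (b.1 * x.1 + b.2 * x.2) * hd
  ext y x
  rw [Matrix.mul_apply, Finset.sum_eq_single (x + v.1) (fun z _ hz => by simp [wm, hz]) (by simp),
    Matrix.mul_apply, Finset.sum_eq_single (lp m x) (fun z _ hz => by simp [mon_apply, hz]) (by simp)]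
  simp only [mon_apply, lpe_apply, Units.val_one, wm, Matrix.of_apply, if_true, hadd, hdot,
    dot_comm (lp m v.1) (lpt m v.2), dot_comm v.1 v.2, ite_mul, one_mul, zero_mul, mul_one]

theorem nrm_translate {ω : F} (hω : ω ^ 3 = 1) (c : L2) : mon (Equiv.addRight c) (fun _ => (1 : Fˣ)) = wu hω (c, 0) := by
  refine Units.ext ?_
  ext y x
  by_cases h : y = x + c <;> simp [mon_apply, wm, h]

variable [Fintype F] {A : Amb F}

theorem perm_mem (π : Equiv.Perm L2) : mon π (fun _ => (1 : Fˣ)) ∈ A.Isom L2 := fun _ => by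
  ext y x
  rw [Matrix.mul_apply, Finset.sum_eq_single (π x) (fun z _ hz => by simp [mon_apply, hz]) (by simp)]
  by_cases h : y = x
  · subst h; simp [mon_apply]
  · simp [mon_apply, h, Matrix.one_apply, π.injective.eq_iff, Ne.symm h]

/-- everything of determinant one is contained -/
def Full (A : Amb F) (H : Subgroup T9) : Prop :=
  ∀ g ∈ A.Isom L2, (g : M9).det = 1 → g ∈ H

variable {H : Subgroup (GL L2 F)}

theorem affine_mem (hH : Rich A H) (a b : L2) (hab : a ≠ b) (u v : L2) (huv : u ≠ v) :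
    ∃ π : Equiv.Perm L2, π a = u ∧ π b = v ∧ mon π (fun _ => (1 : Fˣ)) ∈ H := by
  have hex : ∀ d e : L2, d ≠ 0 → e ≠ 0 → ∃ m : L2 × L2, det2 m ≠ 0 ∧ lp m d = e := by
    simp only [lp, det2]; decide
  obtain ⟨m, hm, hme⟩ := hex (b - a) (v - u) (sub_ne_zero.2 hab.symm) (sub_ne_zero.2 huv.symm)
  refine ⟨Equiv.addRight (u - lp m a) * lpe m hm, ?_, ?_, ?_⟩
  · simp
  · have hsub : lp m b = lp m a + (v - u) := by
      rw [← hme]; simp only [lp, Prod.fst_sub, Prod.snd_sub, Prod.mk_add_mk]
      refine Prod.ext ?_ ?_ <;> simp <;> ring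
    simp [hsub]
    abel
  · rw [show mon (Equiv.addRight (u - lp m a) * lpe m hm) (fun _ => (1 : Fˣ)) =
        mon (Equiv.addRight (u - lp m a)) (fun _ => 1) * mon (lpe m hm) (fun _ => 1) by rw [mon_mul]; simp,
      nrm_translate A.cube.pow_three]
    exact mul_mem (hH.mem_wu _) (hH.mem_of_nrm (perm_mem _) (nrm_lpe m hm))

theorem conj_mon (π σ : Equiv.Perm L2) (s : L2 → Fˣ) :
    mon π (fun _ => (1 : Fˣ)) * mon σ s * (mon π fun _ => (1 : Fˣ))⁻¹ = mon (π * σ * π⁻¹) fun x => s (π⁻¹ x) := by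
  rw [mon_inv_one, mon_mul, mon_mul]
  simp

/-- moving a signed transposition -/
theorem moved (hH : Rich A H) {a b : L2} (hab : a ≠ b) {s : L2 → Fˣ} (hs : mon (Equiv.swap a b) s ∈ H)
    {u v : L2} (huv : u ≠ v) : ∃ π : Equiv.Perm L2, π a = u ∧ π b = v ∧
      mon (Equiv.swap u v) (fun x => s (π⁻¹ x)) ∈ H := by
  obtain ⟨π, h1, h2, hπ⟩ := affine_mem hH a b hab u v huv
  refine ⟨π, h1, h2, ?_⟩
  rw [← h1, ← h2, Equiv.swap_apply_apply, ← conj_mon]
  exact mul_mem (mul_mem hπ hs) (inv_mem hπ)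

/-! ### Diagonal matrices of degree three -/

theorem diag_nrm_cube {g : T3} (hn : Nrm A.ω g) (hd : ∀ y x : L1, y ≠ x → (g : M3) y x = 0) :
    ((g : M3) 1 1) ^ 3 = ((g : M3) 0 0) ^ 3 := by
  obtain ⟨w, c, e⟩ := hn ((1, 0) : L1 × L1)
  have ent : ∀ x : L1, (g : M3) (x + 1) (x + 1) =
      if 1 = w.1 then c * (A.ω ^ (w.2 * x + 2 * (w.1 * w.2)).val * (g : M3) x x) else 0 := fun x => by
    have h := congrFun (congrFun e (x + 1)) x
    rw [Matrix.smul_apply, Matrix.mul_apply, Matrix.mul_apply,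
      Finset.sum_eq_single (x + 1) (fun z _ hz => by rw [hd _ _ (Ne.symm hz), zero_mul]) (by simp),
      Finset.sum_eq_single x (fun z _ hz => by rw [hd _ _ hz, mul_zero]) (by simp)] at h
    simpa [wm, Dot.dot] using h
  have hne : ∀ x : L1, (g : M3) x x ≠ 0 := fun x h0 => by
    have h := congrFun (congrFun (Units.mul_inv g) x) x
    rw [Matrix.mul_apply, Finset.sum_eq_zero (fun z _ => by
      by_cases hz : x = z
      · rw [← hz, h0, zero_mul]
      · rw [hd x z hz, zero_mul])] at h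
    simp at h
  have hw : w.1 = 1 := by
    by_contra h
    exact hne _ (by rw [ent 0, if_neg (Ne.symm h)])
  simp only [hw, if_true] at ent
  have hc3 : (c * A.ω ^ (2 * w.2).val) ^ 3 = 1 := by
    have e0 := ent 0
    have e1 := ent 1
    have e2 := ent 2
    rw [show (0 : ZMod 3) + 1 = 1 from rfl, show w.2 * 0 + 2 * (1 * w.2) = 2 * w.2 by ring] at e0
    rw [show (1 : ZMod 3) + 1 = 2 from rfl, show w.2 * 1 + 2 * (1 * w.2) = w.2 + 2 * w.2 by ring,
      pow_val_add A.cube.pow_three] at e1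
    rw [show (2 : ZMod 3) + 1 = 0 from rfl, show w.2 * 2 + 2 * (1 * w.2) = 2 * w.2 + 2 * w.2 by ring,
      pow_val_add A.cube.pow_three] at e2
    have hprod : (A.ω ^ w.2.val) * A.ω ^ (2 * w.2).val = 1 := by
      rw [← pow_val_add A.cube.pow_three, show w.2 + 2 * w.2 = 0 by generalize w.2 = z; revert z; decide]
      simp
    refine mul_left_cancel₀ (hne 0) ?_
    rw [e0] at e1
    rw [e1] at e2
    linear_combination -e2 - (c ^ 3 * (A.ω ^ (2 * w.2).val) ^ 3 * (g : M3) 0 0) * hprod
  have e0 := ent 0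
  rw [show (0 : ZMod 3) + 1 = 1 from rfl, show w.2 * 0 + 2 * (1 * w.2) = 2 * w.2 by ring] at e0
  rw [e0]
  linear_combination (g : M3) 0 0 ^ 3 * hc3

/-! ### The small element -/

theorem witness : ∃ w ∈ A.Isom L2, (w : M9).det = 1 ∧ ¬ Mono w ∧ Nrm A.ω w := by
  refine ⟨tu A.cube (i1 (1, 0)), tu_mem _, ?_, fun hm => ?_, nrm_of_acts (tm_wm A.cube (i1 ((1, 0) : L1 × L1)))⟩
  · rw [tu_i1, bd_det, Finset.prod_const, Finset.card_univ, ZMod.card, tu_val,
      det_tu_const A.cube (v := ((1, 0) : L1 × L1)) (w := (0, 1)) (by decide) (by decide), Three.tm01 A.cube]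
    rw [show Three.m3 (1 : F) 0 0 0 A.ω 0 0 0 A.ω = Matrix.diagonal fun x : L1 => if x = 0 then 1 else A.ω by
      apply Three.ext3 <;> simp [show (1 : ZMod 3) ≠ 0 by decide, show (2 : ZMod 3) ≠ 0 by decide,
        show (1 : ZMod 3) ≠ 2 by decide, show (0 : ZMod 3) ≠ 2 by decide, show (2 : ZMod 3) ≠ 1 by decide,
        show (0 : ZMod 3) ≠ 1 by decide], det_diagonal, show ∀ f : L1 → F, ∏ x, f x = f 0 * f 1 * f 2 from fun f => Fin.prod_univ_three f]
    simp [show (1 : ZMod 3) ≠ 0 by decide, show (2 : ZMod 3) ≠ 0 by decide]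
    linear_combination (A.ω ^ 3 + 1) * A.cube.pow_three
  · obtain ⟨i, hi⟩ := hm ((0, 0) : L2)
    have e : ∀ y : L1, ((tu A.cube (i1 (1, 0)) : T9) : M9) ((y, 0) : L2) (0, 0) =
        tm A.ω A.ω ((1, 0) : L1 × L1) y 0 := fun y => by
      rw [tu_i1, bd_apply]; simp
    have h3 := A.cube.three
    have hs := Three.s_ne A.cube
    have hz : ∀ y : L1, (y = 0 ∨ y = 1) → ((y, 0) : L2) = i := fun y hy => by
      by_contra hne
      have := hi _ hne
      rw [e] at this
      rcases hy with rfl | rfl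
      · simp [tm, wm, Dot.dot, Matrix.one_apply] at this
        field_simp at this
        exact hs (by linear_combination this)
      · simp [tm, wm, Dot.dot, Matrix.one_apply, show (1 : ZMod 3) ≠ -1 by decide] at this
        rcases this with h | h
        · exact A.cube.ne_one (by linear_combination -h)
        · exact h3 h
    exact absurd ((hz 0 (Or.inl rfl)).trans (hz 1 (Or.inr rfl)).symm) (by decide)

theorem ext3f {α : Type*} {f g : L1 → α} (h0 : f 0 = g 0) (h1 : f 1 = g 1) (h2 : f 2 = g 2) : f = g :=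
  funext (Three.forall_zmod (P := fun y => f y = g y) h0 h1 h2)

/-- three values -/
def tr {α : Type*} (a b c : α) : L1 → α := ![a, b, c]

@[simp] theorem tr_zero {α : Type*} (a b c : α) : tr a b c 0 = a := rfl
@[simp] theorem tr_one {α : Type*} (a b c : α) : tr a b c 1 = b := rfl
@[simp] theorem tr_two {α : Type*} (a b c : α) : tr a b c 2 = c := rfl

theorem tau_ne_one : (tau : T3) ≠ 1 := fun h => by
  have e := congrFun (congrFun (congrArg (fun u : T3 => (u : M3)) h) 1) 2
  simp [tau_val, jm, show (1 : ZMod 3) ≠ 2 by decide, show -(2 : ZMod 3) = 1 by decide] at e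

variable (hH : Rich A H)
include hH

theorem full_of_mono (hmono : ∀ g ∈ A.Isom L2, (g : M9).det = 1 → Mono g → g ∈ H) : Full A H := by
  obtain ⟨w, hw, hwd, hwm, hwn⟩ := witness (A := A)
  exact top_of_mono hH.le hmono (hH.mem_of_nrm hw hwn) hwd hwm

/-- in characteristic two a transposition gives everything -/
theorem full_of_swap (hp : A.p = 2) {a b : L2} (hab : a ≠ b)
    (h : mon (Equiv.swap a b) (fun _ => (1 : Fˣ)) ∈ H) : Full A H := by
  haveI := A.charP
  have h2 : (2 : F) = 0 := by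
    have := (CharP.cast_eq_zero_iff F A.p 2).2 (by rw [hp])
    exact_mod_cast this
  have hswap : ∀ u v : L2, u ≠ v → mon (Equiv.swap u v) (fun _ => (1 : Fˣ)) ∈ H := fun u v huv => by
    obtain ⟨π, -, -, hm⟩ := moved hH hab h huv
    exact hm
  have hperm : ∀ π : Equiv.Perm L2, mon π (fun _ => (1 : Fˣ)) ∈ H := fun π => by
    induction π using Equiv.Perm.swap_induction_on with
    | one => rw [mon_one_one]; exact one_mem H
    | swap_mul f x y hxy ih =>
      rw [show mon (Equiv.swap x y * f) (fun _ => (1 : Fˣ)) =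
        mon (Equiv.swap x y) (fun _ => 1) * mon f (fun _ => 1) by rw [mon_mul]; simp]
      exact mul_mem (hswap x y hxy) ih
  set z : Fˣ := Units.mk0 A.ω A.cube.ne_zero with hz
  set P : L2 := (1, 0) with hP
  set Q : L2 := (0, 0) with hQ
  have hPQ : P ≠ Q := by decide
  have hd : tu A.cube (((0 : L2), ((1, 0) : L2)) : L2 × L2) = mon 1 fun x : L2 => if x.1 = 0 then 1 else z := by
    refine Units.ext ?_
    ext y x
    rw [tu_val, tm_diag A.cube, mon_apply, Matrix.diagonal_apply]
    by_cases h : y = x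
    · subst h
      by_cases h0 : y.1 = 0 <;> simp [h0, hz, Dot.dot]
    · simp [h]
  have hone : ∀ u v : L2, u ≠ v → dd u v z ∈ H := fun u v huv => by
    have hm : mon 1 (fun x : L2 => if x.1 = 0 then 1 else z) ∈ H := hd ▸ hH.mem_tu _
    have hconj := mul_mem (mul_mem (hperm (Equiv.swap P Q)) hm) (inv_mem (hperm (Equiv.swap P Q)))
    rw [conj_mon] at hconj
    have hr := mul_mem hm (inv_mem hconj)
    have e : dd P Q z * mon (Equiv.swap P Q * 1 * (Equiv.swap P Q)⁻¹)
        (fun x => if ((Equiv.swap P Q)⁻¹ x).1 = 0 then 1 else z) = mon 1 (fun x : L2 => if x.1 = 0 then 1 else z) := by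
      rw [dd, mon_mul, mul_one, mul_inv_cancel, mul_one]
      congr 1
      funext x
      simp only [Equiv.Perm.one_apply, Equiv.swap_inv]
      by_cases hxP : x = P
      · subst hxP; simp [hP, hQ]
      · by_cases hxQ : x = Q
        · subst hxQ; simp [hP, hQ]
        · simp [hxP, hxQ, Equiv.swap_apply_of_ne_of_ne hxP hxQ]
    rw [← eq_mul_inv_iff_mul_eq] at e
    rw [← e] at hr
    obtain ⟨π, h1, h2, hπ⟩ := affine_mem hH P Q hPQ u v huv
    have := mul_mem (mul_mem hπ hr) (inv_mem hπ)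
    rw [dd, conj_mon, mul_one, mul_inv_cancel] at this
    convert this using 1
    rw [dd]
    congr 1
    funext x
    rw [← h1, ← h2]
    simp only [← Equiv.Perm.eq_inv_iff_eq]
    rfl
  refine full_of_mono hH fun g hg hgd hgm => mono_mem hH.le
    (fun u v huv => ⟨_, hswap u v huv, by simp [mon_det, Equiv.Perm.sign_swap huv]; linear_combination -h2⟩)
    (fun u v huv l hl => ?_) hg hgd hgm
  have hc : Fintype.card F = 4 := by
    rcases A.card with ⟨-, -, h⟩ | ⟨-, h, -⟩
    · omega
    · rw [h, hp]; norm_num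
  have hl3 : ((l : Fˣ) : F) ^ 3 = 1 := by
    have := FiniteField.pow_card_sub_one_eq_one (l : F) l.ne_zero
    rwa [hc] at this
  have hpow : ∀ n : ℕ, dd u v (z ^ n) = dd u v z ^ n := fun n => by
    induction n with
    | zero => simp only [pow_zero, dd]; simpa using mon_one_one (X := L2) (F := F)
    | succ n ih =>
      rw [pow_succ, pow_succ, ← ih, dd, dd, dd, mon_mul, mul_one]
      congr 1
      funext x
      by_cases hu : x = u
      · simp [hu, pow_succ, mul_comm]
      by_cases hv : x = v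
      · simp [hu, hv, huv.symm, pow_succ, mul_comm]
      simp [hu, hv]
  obtain ⟨n, hn⟩ : ∃ n : ℕ, l = z ^ n := by
    have e : ((l : F) - 1) * (((l : F) - A.ω) * ((l : F) - A.ω ^ 2)) = 0 := by
      linear_combination hl3 + ((l : F) - (l : F) ^ 2 + (A.ω - 1) * ((l : F) - 1)) * A.cube.sum
    rcases mul_eq_zero.1 e with e | e
    · exact ⟨0, Units.ext (by simpa using sub_eq_zero.1 e)⟩
    · rcases mul_eq_zero.1 e with e | e
      · exact ⟨1, Units.ext (by simpa [hz] using sub_eq_zero.1 e)⟩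
      · exact ⟨2, Units.ext (by simpa [hz] using sub_eq_zero.1 e)⟩
  rw [hn, hpow]
  exact pow_mem (hone u v huv) n

theorem single_mem_C0 {g : L1 → T3} (hg : g ∈ Bd H) (h0 : g 0 = 1) (hC : ∀ j, g j ∈ C0 A) (hne : g ≠ 1) :
    bd (fun j : L1 => if j = 0 then (tau : T3) else 1) ∈ H := by
  classical
  have hk : ∀ l ∈ C0 A, (fun _ : L1 => l) ∈ Bd H := fun l hl =>
    hH.mem_of_nrm (k1_mem hl.1) (nrm_k1 A.cube.pow_three (nrm_C0 hl))
  let S : Subgroup T3 :=
    { carrier := {x | x ∈ C0 A ∧ (fun j : L1 => if j = 0 then x else 1) ∈ Bd H}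
      one_mem' := ⟨one_mem _, by
        simp only [ite_self]
        exact one_mem (Bd H)⟩
      mul_mem' := fun {x y} hx hy => ⟨mul_mem hx.1 hy.1, by
        have := mul_mem hx.2 hy.2
        convert this using 1
        funext j
        by_cases hj : j = 0 <;> simp [hj]⟩
      inv_mem' := fun {x} hx => ⟨inv_mem hx.1, by
        have := inv_mem hx.2
        convert this using 1
        funext j
        by_cases hj : j = 0 <;> simp [hj]⟩ }
  have hSC : S ≤ C0 A := fun x hx => hx.1
  have hSconj : ∀ l ∈ C0 A, ∀ x ∈ S, l * x * l⁻¹ ∈ S := fun l hl x hx => ⟨mul_mem (mul_mem hl hx.1) (inv_mem hl), by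
    have := mul_mem (mul_mem (hk l hl) hx.2) (inv_mem (hk l hl))
    convert this using 1
    funext j
    by_cases hj : j = 0 <;> simp [hj]⟩
  suffices hτ : (tau : T3) ∈ S from hτ.2
  let K : Subgroup T3 :=
    { carrier := {x | x ∈ C0 A ∧ ∃ b ∈ C0 A, tr (1) (x) (b) ∈ Bd H}
      one_mem' := ⟨one_mem _, 1, one_mem _, by
        rw [show (tr (1) (1) (1) : L1 → T3) = 1 from ext3f rfl rfl rfl]
        exact one_mem _⟩
      mul_mem' := fun {x y} hx hy => ⟨mul_mem hx.1 hy.1, by
        obtain ⟨b, hb, hxb⟩ := hx.2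
        obtain ⟨c, hc, hyc⟩ := hy.2
        refine ⟨b * c, mul_mem hb hc, ?_⟩
        have := mul_mem hxb hyc
        convert this using 1
        exact ext3f (by simp) (by simp) (by simp)⟩
      inv_mem' := fun {x} hx => ⟨inv_mem hx.1, by
        obtain ⟨b, hb, hxb⟩ := hx.2
        refine ⟨b⁻¹, inv_mem hb, ?_⟩
        have := inv_mem hxb
        convert this using 1
        exact ext3f (by simp) (by simp) (by simp)⟩ }
  have hKconj : ∀ l ∈ C0 A, ∀ x ∈ K, l * x * l⁻¹ ∈ K := fun l hl x hx => ⟨mul_mem (mul_mem hl hx.1) (inv_mem hl), by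
    obtain ⟨b, hb, hxb⟩ := hx.2
    refine ⟨l * b * l⁻¹, mul_mem (mul_mem hl hb) (inv_mem hl), ?_⟩
    have := mul_mem (mul_mem (hk l hl) hxb) (inv_mem (hk l hl))
    convert this using 1
    exact ext3f (by simp) (by simp) (by simp)⟩
  by_cases hS1 : ∃ x ∈ S, x ≠ 1
  · obtain ⟨x, hx, hx1⟩ := hS1
    exact tau_mem hSC hSconj hx hx1
  exfalso
  push Not at hS1
  -- a member supported on the third block comes from one on the first
  have hlast : ∀ b ∈ C0 A, tr (1) (1) (b) ∈ Bd H → b = 1 := fun b hb hm => hS1 b ⟨hb, by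
    have := Bd_shift hH hm (-2)
    convert this using 1
    exact ext3f (by simp [show (0 : ZMod 3) - -2 = 2 by decide])
      (by simp [show (1 : ZMod 3) - -2 = 0 by decide, show (1 : ZMod 3) ≠ 0 by decide])
      (by simp [show (2 : ZMod 3) - -2 = 1 by decide, show (2 : ZMod 3) ≠ 0 by decide])⟩
  have hg' : g = tr (1) (g 1) (g 2) := ext3f (by simp [h0]) (by simp) (by simp)
  have hg1 : g 1 ≠ 1 := fun h1 => by
    refine hne (ext3f h0 h1 (hlast _ (hC 2) ?_))
    convert hg using 1
    exact ext3f (by simp [h0]) (by simp [h1]) (by simp)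
  obtain ⟨-, b, hb, htb⟩ := tau_mem (S := K) (fun x hx => hx.1) hKconj
    (show g 1 ∈ K from ⟨hC 1, g 2, hC 2, by rw [← hg']; exact hg⟩) hg1
  have hsq : (tau : T3) * tau = 1 := Units.ext (by simp [tau_val, jm_sq])
  have hbb : b * b = 1 := hlast _ (mul_mem hb hb) (by
    have := mul_mem htb htb
    convert this using 1
    exact ext3f (by simp) (by simp [hsq]) (by simp))
  rcases Three.sl_invol (toL (⟨b, hb⟩ : C0 A)) (by
    rw [← map_mul, show (⟨b, hb⟩ : C0 A) * ⟨b, hb⟩ = 1 from Subtype.ext hbb, map_one]) with h | h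
  · have hb1 : b = 1 := congrArg Subtype.val (toL_injective (h.trans (map_one toL).symm))
    refine tau_ne_one (F := F) (hS1 tau ⟨tau_C0, ?_⟩)
    have := Bd_shift hH htb (-1)
    convert this using 1
    exact ext3f (by simp [show (0 : ZMod 3) - -1 = 1 by decide])
      (by simp [hb1, show (1 : ZMod 3) - -1 = 2 by decide, show (1 : ZMod 3) ≠ 0 by decide])
      (by simp [show (2 : ZMod 3) - -1 = 0 by decide, show (2 : ZMod 3) ≠ 0 by decide])
  · have hbt : b = tau := congrArg Subtype.val (toL_injective (h.trans toL_tau.symm))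
    subst hbt
    refine tau_ne_one (F := F) (hS1 tau ⟨tau_C0, ?_⟩)
    have := mul_mem (hk tau tau_C0) htb
    convert this using 1
    exact ext3f (by simp) (by simp [hsq, show (1 : ZMod 3) ≠ 0 by decide])
      (by simp [hsq, show (2 : ZMod 3) ≠ 0 by decide])

theorem single (h : bd (fun j : L1 => if j = 0 then (tau : T3) else 1) ∈ H)
    (hsmall : ∀ g ∈ P0 H, Nrm A.ω g) : Full A H := by
  classical
  set P : L2 := (1, 0) with hP
  set Q : L2 := (2, 0) with hQ
  have hPQ : P ≠ Q := by decide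
  set s : L2 → Fˣ := fun x => if x.2 = 0 then -1 else 1 with hs
  have e0 : bd (fun j : L1 => if j = 0 then (tau : T3) else 1) = mon (Equiv.swap P Q) s := by
    refine Units.ext ?_
    ext y x
    rw [bd_apply, mon_apply]
    obtain ⟨x1, x2⟩ := x
    obtain ⟨y1, y2⟩ := y
    by_cases hx : x2 = 0
    · subst hx
      have hsw : Equiv.swap P Q (x1, 0) = (-x1, 0) := by revert x1; rw [hP, hQ]; decide
      by_cases hy : y2 = 0
      · subst hy
        rw [hsw]
        by_cases h1 : y1 = -x1 <;> simp [hs, h1, tau_val, jm]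
      · simp [hsw, hy]
    · rw [Equiv.swap_apply_of_ne_of_ne (fun e => hx (congrArg Prod.snd e)) (fun e => hx (congrArg Prod.snd e))]
      by_cases hy : y2 = x2
      · subst hy
        by_cases h1 : y1 = x1 <;> simp [hs, hx, h1]
      · simp [hy]
  rw [e0] at h
  by_cases hp : A.p = 2
  · refine full_of_swap hH hp hPQ ?_
    haveI := A.charP
    have h2 : (2 : F) = 0 := by
      have := (CharP.cast_eq_zero_iff F A.p 2).2 (by rw [hp])
      exact_mod_cast this
    have hs1 : s = fun _ => 1 := funext fun x => by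
      rw [hs]; by_cases hx : x.2 = 0 <;> simp [hx]
      exact Units.ext (by simpa using (neg_eq_iff_add_eq_zero.2 (by linear_combination h2) : -(1 : F) = 1))
    rwa [hs1] at h
  exfalso
  have h2 := A.two_ne hp
  set U : L2 := (0, 0) with hU
  set V : L2 := (0, 1) with hV
  set π : Equiv.Perm L2 := Equiv.addRight ((0, 2) : L2) * Equiv.prodComm L1 L1 with hπdef
  have hπm : mon π (fun _ => (1 : Fˣ)) ∈ H := by
    rw [show mon π (fun _ => (1 : Fˣ)) = mon (Equiv.addRight ((0, 2) : L2)) (fun _ => 1) * (sw : T9) by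
      rw [sw, mon_mul, hπdef]; simp, nrm_translate A.cube.pow_three]
    exact mul_mem (hH.mem_wu _) (sw_mem_H hH)
  set t : L2 → Fˣ := fun x => if x.1 = 0 then -1 else 1 with ht
  have hg : mon (Equiv.swap U V) t ∈ H := by
    have hm := mul_mem (mul_mem hπm h) (inv_mem hπm)
    rw [conj_mon] at hm
    have e1 : π * Equiv.swap P Q * π⁻¹ = Equiv.swap U V := by
      rw [← Equiv.swap_apply_apply, show π P = U by rw [hπdef, hP, hU]; decide,
        show π Q = V by rw [hπdef, hQ, hV]; decide]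
    rw [e1] at hm
    convert hm using 2
    funext x
    have hx : (π⁻¹ x).2 = x.1 := by
      obtain ⟨y, rfl⟩ := π.surjective x
      rw [Equiv.Perm.inv_def, Equiv.symm_apply_apply]
      simp [hπdef]
    simp only [ht, hs, hx]
  have hd := mul_mem (mul_mem (mul_mem h hg) h) hg
  rw [mon_mul, mon_mul, mon_mul] at hd
  have hperm : Equiv.swap P Q * Equiv.swap U V * Equiv.swap P Q * Equiv.swap U V = 1 := by
    rw [hP, hQ, hU, hV]; decide
  rw [hperm] at hd
  obtain ⟨d, hdd, hdv⟩ : ∃ d : L2 → Fˣ, mon 1 d ∈ H ∧ ∀ j, (d j : F) = if j = U ∨ j = V then -1 else 1 := by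
    refine ⟨_, hd, fun j => ?_⟩
    obtain ⟨j1, j2⟩ := j
    revert j2
    revert j1
    refine Three.forall_zmod ?_ ?_ ?_ <;> refine Three.forall_zmod ?_ ?_ ?_ <;>
      simp [hs, ht, hP, hQ, hU, hV, Equiv.swap_apply_def, show (1 : ZMod 3) ≠ 0 by decide,
        show (2 : ZMod 3) ≠ 0 by decide, show (1 : ZMod 3) ≠ 2 by decide, show (2 : ZMod 3) ≠ 1 by decide,
        show (0 : ZMod 3) ≠ 1 by decide, show (0 : ZMod 3) ≠ 2 by decide]
  obtain ⟨f, hf⟩ := exists_bd (A := A) (g := mon 1 d) (Units.ext (by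
    ext y x
    rw [Units.val_mul, Units.val_mul, Matrix.mul_apply, Matrix.mul_apply,
      Finset.sum_eq_single y (fun z _ hz => by simp [mon_apply, Ne.symm hz]) (by simp),
      Finset.sum_eq_single x (fun z _ hz => by simp [mon_apply, hz]) (by simp)]
    by_cases hyx : y = x
    · subst hyx; simp [mon_apply, mul_comm]
    · simp [mon_apply, wm, i2, hyx, ← Prod.zero_eq_mk]))
  have hent : ∀ y x : L1, (f 0 : M3) y x = if y = x then (d (x, 0) : F) else 0 := fun y x => by
    have e := congrFun (congrFun (congrArg (fun u : T9 => (u : M9)) hf) (y, 0)) (x, 0)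
    simp [mon_apply, bd_apply] at e
    rw [← e]
  have hn := hsmall _ (mem_P0 hH (show bd f ∈ H from hf ▸ hdd) 0)
  have e := diag_nrm_cube hn fun y x hyx => by rw [hent, if_neg hyx]
  rw [hent, hent, if_pos rfl, if_pos rfl, hdv, hdv] at e
  simp [hU, hV] at e
  exact h2 (by linear_combination e)

theorem elem {g : L1 → T3} (hg : g ∈ Bd H) (h0 : g 0 = 1) (hC : ∀ j, g j ∈ C0 A) (hne : g ≠ 1)
    (hsmall : ∀ g ∈ P0 H, Nrm A.ω g) : Full A H :=
  single hH (single_mem_C0 hH hg h0 hC hne) hsmall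

end Cfsg.Agent.Forms.Max.SympNine.Nine
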