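import Cfsg.Agent.Lib.Forms.Max.SympNine.Block

/-!
# Labels in degree nine: the two planes and the inversion of the first factor
-/

set_option autoImplicit false
set_option linter.unusedSectionVars false
set_option linter.style.haveILetI false

namespace Cfsg.Agent.Forms.Max.SympNine.Nine.Inner

open Matrix Dot
open scoped Kronecker MatrixGroups

local notation "L3" => ZMod 3 × ZMod 3
local notation "V" => L2 × L2
local notation "S2" => SL(2, ZMod 3)

/-- a plane map given by its matrix -/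
def lin (a : S2) (v : L3) : L3 :=
  (a.1 0 0 * v.1 + a.1 0 1 * v.2, a.1 1 0 * v.1 + a.1 1 1 * v.2)

/-- a pair of plane maps as a map of labels -/
def pl (p : S2 × S2) (v : V) : V :=
  i1 (lin p.1 (v.1.1, v.2.1)) + i2 (lin p.2 (v.1.2, v.2.2))

theorem pl_one : pl 1 = id := by
  funext v
  obtain ⟨⟨a1, a2⟩, b1, b2⟩ := v
  simp [pl, lin, i1, i2]

theorem pl_mul (p q : S2 × S2) : pl (p * q) = pl p ∘ pl q := by
  funext v
  obtain ⟨⟨a1, a2⟩, b1, b2⟩ := v
  simp only [pl, lin, i1, i2, Function.comp_apply, Prod.fst_mul, Prod.snd_mul,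
    Matrix.SpecialLinearGroup.coe_mul, Matrix.mul_apply, Fin.sum_univ_two, Prod.mk_add_mk, add_zero, zero_add,
    Prod.mk.injEq]
  refine ⟨⟨?_, ?_⟩, ?_, ?_⟩ <;> ring

theorem sym_pl (p : S2 × S2) : Sym (pl p) := by
  refine ⟨fun u v => ?_, fun u v => ?_⟩
  · obtain ⟨⟨a1, a2⟩, b1, b2⟩ := u
    obtain ⟨⟨c1, c2⟩, d1, d2⟩ := v
    simp only [pl, lin, i1, i2, Prod.mk_add_mk, add_zero, zero_add, Prod.mk.injEq]
    refine ⟨⟨?_, ?_⟩, ?_, ?_⟩ <;> ring
  · obtain ⟨⟨a1, a2⟩, b1, b2⟩ := u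
    obtain ⟨⟨c1, c2⟩, d1, d2⟩ := v
    have hp := p.1.2
    have hq := p.2.2
    rw [Matrix.det_fin_two] at hp hq
    simp only [sf, Dot.dot, pl, lin, i1, i2, Prod.mk_add_mk, add_zero, zero_add]
    linear_combination (a1 * d1 - b1 * c1) * hp + (a2 * d2 - b2 * c2) * hq

theorem eq_of_pl_eq_id {p : S2 × S2} (h : pl p = id) : p = 1 := by
  have h1 := congrFun h (i1 (1, 0))
  have h2 := congrFun h (i1 (0, 1))
  have h3 := congrFun h (i2 (1, 0))
  have h4 := congrFun h (i2 (0, 1))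
  simp [pl, lin, i1, i2, Prod.ext_iff] at h1 h2 h3 h4
  refine Prod.ext ?_ ?_ <;> ext i j <;> fin_cases i <;> fin_cases j <;> simp [h1, h2, h3, h4]

/-- the label map of the inversion of the first factor -/
def σs (v : V) : V := ((-v.1.1, v.1.2), (-v.2.1, v.2.2))

theorem σs_eq : σs = pl (-1, 1) := by
  funext v
  obtain ⟨⟨a1, a2⟩, b1, b2⟩ := v
  simp [σs, pl, lin, i1, i2]

theorem sym_σs : Sym σs := σs_eq ▸ sym_pl _

theorem σs_invol (v : V) : σs (σs v) = v := by simp [σs]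

theorem σs_ne_id : σs ≠ id := fun h =>
  absurd (congrFun h ((1, 0), (0, 0))) (by simp [σs, show (-1 : ZMod 3) ≠ 1 by decide])

theorem σs_ne_neg : σs ≠ Neg.neg := fun h =>
  absurd (congrFun h ((0, 1), (0, 0))) (by simp [σs, show (1 : ZMod 3) ≠ -1 by decide])

theorem map_zero' {σ : V → V} (h : Sym σ) : σ 0 = 0 := by
  have := h.add 0 0
  rw [add_zero, left_eq_add] at this
  exact this

theorem map_neg' {σ : V → V} (h : Sym σ) (v : V) : σ (-v) = -σ v :=
  eq_neg_of_add_eq_zero_left (by rw [← h.add, neg_add_cancel, map_zero' h])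

theorem map_sc {σ : V → V} (h : Sym σ) (c : ZMod 3) (v : V) : σ (sc c v) = sc c (σ v) := by
  rcases zmod_three c with rfl | rfl | rfl <;> simp [map_zero' h, map_neg' h]

theorem sym_neg' : Sym (Neg.neg : V → V) := ⟨fun a b => neg_add a b, fun a b => by simp⟩

theorem sc_neg_left (c : ZMod 3) (v : V) : sc (-c) v = sc c (-v) := by
  rcases zmod_three c with rfl | rfl | rfl <;> simp

/-- **Every involution of the labels other than the central ones is conjugate to `σs`.** -/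
theorem exists_conj {σ : V → V} (hσ : Sym σ) (h2 : ∀ v, σ (σ v) = v) (hid : σ ≠ id) (hneg : σ ≠ Neg.neg) :
    ∃ τ : V → V, Sym τ ∧ ∀ v, σ (τ v) = τ (σs v) := by
  have hz : ∀ x : ZMod 3, x = -x → x = 0 := by decide
  obtain ⟨v, hv⟩ := Function.ne_iff.1 hid
  obtain ⟨v', hv'⟩ := Function.ne_iff.1 hneg
  have hm : ∀ x : V, σ (σ x - x) = -(σ x - x) := fun x => by
    rw [sub_eq_add_neg, hσ.add, map_neg' hσ, h2]; abel
  have hp : ∀ x : V, σ (σ x + x) = σ x + x := fun x => by rw [hσ.add, h2]; abel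
  set e := σ v - v with he
  set e' := σ v' + v' with he'
  have he0 : e ≠ 0 := sub_ne_zero.2 hv
  have he'0 : e' ≠ 0 := fun h => hv' (eq_neg_of_add_eq_zero_left h)
  obtain ⟨w, hw⟩ := sf_sep he0
  obtain ⟨w', hw'⟩ := sf_sep he'0
  have hflip : ∀ (x y : V), σ x = -x → sf x (σ y) = -sf x y := fun x y hx => by
    conv_rhs => rw [← hσ.form, hx, sf_neg_left, neg_neg]
  have hkeep : ∀ (x y : V), σ x = x → sf x (σ y) = sf x y := fun x y hx => by
    conv_rhs => rw [← hσ.form, hx]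
  set f := sc (sf e w) (σ w - w) with hf
  set f' := sc (-sf e' w') (σ w' + w') with hf'
  have se : σ e = -e := hm v
  have se' : σ e' = e' := hp v'
  have sf1 : σ f = -f := by
    rw [hf, map_sc hσ, hm, ← sc_neg_left]
    rcases zmod_three (sf e w) with h | h | h <;> rw [h] <;> simp
  have sf2 : σ f' = f' := by rw [hf', map_sc hσ, hp]
  have hsq : ∀ x : ZMod 3, x ≠ 0 → x * x = 1 := by decide
  have hef : sf e f = 1 := by
    rw [hf, sf_sc_right, sub_eq_add_neg, sf_add_right, sf_neg_right, hflip e w se]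
    have h3 : (3 : ZMod 3) = 0 := by decide
    linear_combination hsq _ hw - (sf e w * sf e w) * h3
  have he'f' : sf e' f' = 1 := by
    rw [hf', sf_sc_right, sf_add_right, hkeep e' w' se']
    have h3 : (3 : ZMod 3) = 0 := by decide
    linear_combination hsq _ hw' - (sf e' w' * sf e' w') * h3
  have hperp : ∀ x y : V, σ x = -x → σ y = y → sf x y = 0 := fun x y hx hy => hz _ (by
    have := hflip x y hx
    rwa [hy] at this)
  have p1 := hperp e e' se se'
  have p2 := hperp e f' se sf2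
  have p3 := hperp f e' sf1 se'
  have p4 := hperp f f' sf1 sf2
  have q0 : sf f e = -1 := by rw [sf_swap e f, hef]
  have q0' : sf f' e' = -1 := by rw [sf_swap e' f', he'f']
  have q1 : sf e' e = 0 := by rw [sf_swap e e', p1, neg_zero]
  have q2 : sf f' e = 0 := by rw [sf_swap e f', p2, neg_zero]
  have q3 : sf e' f = 0 := by rw [sf_swap f e', p3, neg_zero]
  have q4 : sf f' f = 0 := by rw [sf_swap f f', p4, neg_zero]
  refine ⟨fun x => sc x.1.1 e + sc x.2.1 f + sc x.1.2 e' + sc x.2.2 f', ⟨fun a b => ?_, fun a b => ?_⟩, fun x => ?_⟩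
  · simp only [Prod.fst_add, Prod.snd_add, sc_add_left]; abel
  · simp only [sf_add_left, sf_add_right, sf_sc_left, sf_sc_right, sf_self, hef, he'f', p1, p2, p3, p4, q0, q0',
      q1, q2, q3, q4]
    simp only [sf, Dot.dot]
    ring
  · simp only [hσ.add, map_sc hσ, se, sf1, se', sf2, σs, sc_neg_left]

/-- exchanging the planes -/
def swp (v : V) : V := (v.1.swap, v.2.swap)

theorem sym_swp : Sym swp := ⟨fun _ _ => rfl, fun u v => by simp [sf, Dot.dot, swp]; ring⟩

theorem swp_pl (p : S2 × S2) : swp ∘ pl p = pl p.swap ∘ swp := by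
  funext v
  obtain ⟨⟨a1, a2⟩, b1, b2⟩ := v
  simp [swp, pl, lin, i1, i2]

theorem swp_swp : swp ∘ swp = id := by funext v; simp [swp]

/-- an involution exchanging the planes -/
def wσ (M : S2) : V → V := pl (M, M⁻¹) ∘ swp

theorem sym_wσ (M : S2) : Sym (wσ M) := (sym_pl _).comp sym_swp

theorem wσ_invol (M : S2) (v : V) : wσ M (wσ M v) = v := by
  have h : swp (pl (M, M⁻¹) (swp v)) = pl (M⁻¹, M) (swp (swp v)) := congrFun (swp_pl (M, M⁻¹)) (swp v)
  show pl (M, M⁻¹) (swp (pl (M, M⁻¹) (swp v))) = v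
  rw [h, show swp (swp v) = v from congrFun swp_swp v, ← Function.comp_apply (f := pl (M, M⁻¹)), ← pl_mul]
  simp only [Prod.mk_mul_mk, mul_inv_cancel, inv_mul_cancel, Prod.mk_one_one, pl_one]
  rfl

theorem wσ_ne (M : S2) : wσ M ≠ id ∧ wσ M ≠ Neg.neg := by
  constructor <;> intro h <;> have := congrFun h (i1 (1, 0)) <;>
    simp [wσ, swp, pl, lin, i1, i2, Prod.ext_iff] at this

theorem wσ_comp_one (M : S2) : wσ M ∘ wσ 1 = pl (M, M⁻¹) := by
  have h1 : wσ 1 = swp := by rw [wσ, inv_one, Prod.mk_one_one, pl_one]; rfl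
  rw [h1, wσ, Function.comp_assoc, swp_swp, Function.comp_id]

/-- an element of order four -/
def quat : S2 := ⟨!![1, 1; 1, -1], by decide⟩

set_option maxRecDepth 20000 in
theorem quat_comm : Three.rot * quat * (Three.rot⁻¹ * quat⁻¹) = (-1 : S2) := by decide

theorem σs_six : (wσ Three.rot ∘ wσ 1) ∘ (wσ quat ∘ wσ 1) ∘ (wσ (Three.rot⁻¹ * quat⁻¹) ∘ wσ 1) = σs := by
  rw [wσ_comp_one, wσ_comp_one, wσ_comp_one, ← pl_mul, ← pl_mul, σs_eq]
  congr 1
  refine Prod.ext ?_ ?_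
  · simp only [Prod.fst_mul, ← mul_assoc, ← quat_comm]
  · simp only [Prod.snd_mul, _root_.mul_inv_rev, inv_inv]
    group

/-- a map commuting with `σs` acts on the planes separately -/
theorem exists_pl {σ : V → V} (hσ : Sym σ) (hc : ∀ v, σ (σs v) = σs (σ v)) : ∃ p, σ = pl p := by
  have hz : ∀ x : ZMod 3, (x = -x → x = 0) ∧ (-x = x → x = 0) := by decide
  let σ1 : L3 → L3 := fun q => ((σ (i1 q)).1.1, (σ (i1 q)).2.1)
  let σ2 : L3 → L3 := fun q => ((σ (i2 q)).1.2, (σ (i2 q)).2.2)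
  have k1 : ∀ q : L3, σ (i1 q) = i1 (σ1 q) := fun q => by
    have e1 : σs (i1 q) = -i1 q := by simp [σs, i1]
    have h := hc (i1 q)
    rw [e1, map_neg' hσ] at h
    have ha := congrArg (fun z : V => z.1.2) h
    have hb := congrArg (fun z : V => z.2.2) h
    simp only [σs, Prod.fst_neg, Prod.snd_neg] at ha hb
    refine Prod.ext (Prod.ext rfl ?_) (Prod.ext rfl ?_)
    · exact (hz _).2 ha
    · exact (hz _).2 hb
  have k2 : ∀ q : L3, σ (i2 q) = i2 (σ2 q) := fun q => by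
    have e1 : σs (i2 q) = i2 q := by simp [σs, i2]
    have h := hc (i2 q)
    rw [e1] at h
    have ha := congrArg (fun z : V => z.1.1) h
    have hb := congrArg (fun z : V => z.2.1) h
    simp only [σs] at ha hb
    refine Prod.ext (Prod.ext ?_ rfl) (Prod.ext ?_ rfl)
    · exact (hz _).1 ha
    · exact (hz _).1 hb
  have hσ1 : Sym σ1 := ⟨fun a b => by
      show ((σ (i1 (a + b))).1.1, (σ (i1 (a + b))).2.1) = _
      rw [show i1 (a + b) = i1 a + i1 b by simp [i1], hσ.add]; rfl,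
    fun a b => by
      have h := hσ.form (i1 a) (i1 b)
      rw [k1, k1] at h
      simpa [sf, Dot.dot, i1] using h⟩
  have hσ2 : Sym σ2 := ⟨fun a b => by
      show ((σ (i2 (a + b))).1.2, (σ (i2 (a + b))).2.2) = _
      rw [show i2 (a + b) = i2 a + i2 b by simp [i2], hσ.add]; rfl,
    fun a b => by
      have h := hσ.form (i2 a) (i2 b)
      rw [k2, k2] at h
      simpa [sf, Dot.dot, i2] using h⟩
  refine ⟨(Three.toSL hσ1, Three.toSL hσ2), funext fun v => ?_⟩
  have e1 : ∀ q, lin (Three.toSL hσ1) q = σ1 q := fun q => by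
    rw [Three.sym_apply hσ1 q]; simp [lin, Three.toSL]; constructor <;> ring
  have e2 : ∀ q, lin (Three.toSL hσ2) q = σ2 q := fun q => by
    rw [Three.sym_apply hσ2 q]; simp [lin, Three.toSL]; constructor <;> ring
  rw [pl, e1, e2, ← k1, ← k2, ← hσ.add]
  congr 1
  simp [i1, i2]

variable {F : Type*} [Field F] {ω : F}

theorem sE_acts (hω : ω ^ 3 = 1) : Acts ω ((sE : GL L2 F) : Matrix L2 L2 F) σs := by
  intro v
  obtain ⟨⟨a1, a2⟩, b1, b2⟩ := v
  have e : ((sE : GL L2 F) : Matrix L2 L2 F) = (jm : Matrix L1 L1 F) ⊗ₖ (1 : Matrix L1 L1 F) := by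
    rw [kronecker_one]; rfl
  show _ = wm ω ((-a1, a2), (-b1, b2)) * _
  rw [e, wm_kron hω ((a1, b1) : L1 × L1) ((a2, b2) : L1 × L1),
    wm_kron hω ((-a1, -b1) : L1 × L1) ((a2, b2) : L1 × L1), ← mul_kronecker_mul, ← mul_kronecker_mul,
    Matrix.one_mul, Matrix.mul_one, jm_wm]
  rfl

theorem acts_inv {g : GL L2 F} {σ σ' : V → V} (hg : Acts ω (g : Matrix L2 L2 F) σ) (h : ∀ v, σ (σ' v) = v) :
    Acts ω ((g⁻¹ : GL L2 F) : Matrix L2 L2 F) σ' := fun v => by
  conv_lhs => rw [← h v]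
  calc ((g⁻¹ : GL L2 F) : Matrix L2 L2 F) * wm ω (σ (σ' v))
      = ((g⁻¹ : GL L2 F) : Matrix L2 L2 F) * (wm ω (σ (σ' v)) * (g : Matrix L2 L2 F)) *
          ((g⁻¹ : GL L2 F) : Matrix L2 L2 F) := by simp [Matrix.mul_assoc]
    _ = _ := by rw [← hg (σ' v), ← Matrix.mul_assoc, Units.inv_mul, Matrix.one_mul]

/-- elements with their plane maps -/
def pairs (ω : F) : Subgroup (GL L2 F × (S2 × S2)) where
  carrier := {x | Acts ω (x.1 : Matrix L2 L2 F) (pl x.2)}
  one_mem' := by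
    show Acts ω ((1 : GL L2 F) : Matrix L2 L2 F) (pl 1)
    rw [pl_one, Units.val_one]; exact acts_one
  mul_mem' {x y} hx hy := by
    show Acts ω ((x.1 * y.1 : GL L2 F) : Matrix L2 L2 F) (pl (x.2 * y.2))
    rw [pl_mul, Units.val_mul]; exact hx.mul hy
  inv_mem' {x} hx := acts_inv hx fun v => by
    show pl x.2 (pl x.2⁻¹ v) = v
    rw [← Function.comp_apply (f := pl x.2), ← pl_mul, mul_inv_cancel, pl_one]; rfl

theorem mem_pairs {g : GL L2 F} {p : S2 × S2} :
    (g, p) ∈ pairs ω ↔ Acts ω (g : Matrix L2 L2 F) (pl p) := Iff.rfl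

end Cfsg.Agent.Forms.Max.SympNine.Nine.Inner
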