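import Cfsg.Agent.Lib.Forms.Max.SympNine.Amb

/-!
# Matrices normalising the Weyl operators up to scalars
-/

set_option autoImplicit false
set_option linter.unusedSectionVars false
set_option linter.style.haveILetI false

namespace Cfsg.Agent.Forms.Max.SympNine

open Matrix Dot

variable {X : Type} [AddCommGroup X] [Fintype X] [DecidableEq X] [Dot X]

/-- additive functions are given by the pairing -/
class DotRepr (X : Type) [AddCommGroup X] [Dot X] : Prop where
  repr : ∀ f : X → ZMod 3, (∀ a b, f (a + b) = f a + f b) → ∃ y, ∀ x, f x = dot y x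

instance : DotRepr (ZMod 3) := ⟨fun f hf => ⟨f 1, fun x => by
  have h0 : f 0 = 0 := by have := hf 0 0; rw [add_zero, left_eq_add] at this; exact this
  rcases zmod_three x with rfl | rfl | rfl
  · simp [h0]
  · change f 1 = f 1 * 1; ring
  · change f (-1) = f 1 * (-1)
    have := hf 1 (-1); rw [add_neg_cancel, h0] at this
    linear_combination -this⟩⟩

instance : DotRepr (ZMod 3 × ZMod 3) := ⟨fun f hf => by
  obtain ⟨a, ha⟩ := DotRepr.repr (fun x : ZMod 3 => f (x, 0)) fun a b => by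
    rw [← hf]; simp
  obtain ⟨b, hb⟩ := DotRepr.repr (fun x : ZMod 3 => f (0, x)) fun a b => by
    rw [← hf]; simp
  refine ⟨(a, b), fun x => ?_⟩
  change f x = a * x.1 + b * x.2
  rw [← show f (x.1, 0) = a * x.1 from ha x.1, ← show f (0, x.2) = b * x.2 from hb x.2, ← hf]
  simp⟩

variable [Exp3 X] [DotRepr X]

theorem sf_repr (f : X × X → ZMod 3) (hf : ∀ a b, f (a + b) = f a + f b) : ∃ u, ∀ v, f v = sf u v := by
  obtain ⟨y, hy⟩ := DotRepr.repr (fun x => f (0, x)) fun a b => by rw [← hf]; simp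
  obtain ⟨z, hz⟩ := DotRepr.repr (fun x => f (x, 0)) fun a b => by rw [← hf]; simp
  refine ⟨(y, -z), fun v => ?_⟩
  rw [sf, neg_dot, sub_neg_eq_add, ← show f (0, v.2) = dot y v.2 from hy _,
    ← show f (v.1, 0) = dot z v.1 from hz _, ← hf]
  simp

variable {F : Type*} [Field F] {ω : F}

theorem wm_inj (hc : Cube F ω) {v w : X × X} {c : F} (h : wm ω v = c • wm ω w) : v = w ∧ c = 1 := by
  have hne : ∀ u : X × X, ∀ x : X, wm ω u (x + u.1) x ≠ 0 := fun u x => by
    simp [wm, hc.ne_zero]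
  have h1 : v.1 = w.1 := by
    by_contra hne'
    have e := congrFun (congrFun h (0 + v.1)) 0
    rw [Matrix.smul_apply] at e
    rw [show wm ω w (0 + v.1) 0 = 0 by simp [wm, hne'], smul_zero] at e
    exact hne v 0 e
  have hval : ∀ x : X, ω ^ (dot v.2 x + 2 * dot v.1 v.2).val = c * ω ^ (dot w.2 x + 2 * dot v.1 w.2).val := fun x => by
    have e := congrFun (congrFun h (x + v.1)) x
    simpa [wm, h1] using e
  have hc1 : c = ω ^ (2 * dot v.1 v.2 - 2 * dot v.1 w.2).val := by
    have e := hval 0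
    rw [dot_zero, dot_zero, zero_add, zero_add] at e
    refine mul_right_cancel₀ (pow_ne_zero (2 * dot v.1 w.2).val hc.ne_zero) ?_
    rw [← e, ← pow_val_add hc.pow_three, sub_add_cancel]
  have h2 : v.2 = w.2 := by
    by_contra hne'
    obtain ⟨x, hx⟩ := sep (v.2 - w.2) (sub_ne_zero.2 hne')
    apply hx
    have e := hval x
    rw [hc1, ← pow_val_add hc.pow_three] at e
    have e' := hc.val_inj e
    rw [sub_eq_add_neg, add_dot, neg_dot]
    linear_combination e'
  refine ⟨Prod.ext h1 h2, ?_⟩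
  rw [hc1, h2, sub_self, ZMod.val_zero, pow_zero]

/-- a matrix permuting the lines of the Weyl operators -/
def Nrm (ω : F) (g : GL X F) : Prop :=
  ∀ v : X × X, ∃ (w : X × X) (c : F), (g : Matrix X X F) * wm ω v = c • (wm ω w * (g : Matrix X X F))

theorem Nrm.exists_factor (hc : Cube F ω) {g : GL X F} (hg : Nrm ω g) :
    ∃ (u : X × X) (σ : X × X → X × X) (g₀ : GL X F), Sym σ ∧ Acts ω (g₀ : Matrix X X F) σ ∧
      g = wu hc.pow_three u * g₀ := by
  choose σ c hgc using hg
  have hcan : ∀ {a : F} {w w' : X × X}, wm ω w' * (g : Matrix X X F) = a • (wm ω w * (g : Matrix X X F)) →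
      w' = w ∧ a = 1 := by
    intro a w w' h
    have h' := congrArg (fun M => M * ((g⁻¹ : GL X F) : Matrix X X F)) h
    simp only [Matrix.smul_mul, Matrix.mul_assoc, Units.mul_inv, Matrix.mul_one] at h'
    exact wm_inj hc h'
  have hc0 : ∀ v, c v ≠ 0 := fun v h => by
    have e := hgc v
    rw [h, zero_smul] at e
    have : (wm ω v) = (0 : Matrix X X F) := by
      rw [← Matrix.one_mul (wm ω v), ← Units.inv_mul g, Matrix.mul_assoc, e, Matrix.mul_zero]
    have h1 := congrFun (congrFun this (0 + v.1)) 0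
    simp [wm, hc.ne_zero] at h1
  have hkey : ∀ v w : X × X, σ (v + w) = σ v + σ w ∧
      c v * c w * ω ^ (sf (σ v) (σ w)).val = ω ^ (sf v w).val * c (v + w) := by
    intro v w
    have e : ω ^ (sf v w).val • (c (v + w) • (wm ω (σ (v + w)) * (g : Matrix X X F))) =
        (c v * c w * ω ^ (sf (σ v) (σ w)).val) • (wm ω (σ v + σ w) * (g : Matrix X X F)) := by
      rw [← hgc (v + w), ← Matrix.mul_smul, ← wm_mul hc.pow_three, ← Matrix.mul_assoc, hgc v, Matrix.smul_mul,
        Matrix.mul_assoc, hgc w, Matrix.mul_smul, ← Matrix.mul_assoc, wm_mul hc.pow_three, Matrix.smul_mul,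
        smul_smul, smul_smul, mul_assoc]
    set a := c v * c w * ω ^ (sf (σ v) (σ w)).val
    set b := ω ^ (sf v w).val * c (v + w)
    rw [smul_smul] at e
    have hb : b ≠ 0 := mul_ne_zero (pow_ne_zero _ hc.ne_zero) (hc0 _)
    have e' : wm ω (σ (v + w)) * (g : Matrix X X F) = (a / b) • (wm ω (σ v + σ w) * (g : Matrix X X F)) := by
      rw [div_eq_inv_mul, ← smul_smul, ← e, inv_smul_smul₀ hb]
    obtain ⟨h1, h2⟩ := hcan e'
    exact ⟨h1, (div_eq_one_iff_eq hb).1 h2⟩
  have hsym : Sym σ := ⟨fun a b => (hkey a b).1, fun a b => by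
    have e1 := (hkey a b).2
    have e2 := (hkey b a).2
    rw [add_comm b a, sf_swap (σ a) (σ b), sf_swap a b] at e2
    have e3 : ω ^ ((sf (σ a) (σ b)).val + (-sf a b).val) = ω ^ ((sf a b).val + (-sf (σ a) (σ b)).val) := by
      refine mul_left_cancel₀ (mul_ne_zero (hc0 a) (hc0 b)) ?_
      rw [pow_add, pow_add]
      linear_combination (ω ^ (-sf a b).val) * e1 - (ω ^ (sf a b).val) * e2
    rw [pow_add, pow_add, ← pow_val_add hc.pow_three, ← pow_val_add hc.pow_three] at e3
    have := hc.val_inj e3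
    revert this
    generalize sf (σ a) (σ b) = x
    generalize sf a b = y
    revert x y
    decide⟩
  have hadd : ∀ a b, c (a + b) = c a * c b := fun a b => by
    have e := (hkey a b).2
    rw [hsym.form] at e
    exact mul_left_cancel₀ (pow_ne_zero _ hc.ne_zero) (by linear_combination -e : ω ^ (sf a b).val * c (a + b) = ω ^ (sf a b).val * (c a * c b))
  have hc3 : ∀ v, c v ^ 3 = 1 := fun v => by
    have h1 : c 0 = 1 := by
      have := hadd 0 0; rw [add_zero] at this
      exact (mul_eq_left₀ (hc0 0)).1 this.symm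
    rw [← h1, show (0 : X × X) = v + v + v from ?_, hadd, hadd, pow_succ, pow_two]
    rw [two_nsmul_eq, neg_add_cancel]
  have hex : ∀ v, ∃ k : ZMod 3, c v = ω ^ k.val := fun v => by
    have e : (c v - 1) * ((c v - ω) * (c v - ω ^ 2)) = 0 := by
      linear_combination hc3 v + (c v - c v ^ 2 + (ω - 1) * (c v - 1)) * hc.sum
    rcases mul_eq_zero.1 e with e | e
    · exact ⟨0, by simpa using sub_eq_zero.1 e⟩
    · rcases mul_eq_zero.1 e with e | e
      · exact ⟨1, by rw [show ZMod.val (1 : ZMod 3) = 1 from rfl, pow_one]; exact sub_eq_zero.1 e⟩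
      · exact ⟨-1, by rw [show ZMod.val (-1 : ZMod 3) = 2 from rfl]; exact sub_eq_zero.1 e⟩
  choose χ hχ using hex
  have hχadd : ∀ a b, χ (a + b) = χ a + χ b := fun a b => by
    refine hc.val_inj ?_
    rw [pow_val_add hc.pow_three, ← hχ, ← hχ, ← hχ, hadd]
  -- transport the character along the linear map
  obtain ⟨τ, hτ⟩ := hsym.surjective.hasRightInverse
  have hτadd : ∀ a b, τ (a + b) = τ a + τ b := fun a b => hsym.injective (by rw [hsym.add, hτ, hτ, hτ])
  obtain ⟨u, hu⟩ := sf_repr (fun w => 2 * χ (τ w)) fun a b => by rw [hτadd, hχadd]; ring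
  refine ⟨u, σ, (wu hc.pow_three u)⁻¹ * g, hsym, fun v => ?_, by group⟩
  have hu' : sf u (σ v) = 2 * χ v := by rw [← hu, hsym.injective (hτ (σ v))]
  have hinv : (((wu hc.pow_three u)⁻¹ : GL X F) : Matrix X X F) = wm ω (-u) := rfl
  rw [Units.val_mul, hinv, Matrix.mul_assoc, hgc v, Matrix.mul_smul, ← Matrix.mul_assoc, wm_comm hc.pow_three,
    Matrix.smul_mul, Matrix.mul_assoc, smul_smul, hχ, ← pow_val_add hc.pow_three, sf_neg_left, hu']
  rw [show χ v + 2 * -(2 * χ v) = 0 by generalize χ v = x; revert x; decide, ZMod.val_zero, pow_zero, one_smul]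

theorem nrm_of_acts {g : GL X F} {σ : X × X → X × X} (h : Acts ω (g : Matrix X X F) σ) : Nrm ω g :=
  fun v => ⟨σ v, 1, by rw [one_smul]; exact h v⟩

theorem nrm_wu (hc : Cube F ω) (u : X × X) : Nrm ω (wu hc.pow_three u) :=
  fun v => ⟨v, ω ^ (2 * sf u v).val, wm_comm hc.pow_three u v⟩

theorem Nrm.mul {g h : GL X F} (hg : Nrm ω g) (hh : Nrm ω h) : Nrm ω (g * h) := fun v => by
  obtain ⟨w, c, e⟩ := hh v
  obtain ⟨w', c', e'⟩ := hg w
  exact ⟨w', c * c', by
    rw [Units.val_mul, Matrix.mul_assoc, e, Matrix.mul_smul, ← Matrix.mul_assoc, e', Matrix.smul_mul,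
      Matrix.mul_assoc, smul_smul]⟩

theorem Nrm.inv {g : GL X F} (hg : Nrm ω g) (hc : Cube F ω) : Nrm ω g⁻¹ := by
  obtain ⟨u, σ, g₀, hσ, ha, rfl⟩ := hg.exists_factor hc
  rw [_root_.mul_inv_rev]
  refine Nrm.mul ?_ (fun v => ⟨v, ω ^ (2 * sf (-u) v).val, wm_comm hc.pow_three (-u) v⟩)
  intro v
  obtain ⟨w, rfl⟩ := hσ.surjective v
  refine ⟨w, 1, ?_⟩
  rw [one_smul]
  calc ((g₀⁻¹ : GL X F) : Matrix X X F) * wm ω (σ w)
      = ((g₀⁻¹ : GL X F) : Matrix X X F) * (wm ω (σ w) * (g₀ : Matrix X X F)) *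
          ((g₀⁻¹ : GL X F) : Matrix X X F) := by simp [Matrix.mul_assoc]
    _ = _ := by rw [← ha w, ← Matrix.mul_assoc, Units.inv_mul, one_mul]

theorem nrm_smul {g h : GL X F} {c : F} (e : (g : Matrix X X F) = c • (h : Matrix X X F)) (hh : Nrm ω h) :
    Nrm ω g := fun v => by
  obtain ⟨w, d, e'⟩ := hh v
  exact ⟨w, d, by rw [e, Matrix.smul_mul, e', Matrix.mul_smul, smul_comm]⟩

/-- a subgroup with the scalars of the ambient group and the standard normalising elements -/
structure Rich {F : Type*} [Field F] [Fintype F] (A : Amb F) (H : Subgroup (GL X F)) : Prop where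
  le : H ≤ A.Isom X
  wu : ∀ v : X × X, ∃ c : F, ∃ g ∈ H, (g : Matrix X X F) = c • wm A.ω v
  tu : ∀ v : X × X, ∃ c : F, ∃ g ∈ H, (g : Matrix X X F) = c • tm A.ω A.ω v
  sg : ∀ c : F, ∀ hc : A.Unim c, sg X hc.1 ∈ H

variable [Fintype F] {A : Amb F} {H : Subgroup (GL X F)}

theorem Rich.mem_of_smul (hH : Rich A H) [Nonempty X] {g h : GL X F} (hh : h ∈ H) (hg : g ∈ A.Isom X) {c : F}
    (e : (g : Matrix X X F) = c • (h : Matrix X X F)) : g ∈ H := by
  have hu := Amb.unim_of_smul hg (hH.le hh) e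
  rw [eq_sg_mul hu.1 e]
  exact mul_mem (hH.sg c hu) hh

theorem Rich.mem_wu (hH : Rich A H) [Nonempty X] (v : X × X) : SympNine.wu A.cube.pow_three v ∈ H := by
  obtain ⟨c, g, hg, e⟩ := hH.wu v
  have hu := Amb.unim_of_smul (hH.le hg) (wu_mem (A := A) v) e
  exact hH.mem_of_smul hg (wu_mem v) (c := c⁻¹) (by rw [e, smul_smul, inv_mul_cancel₀ hu.1, one_smul]; rfl)

theorem Rich.mem_tu (hH : Rich A H) [Nonempty X] (v : X × X) : SympNine.tu A.cube v ∈ H := by
  obtain ⟨c, g, hg, e⟩ := hH.tu v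
  have hu := Amb.unim_of_smul (hH.le hg) (tu_mem (A := A) v) e
  exact hH.mem_of_smul hg (tu_mem v) (c := c⁻¹) (by rw [e, smul_smul, inv_mul_cancel₀ hu.1, one_smul]; rfl)

/-- every element of the ambient group normalising the operators lies in a rich subgroup -/
theorem Rich.mem_of_nrm (hH : Rich A H) [Nonempty X] {g : GL X F} (hg : g ∈ A.Isom X) (hn : Nrm A.ω g) :
    g ∈ H := by
  obtain ⟨u, σ, g₀, hσ, ha, rfl⟩ := hn.exists_factor A.cube
  obtain ⟨g₁, hg₁, ha₁⟩ := exists_real A.cube (gen_of_sym hσ) (S := H) hH.mem_tu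
  obtain ⟨c, e⟩ := Acts.unique A.cube ha ha₁
  refine mul_mem (hH.mem_wu u) (hH.mem_of_smul hg₁ ?_ e)
  simpa using mul_mem (inv_mem (wu_mem (A := A) u)) hg

theorem Rich.mem_ju (hH : Rich A H) [Nonempty X] : (ju : GL X F) ∈ H :=
  hH.mem_of_nrm ju_mem (nrm_of_acts acts_jm)

/-- every symplectic map of the labels is realised in a rich subgroup -/
theorem Rich.exists_acts (hH : Rich A H) [Nonempty X] {σ : X × X → X × X} (hσ : Sym σ) :
    ∃ g ∈ H, Acts A.ω (g : Matrix X X F) σ :=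
  exists_real A.cube (gen_of_sym hσ) hH.mem_tu

end Cfsg.Agent.Forms.Max.SympNine
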