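import Cfsg.Agent.Lib.Forms.DicksonMax
import Cfsg.Agent.Lib.Forms.DicksonPGL.Basic
import Cfsg.Agent.Lib.Classical.GL2

/-!
# Subgroups of a plane group over a prime field with prescribed traces

A group of unimodular plane matrices isomorphic to `SL₂` of a prime field: two elements of trace minus
one whose product has trace one half generate it, and a subgroup with an element of order three and a
suitable element of order four either inverts the former or has image of order twelve.
-/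

set_option autoImplicit false
set_option linter.unusedSectionVars false
set_option linter.style.haveILetI false

namespace Cfsg.Agent.Forms.Max.SympNine.Plane

open Matrix Cfsg.Agent.Forms
open scoped MatrixGroups

section Decide

set_option maxRecDepth 20000 in
theorem sym4_pairs : ∀ x y : Equiv.Perm (Fin 4), x * x * x = 1 → y * y * y = 1 →
    (x * y) * (x * y) = 1 ∨ (x * y) * (x * y) * (x * y) = 1 := by decide

set_option maxRecDepth 20000 in
set_option synthInstance.maxSize 2000 in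
theorem alt4_shape_two : ∀ x y z : alternatingGroup (Fin 4), x * x * x = 1 → x ≠ 1 → y * y = 1 → y ≠ 1 →
    z * z = 1 → z ≠ 1 → z = y ∨ z = x * y * x⁻¹ ∨ z = x⁻¹ * y * x := by decide

/-- the conjugator test -/
def ConjTest (x z l : alternatingGroup (Fin 4)) : Prop := l * x * l⁻¹ = z ∨ l * x * l⁻¹ = z⁻¹

instance (x z l : alternatingGroup (Fin 4)) : Decidable (ConjTest x z l) := by unfold ConjTest; infer_instance

set_option maxRecDepth 20000 in
set_option synthInstance.maxSize 2000 in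
theorem alt4_shape_three : ∀ x y z : alternatingGroup (Fin 4), x * x * x = 1 → x ≠ 1 → y * y = 1 → y ≠ 1 →
    z * z * z = 1 → z ≠ 1 →
    ConjTest x z 1 ∨ ConjTest x z y ∨ ConjTest x z (x * y * x⁻¹) ∨ ConjTest x z (x⁻¹ * y * x) := by decide

theorem alt4_shape (x y z : alternatingGroup (Fin 4)) (hx : x * x * x = 1) (hx1 : x ≠ 1) (hy : y * y = 1)
    (hy1 : y ≠ 1) :
    ((z * z = 1 → z ≠ 1 → z = y ∨ z = x * y * x⁻¹ ∨ z = x⁻¹ * y * x) ∧
      (z * z * z = 1 → z ≠ 1 → ∃ l : alternatingGroup (Fin 4), (l = 1 ∨ l = y ∨ l = x * y * x⁻¹ ∨ l = x⁻¹ * y * x) ∧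
        (l * x * l⁻¹ = z ∨ l * x * l⁻¹ = z⁻¹))) := by
  refine ⟨alt4_shape_two x y z hx hx1 hy hy1, fun hz hz1 => ?_⟩
  rcases alt4_shape_three x y z hx hx1 hy hy1 hz hz1 with h | h | h | h
  · exact ⟨1, Or.inl rfl, h⟩
  · exact ⟨y, Or.inr (Or.inl rfl), h⟩
  · exact ⟨_, Or.inr (Or.inr (Or.inl rfl)), h⟩
  · exact ⟨_, Or.inr (Or.inr (Or.inr rfl)), h⟩

theorem sym4_real : ∀ x : Equiv.Perm (Fin 4), x * x * x = 1 → ∃ g, g * x * g⁻¹ = x⁻¹ := by decide

set_option maxRecDepth 20000 in
theorem alt5_real : ∀ x : alternatingGroup (Fin 5), x * x * x = 1 → ∃ g, g * x * g⁻¹ = x⁻¹ := by decide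

set_option maxRecDepth 20000 in
theorem alt5_orders : ∀ z : alternatingGroup (Fin 5),
    z ^ 2 = 1 ∨ z ^ 3 = 1 ∨ z ^ 5 = 1 := by decide

end Decide

variable {F : Type*} [Field F]

theorem ch (X : SL(2, F)) : (X : Matrix (Fin 2) (Fin 2) F) * X =
    (X : Matrix (Fin 2) (Fin 2) F).trace • (X : Matrix (Fin 2) (Fin 2) F) - 1 :=
  DicksonAction.sq_eq_trace X

theorem cube_of_trace {X : SL(2, F)} (h : (X : Matrix (Fin 2) (Fin 2) F).trace = -1) : X ^ 3 = 1 := by
  apply Subtype.ext
  have e := ch X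
  rw [h] at e
  rw [pow_succ, pow_two, Matrix.SpecialLinearGroup.coe_mul, Matrix.SpecialLinearGroup.coe_mul,
    Matrix.SpecialLinearGroup.coe_one, e, sub_mul, Matrix.smul_mul, e]
  simp

theorem smul_one_inj {a b : F} (h : a • (1 : Matrix (Fin 2) (Fin 2) F) = b • 1) : a = b := by
  simpa using congrFun (congrFun h 0) 0

theorem tr_one_sub {a b : F} {M : Matrix (Fin 2) (Fin 2) F} (ha : a ≠ 0) (h : a • M = b • 1) :
    M = (b / a) • 1 := by
  rw [div_eq_inv_mul, ← smul_smul, ← h, inv_smul_smul₀ ha]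


theorem pow_two_case {X : SL(2, F)} (hns : ∀ c : F, (X : Matrix (Fin 2) (Fin 2) F) ≠ c • 1)
    {e : F} (h : ((X ^ 2 : SL(2, F)) : Matrix (Fin 2) (Fin 2) F) = e • 1) :
    (X : Matrix (Fin 2) (Fin 2) F).trace = 0 := by
  set τ := (X : Matrix (Fin 2) (Fin 2) F).trace
  rw [pow_two, Matrix.SpecialLinearGroup.coe_mul, ch, sub_eq_iff_eq_add] at h
  by_contra h0
  refine hns _ (tr_one_sub h0 (b := e + 1) ?_)
  rw [h, add_smul, one_smul]

theorem pow_three_case {X : SL(2, F)} (hns : ∀ c : F, (X : Matrix (Fin 2) (Fin 2) F) ≠ c • 1)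
    {e : F} (h : ((X ^ 3 : SL(2, F)) : Matrix (Fin 2) (Fin 2) F) = e • 1) :
    (X : Matrix (Fin 2) (Fin 2) F).trace ^ 2 = 1 := by
  set τ := (X : Matrix (Fin 2) (Fin 2) F).trace
  rw [pow_succ, pow_two, Matrix.SpecialLinearGroup.coe_mul, Matrix.SpecialLinearGroup.coe_mul, ch,
    sub_mul, Matrix.smul_mul, ch, one_mul, smul_sub, smul_smul] at h
  by_contra h0
  refine hns _ (tr_one_sub (a := τ * τ - 1) (b := e + τ) (fun h1 => h0 (by linear_combination h1)) ?_)
  rw [sub_smul, one_smul, add_smul, ← h]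
  abel

theorem pow_five_case {X : SL(2, F)} (hns : ∀ c : F, (X : Matrix (Fin 2) (Fin 2) F) ≠ c • 1)
    {e : F} (h : ((X ^ 5 : SL(2, F)) : Matrix (Fin 2) (Fin 2) F) = e • 1) :
    (X : Matrix (Fin 2) (Fin 2) F).trace ^ 4 - 3 * (X : Matrix (Fin 2) (Fin 2) F).trace ^ 2 + 1 = 0 := by
  set τ := (X : Matrix (Fin 2) (Fin 2) F).trace
  set M := (X : Matrix (Fin 2) (Fin 2) F)
  have h2 : M * M = τ • M - 1 := ch X
  have h4 : M * M * (M * M) = (τ ^ 3 - 2 * τ) • M - (τ ^ 2 - 1) • 1 := by
    rw [h2]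
    simp only [sub_mul, mul_sub, Matrix.smul_mul, Matrix.mul_smul, one_mul, mul_one, h2, smul_sub, smul_smul]
    module
  have h5 : M * M * (M * M) * M = (τ ^ 4 - 3 * τ ^ 2 + 1) • M - (τ ^ 3 - 2 * τ) • 1 := by
    rw [h4, sub_mul, Matrix.smul_mul, h2, Matrix.smul_mul, one_mul]
    module
  rw [show X ^ 5 = X * X * (X * X) * X by simp [pow_succ, mul_assoc]] at h
  simp only [Matrix.SpecialLinearGroup.coe_mul] at h
  rw [h5] at h
  by_contra h0
  refine hns _ (tr_one_sub h0 (b := e + (τ ^ 3 - 2 * τ)) ?_)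
  rw [sub_eq_iff_eq_add] at h
  rw [h, ← add_smul]

theorem scalar_trace {X : Matrix (Fin 2) (Fin 2) F} {c : F} (h : X = c • 1) : X.trace = 2 * c := by
  rw [h]; simp [Matrix.trace_fin_two]; ring

theorem coe_neg_one : (((-1 : SL(2, F))) : Matrix (Fin 2) (Fin 2) F) = (-1 : F) • 1 := by
  rw [Matrix.SpecialLinearGroup.coe_neg, Matrix.SpecialLinearGroup.coe_one, neg_one_smul]

theorem trace_comm (X Y : SL(2, F)) :
    ((X * Y * X⁻¹ * Y⁻¹ : SL(2, F)) : Matrix (Fin 2) (Fin 2) F).trace =
      (X : Matrix (Fin 2) (Fin 2) F).trace ^ 2 + (Y : Matrix (Fin 2) (Fin 2) F).trace ^ 2 +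
        ((X * Y : SL(2, F)) : Matrix (Fin 2) (Fin 2) F).trace ^ 2 -
        (X : Matrix (Fin 2) (Fin 2) F).trace * (Y : Matrix (Fin 2) (Fin 2) F).trace *
          ((X * Y : SL(2, F)) : Matrix (Fin 2) (Fin 2) F).trace - 2 := by
  have hX := Matrix.SpecialLinearGroup.det_coe X
  have hY := Matrix.SpecialLinearGroup.det_coe Y
  rw [det_fin_two] at hX hY
  simp only [Matrix.SpecialLinearGroup.coe_mul, Matrix.SpecialLinearGroup.coe_inv, adjugate_fin_two,
    Matrix.trace_fin_two, Matrix.mul_apply, Fin.sum_univ_two, Matrix.of_apply, Matrix.cons_val',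
    Matrix.cons_val_zero, Matrix.cons_val_one, Matrix.head_cons, Matrix.empty_val', Matrix.cons_val_fin_one]
  grobner

variable {K : Type*} [Field K] [Fintype K] {p : ℕ} [hp : Fact p.Prime]

/-- elements of the plane fixing a point have commutator of `p`-power one -/
theorem comm_pow_of_fix [CharP K p] {X Y : SL(2, K)} {x : OnePoint (AlgebraicClosure K)}
    (hX : KleinPSL.pi K X • x = x) (hY : KleinPSL.pi K Y • x = x) :
    (X * Y * X⁻¹ * Y⁻¹) ^ p = 1 := by
  set f := algebraMap K (AlgebraicClosure K)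
  set C : SL(2, K) := X * Y * X⁻¹ * Y⁻¹
  have hdet : f ((X : Matrix (Fin 2) (Fin 2) K) * Y - (Y : Matrix (Fin 2) (Fin 2) K) * X).det = 0 := by
    simp only [det_fin_two, Matrix.sub_apply, Matrix.mul_apply, Fin.sum_univ_two, map_sub, map_mul, map_add]
    cases x with
    | infty =>
      rw [DicksonAction.smul_infty_iff] at hX hY
      rw [hX, hY]
      simp only [map_zero]
      ring
    | coe z =>
      rw [DicksonAction.smul_coe_iff] at hX hY
      grobner
  have hC : (C : Matrix (Fin 2) (Fin 2) K).trace = 2 := by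
    have hd := (map_eq_zero f).1 hdet
    have hX := Matrix.SpecialLinearGroup.det_coe X
    have hY := Matrix.SpecialLinearGroup.det_coe Y
    rw [det_fin_two] at hX hY hd
    simp only [C, Matrix.SpecialLinearGroup.coe_mul, Matrix.SpecialLinearGroup.coe_inv, adjugate_fin_two,
      Matrix.trace_fin_two, Matrix.mul_apply, Matrix.sub_apply, Fin.sum_univ_two, Matrix.of_apply,
      Matrix.cons_val', Matrix.cons_val_zero, Matrix.cons_val_one, Matrix.head_cons, Matrix.empty_val',
      Matrix.cons_val_fin_one] at hd ⊢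
    grobner
  have h2 : ((C : Matrix (Fin 2) (Fin 2) K) - 1) ^ 2 = 0 := by
    rw [pow_two, sub_mul, mul_sub, one_mul, mul_one, ch, hC, show (2 : K) = 1 + 1 by norm_num, add_smul,
      one_smul]
    abel
  apply Subtype.ext
  haveI : CharP (Matrix (Fin 2) (Fin 2) K) p := Matrix.charP _
  rw [Matrix.SpecialLinearGroup.coe_pow, Matrix.SpecialLinearGroup.coe_one]
  have := sub_pow_char_of_commute (x := (C : Matrix (Fin 2) (Fin 2) K)) (y := 1) (p := p)
    (Commute.one_right _)
  rw [one_pow, pow_eq_zero_of_le hp.out.two_le h2] at this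
  exact sub_eq_zero.1 this.symm

variable [Fintype F] [CharP F p] (P : Subgroup SL(2, F)) (Φ : P ≃* SL(2, K)) (hK : Fintype.card K = p)

include Φ in
theorem phi_neg_one (h2 : (2 : F) ≠ 0) (h2K : (2 : K) ≠ 0) (hn : (-1 : SL(2, F)) ∈ P) :
    Φ ⟨-1, hn⟩ = -1 := by
  have hsq : Φ ⟨-1, hn⟩ * Φ ⟨-1, hn⟩ = 1 := by
    rw [← map_mul, show (⟨-1, hn⟩ : P) * ⟨-1, hn⟩ = 1 from Subtype.ext (by simp), map_one]
  rcases KleinClasses.sq_eq_one (h2 := h2K) hsq with h | h
  · exfalso
    have h1 : (-1 : SL(2, F)) = 1 := congrArg Subtype.val (Φ.injective (h.trans (map_one Φ).symm))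
    exact KleinPSL.ne_neg_self h2 1 h1.symm
  · exact h

/-- the projective image -/
def img (a : P) : Matrix.ProjectiveSpecialLinearGroup (Fin 2) K := KleinPSL.pi K (Φ a)

theorem img_mul (a b : P) : img P Φ (a * b) = img P Φ a * img P Φ b := by simp [img]

theorem img_eq_iff (h2 : (2 : F) ≠ 0) (h2K : (2 : K) ≠ 0) (hn : (-1 : SL(2, F)) ∈ P) {a b : P} :
    img P Φ a = img P Φ b ↔ (a : SL(2, F)) = b ∨ (a : SL(2, F)) = -b := by
  have hm : -Φ b = Φ (⟨-1, hn⟩ * b) := by rw [map_mul, phi_neg_one P Φ h2 h2K hn, neg_mul, one_mul]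
  rw [img, img, KleinPSL.pi_eq_iff, Φ.injective.eq_iff, hm, Φ.injective.eq_iff, Subtype.ext_iff, Subtype.ext_iff]
  simp

/-- the projective image of a subgroup -/
def imgSub (J : Subgroup P) : Subgroup (Matrix.ProjectiveSpecialLinearGroup (Fin 2) K) :=
  (J.map Φ.toMonoidHom).map (KleinPSL.pi K)

theorem img_mem {J : Subgroup P} {a : P} (ha : a ∈ J) : img P Φ a ∈ imgSub P Φ J :=
  ⟨Φ a, ⟨a, ha, rfl⟩, rfl⟩

theorem exists_pre {J : Subgroup P} {z} (hz : z ∈ imgSub P Φ J) : ∃ a ∈ J, img P Φ a = z := by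
  obtain ⟨_, ⟨a, ha, rfl⟩, rfl⟩ := hz
  exact ⟨a, ha, rfl⟩

include Φ in
theorem top_of_imgSub (h2 : (2 : F) ≠ 0) (h2K : (2 : K) ≠ 0) (hn : (-1 : SL(2, F)) ∈ P) {J : Subgroup P}
    (h : imgSub P Φ J = ⊤) : J = ⊤ := by
  have hneg : (⟨-1, hn⟩ : P) ∈ J := by
    let I : SL(2, K) := ⟨!![0, 1; -1, 0], by simp [Matrix.det_fin_two]⟩
    have hI : I * I = -1 := by
      apply Subtype.ext
      ext i j
      fin_cases i <;> fin_cases j <;> (rw [Matrix.SpecialLinearGroup.coe_mul]; simp [I, Matrix.mul_apply, Fin.sum_univ_two, Matrix.SpecialLinearGroup.coe_neg])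
    obtain ⟨a, ha, hai⟩ := exists_pre P Φ (h.symm ▸ Subgroup.mem_top (KleinPSL.pi K I) : KleinPSL.pi K I ∈ _)
    have hsq : Φ (a * a) = Φ ⟨-1, hn⟩ := by
      rw [phi_neg_one P Φ h2 h2K hn, map_mul]
      rcases KleinPSL.pi_eq_iff.1 hai with e | e <;> rw [e] <;> simp [hI]
    exact Φ.injective hsq ▸ mul_mem ha ha
  refine eq_top_iff.2 fun g _ => ?_
  obtain ⟨a, ha, hag⟩ := exists_pre P Φ (h.symm ▸ Subgroup.mem_top (img P Φ g) : img P Φ g ∈ _)
  rcases (img_eq_iff P Φ h2 h2K hn).1 hag with e | e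
  · exact (Subtype.ext e : a = g) ▸ ha
  · have e' : g = ⟨-1, hn⟩ * a := Subtype.ext (by simp [e])
    exact e' ▸ mul_mem hneg ha

/-- the shapes of the image, for a subgroup with an element of order three -/
theorem shapes (hK : Fintype.card K = p) (hp2 : p ≠ 2) (J : Subgroup P) :
    ((∀ a b : P, a ∈ J → b ∈ J → img P Φ a ^ 2 ≠ 1 → img P Φ b ^ 2 ≠ 1 →
        img P Φ a * img P Φ b = img P Φ b * img P Φ a) ∧
      ∀ a b : P, a ∈ J → b ∈ J → img P Φ a ^ 2 ≠ 1 → img P Φ b ^ 2 = 1 →
        img P Φ a * img P Φ b = img P Φ b * img P Φ a ∨ img P Φ b * img P Φ a * (img P Φ b)⁻¹ = (img P Φ a)⁻¹) ∨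
    (∀ a b : P, a ∈ J → b ∈ J → ((a : SL(2, F)) * b * (a : SL(2, F))⁻¹ * (b : SL(2, F))⁻¹) ^ p = 1) ∨
    Nonempty (imgSub P Φ J ≃* alternatingGroup (Fin 4)) ∨ Nonempty (imgSub P Φ J ≃* Equiv.Perm (Fin 4)) ∨
    Nonempty (imgSub P Φ J ≃* alternatingGroup (Fin 5)) ∨ imgSub P Φ J = ⊤ := by
  haveI : CharP K p := charP_of_card_eq_prime hK
  rcases DicksonList.classify p (imgSub P Φ J) with ⟨g, -, -, h⟩ | ⟨x, -, hfix⟩ | h | h | h |
    ⟨L, _, _, m, hm, h⟩
  · refine Or.inl ⟨fun a b ha hb hna hnb => ?_, fun a b ha hb hna hb2 => ?_⟩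
    · exact DicksonMax.comm_of_dihedral _ h (img_mem P Φ ha) (img_mem P Φ hb)
        (by rwa [← pow_two]) (by rwa [← pow_two])
    rcases h with ⟨hc, -⟩ | ⟨⟨e⟩⟩
    · haveI := hc
      exact Or.inl (congrArg Subtype.val (IsCyclic.commGroup.mul_comm
        (⟨_, img_mem P Φ ha⟩ : imgSub P Φ J) ⟨_, img_mem P Φ hb⟩))
    · set A : imgSub P Φ J := ⟨_, img_mem P Φ ha⟩
      set B : imgSub P Φ J := ⟨_, img_mem P Φ hb⟩
      have hb2' : e B * e B = 1 := by
        rw [← map_mul, show B * B = 1 from Subtype.ext (by simpa [pow_two] using hb2), map_one]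
      obtain ⟨i, hi⟩ : ∃ i, e A = DihedralGroup.r i := by
        cases hA : e A with
        | r i => exact ⟨i, rfl⟩
        | sr i =>
          refine absurd (congrArg Subtype.val (e.injective ?_ : A * A = 1)) (by rwa [← pow_two])
          rw [map_mul, hA, map_one, DihedralGroup.sr_mul_sr, sub_self, DihedralGroup.one_def]
      cases hB : e B with
      | r j =>
        exact Or.inl (congrArg Subtype.val (e.injective (show e (A * B) = e (B * A) by
          rw [map_mul, map_mul, hi, hB, DihedralGroup.r_mul_r, DihedralGroup.r_mul_r, add_comm])))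
      | sr j =>
        exact Or.inr (congrArg Subtype.val (e.injective (show e (B * A * B⁻¹) = e A⁻¹ by
          rw [map_mul, map_mul, map_inv, map_inv, hi, hB]
          simp [DihedralGroup.inv_r, DihedralGroup.inv_sr, DihedralGroup.sr_mul_r, DihedralGroup.sr_mul_sr])))
  · refine Or.inr (Or.inl fun a b ha hb => ?_)
    have e := comm_pow_of_fix (p := p) (hfix _ (img_mem P Φ ha)) (hfix _ (img_mem P Φ hb))
    have e2 : Φ ((a * b * a⁻¹ * b⁻¹) ^ p) = 1 := by simpa using e
    simpa using congrArg Subtype.val (Φ.injective (e2.trans (map_one Φ).symm))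
  · exact Or.inr (Or.inr (Or.inl h))
  · exact Or.inr (Or.inr (Or.inr (Or.inl h)))
  · exact Or.inr (Or.inr (Or.inr (Or.inr (Or.inl h))))
  · refine Or.inr (Or.inr (Or.inr (Or.inr (Or.inr ?_))))
    have hm1 : m = 1 := (Nat.Prime.pow_eq_iff (p := p) hp.out).1 (hm.trans hK) |>.2
    subst hm1
    rw [pow_one] at hm
    rcases h with ⟨⟨e⟩⟩ | ⟨⟨e⟩⟩
    · refine (Subgroup.card_eq_iff_eq_top _).1 ?_
      rw [Nat.card_congr e.toEquiv]
      have h1 := Classical.SmallIso.natCard_pslTwo L
      have h2 := Classical.SmallIso.natCard_pslTwo K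
      rw [Classical.GL2.natCard_SL_two, hm, ← Classical.GL2.natCard_SL_two (F := K), ← h2] at h1
      exact Nat.eq_of_mul_eq_mul_left (Nat.gcd_pos_of_pos_left _ (by norm_num)) h1
    · exfalso
      have h1 := Subgroup.card_le_card_group (imgSub P Φ J)
      rw [Nat.card_congr e.toEquiv, DicksonPGL.natCard_PP, hm, ← Classical.GL2.natCard_SL_two (F := K),
        ← Classical.SmallIso.natCard_pslTwo K, hK] at h1
      obtain ⟨k, hk⟩ := hp.out.odd_of_ne_two hp2
      rw [Nat.gcd_eq_left (show 2 ∣ p - 1 from ⟨k, by omega⟩)] at h1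
      have h0 : 0 < Nat.card (Matrix.ProjectiveSpecialLinearGroup (Fin 2) K) := Nat.card_pos
      omega

include Φ in
/-- two elements of trace minus one with product of trace one half generate the whole group -/
theorem eq_top_of_half (hK : Fintype.card K = p) (hp2 : p ≠ 2) (hp3 : p ≠ 3) (hn : (-1 : SL(2, F)) ∈ P)
    {J : Subgroup P} {a b : P} (ha : a ∈ J) (hb : b ∈ J)
    (hta : ((a : SL(2, F)) : Matrix (Fin 2) (Fin 2) F).trace = -1)
    (htb : ((b : SL(2, F)) : Matrix (Fin 2) (Fin 2) F).trace = -1)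
    (htab : 2 * ((a * b : SL(2, F)) : Matrix (Fin 2) (Fin 2) F).trace = 1) : J = ⊤ := by
  haveI : CharP K p := charP_of_card_eq_prime hK
  have hdiv : ∀ n : ℕ, (n : F) = 0 → p ∣ n := fun n h => (CharP.cast_eq_zero_iff F p n).1 h
  have h2 : (2 : F) ≠ 0 := fun h => hp2 ((Nat.prime_dvd_prime_iff_eq hp.out Nat.prime_two).1 (hdiv 2 (by exact_mod_cast h)))
  have h3 : (3 : F) ≠ 0 := fun h => hp3 ((Nat.prime_dvd_prime_iff_eq hp.out Nat.prime_three).1 (hdiv 3 (by exact_mod_cast h)))
  have h2K : (2 : K) ≠ 0 := fun h => hp2 ((Nat.prime_dvd_prime_iff_eq hp.out Nat.prime_two).1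
    ((CharP.cast_eq_zero_iff K p 2).1 (by exact_mod_cast h)))
  set τ := ((a * b : SL(2, F)) : Matrix (Fin 2) (Fin 2) F).trace
  have hns : ∀ c : F, ((a * b : SL(2, F)) : Matrix (Fin 2) (Fin 2) F) ≠ c • 1 := by
    intro c hc
    have e := scalar_trace hc
    have h4 : 4 * c = 1 := by linear_combination htab - 2 * e
    have hca : (b : SL(2, F)).1 = c • ((a : SL(2, F))⁻¹ : SL(2, F)).1 := by
      rw [show (b : SL(2, F)) = (a : SL(2, F))⁻¹ * (a * b) by group, Matrix.SpecialLinearGroup.coe_mul, hc,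
        Matrix.mul_smul, mul_one]
    have ht := congrArg Matrix.trace hca
    rw [Matrix.trace_smul, smul_eq_mul, Matrix.SpecialLinearGroup.coe_inv, adjugate_fin_two, htb] at ht
    rw [Matrix.trace_fin_two] at hta
    simp [Matrix.trace_fin_two] at ht
    exact h3 (by linear_combination h4 - 4 * ht - 4 * c * hta)
  have hne : ∀ z : P, ((z : SL(2, F)) : Matrix (Fin 2) (Fin 2) F).trace = -1 → img P Φ z ^ 2 ≠ 1 := by
    intro z hz h
    rw [← show img P Φ (z * z) = img P Φ z ^ 2 by rw [img_mul, pow_two],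
      ← show img P Φ 1 = 1 by simp [img], img_eq_iff P Φ h2 h2K hn] at h
    have h3z := cube_of_trace hz
    rw [pow_succ, pow_two] at h3z
    rcases h with e | e <;> simp only [Subgroup.coe_mul, Subgroup.coe_one] at e <;> rw [e] at h3z
    · simp only [one_mul] at h3z
      rw [h3z, Matrix.SpecialLinearGroup.coe_one] at hz
      simp at hz
      exact h3 (by linear_combination hz)
    · have : (z : SL(2, F)) = -1 := by rw [← neg_neg (z : SL(2, F))]; congr 1; simpa using h3z
      rw [this, Matrix.SpecialLinearGroup.coe_neg, Matrix.SpecialLinearGroup.coe_one] at hz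
      simp at hz
      exact one_ne_zero (by linear_combination hz : (1 : F) = 0)
  have hcs : ∀ c : F, c ^ 2 = 1 → 4 * c ≠ 0 := fun c hc h => by
    rw [mul_eq_zero] at h
    rcases h with h | h
    · exact h2 (mul_self_eq_zero.1 (by linear_combination h : (2 : F) * 2 = 0))
    · rw [h] at hc; simp at hc
  have hpi : ∀ {G : Type} [Group G] (e : imgSub P Φ J ≃* G),
      ∃ x y : G, x * x * x = 1 ∧ y * y * y = 1 ∧
        ∀ n : ℕ, (x * y) ^ n = 1 → (img P Φ (a * b)) ^ n = 1 := by
    intro G _ e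
    have hc : ∀ z : P, ((z : SL(2, F)) : Matrix (Fin 2) (Fin 2) F).trace = -1 →
        img P Φ z * img P Φ z * img P Φ z = 1 := fun z hz => by
      rw [← img_mul, ← img_mul, show z * z * z = 1 from Subtype.ext (by
        simpa [pow_succ, pow_two] using cube_of_trace hz)]
      simp [img]
    refine ⟨e ⟨_, img_mem P Φ ha⟩, e ⟨_, img_mem P Φ hb⟩, ?_, ?_, fun n hn' => ?_⟩
    · rw [← map_mul, ← map_mul, ← map_one e]
      exact congrArg e (Subtype.ext (hc a hta))
    · rw [← map_mul, ← map_mul, ← map_one e]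
      exact congrArg e (Subtype.ext (hc b htb))
    · rw [← map_mul, ← map_pow, ← map_one e] at hn'
      rw [img_mul]
      exact congrArg Subtype.val (e.injective hn')
  have hval : ∀ n : ℕ, img P Φ (a * b) ^ n = 1 →
      ∃ c : F, (((a * b : SL(2, F)) ^ n : SL(2, F)) : Matrix (Fin 2) (Fin 2) F) = c • 1 := by
    intro n h
    rw [show img P Φ (a * b) ^ n = img P Φ ((a * b) ^ n) by simp [img], show (1 : Matrix.ProjectiveSpecialLinearGroup (Fin 2) K) = img P Φ 1 by simp [img],
      img_eq_iff P Φ h2 h2K hn] at h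
    simp only [SubmonoidClass.coe_pow, Subgroup.coe_mul, Subgroup.coe_one] at h
    rcases h with e | e <;> rw [e]
    · exact ⟨1, by simp⟩
    · exact ⟨-1, coe_neg_one⟩
  have hτ0 : τ ≠ 0 := fun h => by rw [h] at htab; simp at htab
  have hτ1 : τ ^ 2 ≠ 1 := fun h => h3 (by linear_combination (-4 : F) * h + (2 * τ + 1) * htab)
  refine top_of_imgSub P Φ h2 h2K hn ?_
  rcases shapes P Φ hK hp2 J with ⟨h, -⟩ | h | h | h | h | h
  · exfalso
    have e := h a b ha hb (hne a hta) (hne b htb)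
    rw [← img_mul, ← img_mul, img_eq_iff P Φ h2 h2K hn] at e
    have hσ := trace_comm (a : SL(2, F)) b
    rw [hta, htb] at hσ
    simp only [Subgroup.coe_mul] at e
    rcases e with e | e
    · rw [show (a : SL(2, F)) * b * (a : SL(2, F))⁻¹ * (b : SL(2, F))⁻¹ = 1 by rw [e]; group] at hσ
      simp at hσ
      have h9 : (3 : F) * 3 = 0 := by linear_combination 4 * hσ + (2 * τ - 1) * htab
      exact h3 ((mul_self_eq_zero).1 h9)
    · have ht := congrArg (fun z : SL(2, F) => (z : Matrix (Fin 2) (Fin 2) F).trace) e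
      simp only [Matrix.SpecialLinearGroup.coe_neg, Matrix.SpecialLinearGroup.coe_mul, Matrix.trace_neg] at ht
      rw [Matrix.trace_mul_comm (b : SL(2, F)).1] at ht
      exact hτ0 ((mul_eq_zero.1 (by linear_combination ht : (2 : F) * τ = 0)).resolve_left h2)
  · exfalso
    have hcp := h a b ha hb
    have hσ := trace_comm (a : SL(2, F)) b
    rw [hta, htb] at hσ
    set C := ((a : SL(2, F)) * b * (a : SL(2, F))⁻¹ * (b : SL(2, F))⁻¹)
    haveI : CharP (Matrix (Fin 2) (Fin 2) F) p := Matrix.charP _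
    have hnil : ((C : Matrix (Fin 2) (Fin 2) F) - 1) ^ p = 0 := by
      rw [sub_pow_char_of_commute (p := p) (Commute.one_right _), one_pow,
        ← Matrix.SpecialLinearGroup.coe_pow, hcp, Matrix.SpecialLinearGroup.coe_one, sub_self]
    have hdet := congrArg Matrix.det hnil
    rw [Matrix.det_pow, Matrix.det_zero] at hdet
    have hd0 := eq_zero_of_pow_eq_zero hdet
    have hdC := Matrix.SpecialLinearGroup.det_coe C
    rw [Matrix.det_fin_two] at hd0 hdC
    rw [Matrix.trace_fin_two] at hσ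
    simp [Matrix.sub_apply] at hd0
    have h9 : (3 : F) * 3 = 0 := by linear_combination 4 * hd0 - 4 * hdC + 4 * hσ + (2 * τ - 1) * htab
    exact h3 ((mul_self_eq_zero).1 h9)
  · exfalso
    obtain ⟨e⟩ := h
    obtain ⟨x, y, hx, hy, hxy⟩ := hpi e
    have := sym4_pairs x y (by exact_mod_cast congrArg Subtype.val hx) (by exact_mod_cast congrArg Subtype.val hy)
    rcases this with h' | h'
    · obtain ⟨c, hc⟩ := hval 2 (hxy 2 (Subtype.ext (by simpa [pow_two] using h')))
      exact hτ0 (pow_two_case hns hc)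
    · obtain ⟨c, hc⟩ := hval 3 (hxy 3 (Subtype.ext (by simpa [pow_succ] using h')))
      exact hτ1 (pow_three_case hns hc)
  · exfalso
    obtain ⟨e⟩ := h
    obtain ⟨x, y, hx, hy, hxy⟩ := hpi e
    rcases sym4_pairs x y hx hy with h' | h'
    · obtain ⟨c, hc⟩ := hval 2 (hxy 2 (by rw [pow_two]; exact h'))
      exact hτ0 (pow_two_case hns hc)
    · obtain ⟨c, hc⟩ := hval 3 (hxy 3 (by rw [pow_succ, pow_two]; exact h'))
      exact hτ1 (pow_three_case hns hc)
  · obtain ⟨e⟩ := h
    obtain ⟨x, y, hx, hy, hxy⟩ := hpi e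
    rcases alt5_orders (x * y) with h' | h' | h'
    · obtain ⟨c, hc⟩ := hval 2 (hxy 2 h')
      exact absurd (pow_two_case hns hc) hτ0
    · obtain ⟨c, hc⟩ := hval 3 (hxy 3 h')
      exact absurd (pow_three_case hns hc) hτ1
    · obtain ⟨c, hc⟩ := hval 5 (hxy 5 h')
      have h5 := pow_five_case hns hc
      have h50 : (5 : F) = 0 := by
        linear_combination 16 * h5 - (8 * τ ^ 3 + 4 * τ ^ 2 - 22 * τ - 11) * htab
      have hp5 : p = 5 := (Nat.prime_dvd_prime_iff_eq hp.out (by norm_num)).1 (hdiv 5 (by exact_mod_cast h50))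
      refine (Subgroup.card_eq_iff_eq_top _).1 ?_
      have h60 := Classical.SmallIso.natCard_pslTwo K
      rw [Classical.GL2.natCard_SL_two, hK, hp5] at h60
      rw [Nat.card_congr e.toEquiv, Nat.card_eq_fintype_card,
        show Fintype.card (alternatingGroup (Fin 5)) = 60 by rfl]
      norm_num at h60
      omega
  · exact h

include Φ in
/-- an element of order three with a suitable element of order four: inverted, or a group of order
at most twenty-four -/
theorem inverted_or_small (hK : Fintype.card K = p) (hp2 : p ≠ 2) (hp3 : p ≠ 3) (hn : (-1 : SL(2, F)) ∈ P)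
    {J : Subgroup P} {a i : P} (ha : a ∈ J) (hi : i ∈ J) {w : P} (hw : w * a * w⁻¹ = a⁻¹)
    (hta : ((a : SL(2, F)) : Matrix (Fin 2) (Fin 2) F).trace = -1)
    (hti : ((i : SL(2, F)) : Matrix (Fin 2) (Fin 2) F).trace = 0)
    (htai : ((a * i : SL(2, F)) : Matrix (Fin 2) (Fin 2) F).trace = 1) :
    (∃ g ∈ J, g * a * g⁻¹ = a⁻¹) ∨
      ((∀ b ∈ J, ((b : SL(2, F)) : Matrix (Fin 2) (Fin 2) F).trace = 0 →
          ∃ l : P, (l = i ∨ l = a * i * a⁻¹ ∨ l = a⁻¹ * i * a) ∧ ((b : SL(2, F)) = l ∨ (b : SL(2, F)) = -l)) ∧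
        ∀ b ∈ J, ((b : SL(2, F)) : Matrix (Fin 2) (Fin 2) F).trace = -1 →
          ∃ l : P, (l = 1 ∨ l = i ∨ l = a * i * a⁻¹ ∨ l = a⁻¹ * i * a) ∧
            (l * a * l⁻¹ = b ∨ l * a * l⁻¹ = b⁻¹)) := by
  haveI : CharP K p := charP_of_card_eq_prime hK
  have hdiv : ∀ n : ℕ, (n : F) = 0 → p ∣ n := fun n h => (CharP.cast_eq_zero_iff F p n).1 h
  have h2 : (2 : F) ≠ 0 := fun h => hp2 ((Nat.prime_dvd_prime_iff_eq hp.out Nat.prime_two).1 (hdiv 2 (by exact_mod_cast h)))
  have h3 : (3 : F) ≠ 0 := fun h => hp3 ((Nat.prime_dvd_prime_iff_eq hp.out Nat.prime_three).1 (hdiv 3 (by exact_mod_cast h)))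
  have h2K : (2 : K) ≠ 0 := fun h => hp2 ((Nat.prime_dvd_prime_iff_eq hp.out Nat.prime_two).1
    ((CharP.cast_eq_zero_iff K p 2).1 (by exact_mod_cast h)))
  have hane : img P Φ a ^ 2 ≠ 1 := fun h => by
    rw [← show img P Φ (a * a) = img P Φ a ^ 2 by rw [img_mul, pow_two],
      ← show img P Φ 1 = 1 by simp [img], img_eq_iff P Φ h2 h2K hn] at h
    simp only [Subgroup.coe_mul, Subgroup.coe_one] at h
    have e := ch (a : SL(2, F))
    rw [hta, ← Matrix.SpecialLinearGroup.coe_mul] at e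
    rcases h with h | h <;> rw [h] at e <;>
      have e' := congrArg Matrix.trace e <;>
      simp [Matrix.trace_fin_two] at e' <;> rw [Matrix.trace_fin_two] at hta
    · exact h3 (by linear_combination e' - hta)
    · exact one_ne_zero (by linear_combination -(e' - hta) : (1 : F) = 0)
  have hi1 : img P Φ i ^ 2 = 1 := by
    rw [← show img P Φ (i * i) = img P Φ i ^ 2 by rw [img_mul, pow_two],
      ← show img P Φ 1 = 1 by simp [img], img_eq_iff P Φ h2 h2K hn]
    refine Or.inr (Subtype.ext ?_)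
    have e := ch (i : SL(2, F))
    rw [hti, zero_smul, zero_sub] at e
    rw [Subgroup.coe_mul, Matrix.SpecialLinearGroup.coe_mul, e, Subgroup.coe_one,
      Matrix.SpecialLinearGroup.coe_neg, Matrix.SpecialLinearGroup.coe_one]
  have hσ := trace_comm (a : SL(2, F)) i
  rw [hta, hti, htai] at hσ
  have tr_comm' : ∀ x y : SL(2, F), ((x * y * x⁻¹ : SL(2, F)) : Matrix (Fin 2) (Fin 2) F).trace =
      (y : Matrix (Fin 2) (Fin 2) F).trace := fun x y => by
    rw [Matrix.SpecialLinearGroup.coe_mul, Matrix.trace_mul_comm, ← Matrix.SpecialLinearGroup.coe_mul]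
    simp
  have tr_inv : ((a : SL(2, F))⁻¹ : SL(2, F)).1.trace = -1 := by
    rw [Matrix.SpecialLinearGroup.coe_inv, adjugate_fin_two, ← hta, Matrix.trace_fin_two, Matrix.trace_fin_two]
    simp [add_comm]
  have lift : ∀ g : P, g ∈ J → img P Φ g * img P Φ a * (img P Φ g)⁻¹ = (img P Φ a)⁻¹ →
      g * a * g⁻¹ = a⁻¹ := fun g hg h => by
    have h' : img P Φ (g * a * g⁻¹) = img P Φ a⁻¹ := by simpa [img] using h
    rcases (img_eq_iff P Φ h2 h2K hn).1 h' with e | e
    · exact Subtype.ext e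
    · exfalso
      have e' := congrArg (fun z : SL(2, F) => (z : Matrix (Fin 2) (Fin 2) F).trace) e
      simp only [Subgroup.coe_mul, Subgroup.coe_inv] at e'
      rw [tr_comm', hta, Matrix.SpecialLinearGroup.coe_neg, Matrix.trace_neg, tr_inv] at e'
      exact h2 (by linear_combination -e')
  have ha3 : img P Φ a * img P Φ a * img P Φ a = 1 := by
    rw [← img_mul, ← img_mul, show a * a * a = 1 from Subtype.ext (by
      simpa [pow_succ, pow_two] using cube_of_trace hta)]
    simp [img]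
  have real : ∀ {G : Type} [Group G] (e : imgSub P Φ J ≃* G),
      (∀ x : G, x * x * x = 1 → ∃ g, g * x * g⁻¹ = x⁻¹) → ∃ g ∈ J, g * a * g⁻¹ = a⁻¹ := by
    intro G _ e hreal
    obtain ⟨g, hg⟩ := hreal (e ⟨_, img_mem P Φ ha⟩) (by
      rw [← map_mul, ← map_mul, ← map_one e]; exact congrArg e (Subtype.ext ha3))
    obtain ⟨g', rfl⟩ := e.surjective g
    rw [← map_mul, ← map_inv, ← map_mul, ← map_inv] at hg
    obtain ⟨b, hb, hbg⟩ := exists_pre P Φ g'.2
    refine ⟨b, hb, lift b hb ?_⟩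
    rw [hbg]
    exact congrArg Subtype.val (e.injective hg)
  rcases shapes P Φ hK hp2 J with ⟨-, h⟩ | h | h | h | h | h
  · left
    rcases h a i ha hi hane hi1 with e | e
    · exfalso
      rw [← img_mul, ← img_mul, img_eq_iff P Φ h2 h2K hn] at e
      simp only [Subgroup.coe_mul] at e
      rcases e with e | e
      · rw [show (a : SL(2, F)) * i * (a : SL(2, F))⁻¹ * (i : SL(2, F))⁻¹ = 1 by rw [e]; group] at hσ
        simp [Matrix.trace_fin_two] at hσ
        exact h2 (by linear_combination hσ)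
      · have e' := congrArg (fun z : SL(2, F) => (z : Matrix (Fin 2) (Fin 2) F).trace) e
        simp only [Matrix.SpecialLinearGroup.coe_neg, Matrix.trace_neg] at e'
        rw [htai, Matrix.SpecialLinearGroup.coe_mul, Matrix.trace_mul_comm,
          ← Matrix.SpecialLinearGroup.coe_mul, htai] at e'
        exact h2 (by linear_combination e')
    · exact ⟨i, hi, lift i hi e⟩
  · exfalso
    have hcp := h a i ha hi
    set C := ((a : SL(2, F)) * i * (a : SL(2, F))⁻¹ * (i : SL(2, F))⁻¹)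
    haveI : CharP (Matrix (Fin 2) (Fin 2) F) p := Matrix.charP _
    have hnil : ((C : Matrix (Fin 2) (Fin 2) F) - 1) ^ p = 0 := by
      rw [sub_pow_char_of_commute (p := p) (Commute.one_right _), one_pow,
        ← Matrix.SpecialLinearGroup.coe_pow, hcp, Matrix.SpecialLinearGroup.coe_one, sub_self]
    have hdet := congrArg Matrix.det hnil
    rw [Matrix.det_pow, Matrix.det_zero] at hdet
    have hd0 := eq_zero_of_pow_eq_zero hdet
    have hdC := Matrix.SpecialLinearGroup.det_coe C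
    rw [Matrix.det_fin_two] at hd0 hdC
    rw [Matrix.trace_fin_two] at hσ
    simp [Matrix.sub_apply] at hd0
    exact h2 (by linear_combination hd0 - hdC + hσ)
  · right
    obtain ⟨e⟩ := h
    have hone : ∀ z : P, img P Φ z = 1 → (z : SL(2, F)).1.trace = 2 ∨ (z : SL(2, F)).1.trace = -2 := fun z hz => by
      rw [← show img P Φ 1 = 1 by simp [img], img_eq_iff P Φ h2 h2K hn] at hz
      rcases hz with hz | hz <;> rw [hz]
      · left; simp
      · right; simp [Matrix.SpecialLinearGroup.coe_neg]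
    have ne0 : ∀ z : P, (z : SL(2, F)).1.trace = 0 → img P Φ z ≠ 1 := fun z hz h => by
      rcases hone z h with h' | h' <;> rw [hz] at h'
      · exact h2 h'.symm
      · exact h2 (by linear_combination h')
    have ne1 : ∀ z : P, (z : SL(2, F)).1.trace = -1 → img P Φ z ≠ 1 := fun z hz h => by
      rcases hone z h with h' | h' <;> rw [hz] at h'
      · exact h3 (by linear_combination -h')
      · exact one_ne_zero (by linear_combination h' : (1 : F) = 0)
    have sq0 : ∀ z : P, (z : SL(2, F)).1.trace = 0 → img P Φ z * img P Φ z = 1 := fun z hz => by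
      rw [← img_mul, ← show img P Φ 1 = 1 by simp [img], img_eq_iff P Φ h2 h2K hn]
      refine Or.inr (Subtype.ext ?_)
      have e := ch (z : SL(2, F))
      rw [hz, zero_smul, zero_sub] at e
      rw [Subgroup.coe_mul, Matrix.SpecialLinearGroup.coe_mul, e, Subgroup.coe_one,
        Matrix.SpecialLinearGroup.coe_neg, Matrix.SpecialLinearGroup.coe_one]
    have cube1 : ∀ z : P, (z : SL(2, F)).1.trace = -1 → img P Φ z * img P Φ z * img P Φ z = 1 := fun z hz => by
      rw [← img_mul, ← img_mul, show z * z * z = 1 from Subtype.ext (by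
        simpa [pow_succ, pow_two] using cube_of_trace hz)]
      simp [img]
    set x : imgSub P Φ J := ⟨_, img_mem P Φ ha⟩ with hx
    set y : imgSub P Φ J := ⟨_, img_mem P Φ hi⟩ with hy
    have shp := fun z : imgSub P Φ J => alt4_shape (e x) (e y) (e z)
      (by rw [← map_mul, ← map_mul, ← map_one e]; exact congrArg e (Subtype.ext ha3))
      (fun h => ne1 a hta (by simpa [hx] using congrArg Subtype.val (e.injective (h.trans (map_one e).symm))))
      (by rw [← map_mul, ← map_one e]; exact congrArg e (Subtype.ext (sq0 i hti)))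
      (fun h => ne0 i hti (by simpa [hy] using congrArg Subtype.val (e.injective (h.trans (map_one e).symm))))
    refine ⟨fun b hb htb => ?_, fun b hb htb => ?_⟩
    · set z : imgSub P Φ J := ⟨_, img_mem P Φ hb⟩ with hz
      have h := (shp z).1 (by rw [← map_mul, ← map_one e]; exact congrArg e (Subtype.ext (sq0 b htb)))
        (fun h => ne0 b htb (by simpa [hz] using congrArg Subtype.val (e.injective (h.trans (map_one e).symm))))
      rcases h with h | h | h
      · exact ⟨i, Or.inl rfl, (img_eq_iff P Φ h2 h2K hn).1 (congrArg Subtype.val (e.injective h))⟩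
      · refine ⟨a * i * a⁻¹, Or.inr (Or.inl rfl), (img_eq_iff P Φ h2 h2K hn).1 ?_⟩
        rw [← map_inv, ← map_mul, ← map_mul] at h
        simpa [hx, hy, hz, img] using congrArg Subtype.val (e.injective h)
      · refine ⟨a⁻¹ * i * a, Or.inr (Or.inr rfl), (img_eq_iff P Φ h2 h2K hn).1 ?_⟩
        rw [← map_inv, ← map_mul, ← map_mul] at h
        simpa [hx, hy, hz, img] using congrArg Subtype.val (e.injective h)
    · set z : imgSub P Φ J := ⟨_, img_mem P Φ hb⟩ with hz
      obtain ⟨l, hl, hlz⟩ := (shp z).2 (by rw [← map_mul, ← map_mul, ← map_one e]; exact congrArg e (Subtype.ext (cube1 b htb)))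
        (fun h => ne1 b htb (by simpa [hz] using congrArg Subtype.val (e.injective (h.trans (map_one e).symm))))
      have up : ∀ (g c : P), (c : SL(2, F)).1.trace = -1 →
          img P Φ g * img P Φ a * (img P Φ g)⁻¹ = img P Φ c → g * a * g⁻¹ = c := fun g c hc h => by
        have h' : img P Φ (g * a * g⁻¹) = img P Φ c := by simpa [img] using h
        rcases (img_eq_iff P Φ h2 h2K hn).1 h' with e | e
        · exact Subtype.ext e
        · exfalso
          have e' := congrArg (fun z : SL(2, F) => (z : Matrix (Fin 2) (Fin 2) F).trace) e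
          simp only [Subgroup.coe_mul, Subgroup.coe_inv] at e'
          rw [tr_comm', hta, Matrix.SpecialLinearGroup.coe_neg, Matrix.trace_neg, hc] at e'
          exact h2 (by linear_combination -e')
      have htb' : ((b⁻¹ : P) : SL(2, F)).1.trace = -1 := by
        rw [Subgroup.coe_inv, Matrix.SpecialLinearGroup.coe_inv, adjugate_fin_two, ← htb, Matrix.trace_fin_two,
          Matrix.trace_fin_two]
        simp [add_comm]
      obtain ⟨g, hg, hgl⟩ : ∃ g : P, (g = 1 ∨ g = i ∨ g = a * i * a⁻¹ ∨ g = a⁻¹ * i * a) ∧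
          ∃ hg : g ∈ J, e ⟨_, img_mem P Φ hg⟩ = l := by
        rcases hl with rfl | rfl | rfl | rfl
        · exact ⟨1, Or.inl rfl, one_mem J, by
            rw [show (⟨_, img_mem P Φ (one_mem J)⟩ : imgSub P Φ J) = 1 from Subtype.ext (by simp [img]), map_one]⟩
        · exact ⟨i, Or.inr (Or.inl rfl), hi, rfl⟩
        · refine ⟨a * i * a⁻¹, Or.inr (Or.inr (Or.inl rfl)), mul_mem (mul_mem ha hi) (inv_mem ha), ?_⟩
          rw [← map_inv, ← map_mul, ← map_mul]
          exact congrArg e (Subtype.ext (by simp [hx, hy, img]))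
        · refine ⟨a⁻¹ * i * a, Or.inr (Or.inr (Or.inr rfl)), mul_mem (mul_mem (inv_mem ha) hi) ha, ?_⟩
          rw [← map_inv, ← map_mul, ← map_mul]
          exact congrArg e (Subtype.ext (by simp [hx, hy, img]))
      obtain ⟨hgJ, rfl⟩ := hgl
      refine ⟨g, hg, ?_⟩
      rcases hlz with h | h
      · left
        rw [← map_inv, ← map_mul, ← map_mul] at h
        exact up g b htb (by simpa [hx, hz] using congrArg Subtype.val (e.injective h))
      · right
        rw [← map_inv, ← map_mul, ← map_mul, ← map_inv] at h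
        refine up g b⁻¹ htb' ?_
        have h' := congrArg Subtype.val (e.injective h)
        simpa [hx, hz, img] using h'
  · left
    obtain ⟨e⟩ := h
    exact real e sym4_real
  · left
    obtain ⟨e⟩ := h
    exact real e alt5_real
  · exact Or.inl ⟨w, (top_of_imgSub P Φ h2 h2K hn h).symm ▸ Subgroup.mem_top w, hw⟩

include Φ in
/-- in a subgroup with image of odd order, elements of trace minus one have commutator of trace two -/
theorem trace_comm_of_odd (hK : Fintype.card K = p) (hp2 : p ≠ 2) (hn : (-1 : SL(2, F)) ∈ P)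
    {J : Subgroup P} (hodd : Odd (Nat.card (imgSub P Φ J))) {a b : P} (ha : a ∈ J) (hb : b ∈ J)
    (hta : ((a : SL(2, F)) : Matrix (Fin 2) (Fin 2) F).trace = -1) :
    ((((a : SL(2, F)) * b * (a : SL(2, F))⁻¹ * (b : SL(2, F))⁻¹) : SL(2, F)) :
      Matrix (Fin 2) (Fin 2) F).trace = 2 := by
  haveI : CharP K p := charP_of_card_eq_prime hK
  have hdiv : ∀ n : ℕ, (n : F) = 0 → p ∣ n := fun n h => (CharP.cast_eq_zero_iff F p n).1 h
  have h2 : (2 : F) ≠ 0 := fun h => hp2 ((Nat.prime_dvd_prime_iff_eq hp.out Nat.prime_two).1 (hdiv 2 (by exact_mod_cast h)))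
  have h2K : (2 : K) ≠ 0 := fun h => hp2 ((Nat.prime_dvd_prime_iff_eq hp.out Nat.prime_two).1
    ((CharP.cast_eq_zero_iff K p 2).1 (by exact_mod_cast h)))
  have sq : ∀ z : imgSub P Φ J, z * z = 1 → z = 1 := fun z hz => by
    by_contra hne
    have h := orderOf_eq_prime (p := 2) (by rw [pow_two]; exact hz) hne
    exact Nat.not_even_iff_odd.2 hodd (even_iff_two_dvd.2 (h.symm.dvd.trans (orderOf_dvd_natCard z)))
  rcases shapes P Φ hK hp2 J with ⟨h, -⟩ | h | h | h | h | h
  · have hc : img P Φ a * img P Φ b = img P Φ b * img P Φ a := by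
      by_cases hbb : img P Φ b * img P Φ b = 1
      · have := congrArg Subtype.val (sq ⟨_, img_mem P Φ hb⟩ (Subtype.ext hbb))
        simp only [OneMemClass.coe_one] at this
        rw [this, mul_one, one_mul]
      by_cases haa : img P Φ a * img P Φ a = 1
      · have := congrArg Subtype.val (sq ⟨_, img_mem P Φ ha⟩ (Subtype.ext haa))
        simp only [OneMemClass.coe_one] at this
        rw [this, mul_one, one_mul]
      exact h a b ha hb (by rwa [pow_two]) (by rwa [pow_two])
    rw [← img_mul, ← img_mul, img_eq_iff P Φ h2 h2K hn] at hc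
    simp only [Subgroup.coe_mul] at hc
    rcases hc with e | e
    · rw [show (a : SL(2, F)) * b * (a : SL(2, F))⁻¹ * (b : SL(2, F))⁻¹ = 1 by rw [e]; group]
      simp
    · exfalso
      have e1 := congrArg (fun z => z * (a : SL(2, F))⁻¹) e
      simp only [neg_mul, mul_inv_cancel_right] at e1
      have e' := congrArg (fun z : SL(2, F) => (z * (b : SL(2, F)) * (a : SL(2, F))⁻¹ * (b : SL(2, F))⁻¹).1) (rfl : (a : SL(2, F)) = a)
      have e2 : (b : SL(2, F)) * a * (b : SL(2, F))⁻¹ = -(a : SL(2, F)) := by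
        rw [show (b : SL(2, F)) * a = -((a : SL(2, F)) * b) by rw [e, neg_neg], neg_mul, mul_inv_cancel_right]
      have e3 := congrArg (fun z : SL(2, F) => (z : Matrix (Fin 2) (Fin 2) F).trace) e2
      simp only [Matrix.SpecialLinearGroup.coe_neg, Matrix.trace_neg, Matrix.SpecialLinearGroup.coe_mul] at e3
      rw [Matrix.trace_mul_comm, ← Matrix.mul_assoc, ← Matrix.SpecialLinearGroup.coe_mul, inv_mul_cancel,
        Matrix.SpecialLinearGroup.coe_one, one_mul, hta] at e3
      exact h2 (by linear_combination -e3)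
  · have hcp := h a b ha hb
    set C := ((a : SL(2, F)) * b * (a : SL(2, F))⁻¹ * (b : SL(2, F))⁻¹)
    haveI : CharP (Matrix (Fin 2) (Fin 2) F) p := Matrix.charP _
    have hnil : ((C : Matrix (Fin 2) (Fin 2) F) - 1) ^ p = 0 := by
      rw [sub_pow_char_of_commute (p := p) (Commute.one_right _), one_pow,
        ← Matrix.SpecialLinearGroup.coe_pow, hcp, Matrix.SpecialLinearGroup.coe_one, sub_self]
    have hdet := congrArg Matrix.det hnil
    rw [Matrix.det_pow, Matrix.det_zero] at hdet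
    have hd0 := eq_zero_of_pow_eq_zero hdet
    have hdC := Matrix.SpecialLinearGroup.det_coe C
    rw [Matrix.det_fin_two] at hd0 hdC
    rw [Matrix.trace_fin_two]
    simp [Matrix.sub_apply] at hd0
    linear_combination -hd0 + hdC
  · obtain ⟨e⟩ := h
    rw [Nat.card_congr e.toEquiv, Nat.card_eq_fintype_card] at hodd
    exact absurd hodd (by rw [show Fintype.card (alternatingGroup (Fin 4)) = 12 from rfl]; decide)
  · obtain ⟨e⟩ := h
    rw [Nat.card_congr e.toEquiv, Nat.card_eq_fintype_card] at hodd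
    exact absurd hodd (by rw [Fintype.card_perm]; decide)
  · obtain ⟨e⟩ := h
    rw [Nat.card_congr e.toEquiv, Nat.card_eq_fintype_card] at hodd
    exact absurd hodd (by rw [show Fintype.card (alternatingGroup (Fin 5)) = 60 from rfl]; decide)
  · exfalso
    let I : SL(2, K) := ⟨!![0, 1; -1, 0], by simp [Matrix.det_fin_two]⟩
    have hI : KleinPSL.pi K I * KleinPSL.pi K I = 1 := by
      rw [← map_mul]
      refine KleinPSL.pi_eq_one.2 (Or.inr (Subtype.ext ?_))
      rw [Matrix.SpecialLinearGroup.coe_mul]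
      ext i j
      fin_cases i <;> fin_cases j <;> simp [I, Matrix.mul_apply, Fin.sum_univ_two, Matrix.SpecialLinearGroup.coe_neg]
    have hmem : KleinPSL.pi K I ∈ imgSub P Φ J := h ▸ Subgroup.mem_top _
    have := congrArg Subtype.val (sq ⟨_, hmem⟩ (Subtype.ext hI))
    rcases KleinPSL.pi_eq_one.1 this with e | e <;>
      simpa [I, Matrix.SpecialLinearGroup.coe_neg] using congrFun (congrFun (congrArg Subtype.val e) 0) 1

include Φ in
/-- a subgroup containing every commutator is everything -/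
theorem eq_top_of_commutators (hK : Fintype.card K = p) (hp2 : p ≠ 2) (hp3 : p ≠ 3) (hn : (-1 : SL(2, F)) ∈ P)
    {J : Subgroup P} (hJ : ∀ a b : P, a * b * a⁻¹ * b⁻¹ ∈ J) : J = ⊤ := by
  haveI : CharP K p := charP_of_card_eq_prime hK
  have hdiv : ∀ n : ℕ, (n : F) = 0 → p ∣ n := fun n h => (CharP.cast_eq_zero_iff F p n).1 h
  have h2 : (2 : F) ≠ 0 := fun h => hp2 ((Nat.prime_dvd_prime_iff_eq hp.out Nat.prime_two).1 (hdiv 2 (by exact_mod_cast h)))
  have h2K : (2 : K) ≠ 0 := fun h => hp2 ((Nat.prime_dvd_prime_iff_eq hp.out Nat.prime_two).1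
    ((CharP.cast_eq_zero_iff K p 2).1 (by exact_mod_cast h)))
  have h4 : 4 ≤ Fintype.card K := by
    rcases (show p = 2 ∨ p = 3 ∨ p = 4 ∨ 4 ≤ p by have := hp.out.two_le; omega) with h | h | h | h <;> omega
  haveI : IsSimpleGroup (Matrix.ProjectiveSpecialLinearGroup (Fin 2) K) :=
    Classical.Linear.isSimpleGroup_PSL_fin (by norm_num) fun _ => h4
  haveI hn' : (imgSub P Φ J).Normal := ⟨fun z hz g => by
    obtain ⟨b, hb, rfl⟩ := exists_pre P Φ hz
    obtain ⟨G', rfl⟩ := KleinPSL.pi_surjective g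
    have := img_mem P Φ (mul_mem (hJ (Φ.symm G') b) hb)
    simpa [img, mul_assoc] using this⟩
  refine top_of_imgSub P Φ h2 h2K hn (hn'.eq_bot_or_eq_top.resolve_left fun hbot => ?_)
  obtain ⟨u, v, -, -, hne⟩ := DicksonMax.psl_not_comm K p
  obtain ⟨U, rfl⟩ := KleinPSL.pi_surjective u
  obtain ⟨V, rfl⟩ := KleinPSL.pi_surjective v
  apply hne
  have := Subgroup.mem_bot.1 (hbot ▸ img_mem P Φ (hJ (Φ.symm U) (Φ.symm V)))
  rw [show img P Φ (Φ.symm U * Φ.symm V * (Φ.symm U)⁻¹ * (Φ.symm V)⁻¹) =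
    KleinPSL.pi K U * KleinPSL.pi K V * (KleinPSL.pi K U)⁻¹ * (KleinPSL.pi K V)⁻¹ by simp [img]] at this
  rwa [mul_inv_eq_one, mul_inv_eq_iff_eq_mul] at this

end Cfsg.Agent.Forms.Max.SympNine.Plane
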