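import Cfsg.Agent.Lib.Forms.Max.SympNine.Weyl

/-!
# Transvections generate the symplectic group, and their realisation by matrices
-/

set_option autoImplicit false
set_option linter.unusedSectionVars false

namespace Cfsg.Agent.Forms.Max.SympNine

open Matrix Dot

variable {X : Type} [AddCommGroup X] [Fintype X] [DecidableEq X] [Dot X] [Exp3 X]

theorem sc_val (c : ZMod 3) (v : X × X) : sc c v = c.val • v := by
  rcases zmod_three c with rfl | rfl | rfl
  · simp
  · simp [show ZMod.val (1 : ZMod 3) = 1 from rfl]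
  · simp [show ZMod.val (-1 : ZMod 3) = 2 from rfl, two_nsmul, two_nsmul_eq]

theorem sc_add_left (a b : ZMod 3) (v : X × X) : sc (a + b) v = sc a v + sc b v := by
  have h := two_nsmul_eq v
  have h' := two_nsmul_eq (-v)
  rw [neg_neg] at h'
  rcases zmod_three a with rfl | rfl | rfl <;> rcases zmod_three b with rfl | rfl | rfl <;>
    simp [show (1 : ZMod 3) + 1 = -1 by decide, show (-1 : ZMod 3) + -1 = 1 by decide, h, h']

theorem sc_add_right (a : ZMod 3) (v w : X × X) : sc a (v + w) = sc a v + sc a w := by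
  rcases zmod_three a with rfl | rfl | rfl <;> simp [add_comm]

theorem sc_mul (a b : ZMod 3) (v : X × X) : sc (a * b) v = sc a (sc b v) := by
  rcases zmod_three a with rfl | rfl | rfl <;> rcases zmod_three b with rfl | rfl | rfl <;> simp

theorem sf_sc_left (c : ZMod 3) (v w : X × X) : sf (sc c v) w = c * sf v w := by
  rw [sf_swap w, sf_sc_right, sf_swap v w]; ring

/-- a transvection with either parameter -/
def tvc (c : ZMod 3) (v w : X × X) : X × X := w + sc (c * sf v w) v

theorem tvc_one (v : X × X) : tvc 1 v = tv v := by funext w; simp [tvc, tv]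

theorem tvc_neg_one (v : X × X) : tvc (-1) v = tv v ∘ tv v := by
  funext w
  simp only [tvc, tv, Function.comp_apply, sf_add_right, sf_sc_right, sf_self, mul_zero, add_zero,
    add_assoc, ← sc_add_left]
  congr 2
  rcases zmod_three (sf v w) with h | h | h <;> rw [h] <;> decide

theorem tvc_symp (c : ZMod 3) (v a b : X × X) : sf (tvc c v a) (tvc c v b) = sf a b := by
  simp only [tvc, sf_add_left, sf_add_right, sf_sc_left, sf_sc_right, sf_self]
  rw [sf_swap v a]; ring

theorem tvc_add (c : ZMod 3) (v a b : X × X) : tvc c v (a + b) = tvc c v a + tvc c v b := by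
  simp only [tvc, sf_add_right, mul_add, sc_add_left]; abel

/-- a map of labels in the monoid generated by the transvections -/
inductive Gen : (X × X → X × X) → Prop
  | one : Gen id
  | step (v : X × X) {σ : X × X → X × X} : Gen σ → Gen (tv v ∘ σ)

theorem Gen.comp {σ τ : X × X → X × X} (hσ : Gen σ) (hτ : Gen τ) : Gen (σ ∘ τ) := by
  induction hσ with
  | one => exact hτ
  | step v _ ih => exact ih.step v

theorem gen_tvc (c : ZMod 3) (v : X × X) : Gen (tvc c v) := by
  rcases zmod_three c with rfl | rfl | rfl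
  · have : tvc 0 v = id := by funext w; simp [tvc]
    rw [this]; exact Gen.one
  · rw [tvc_one]; exact Gen.one.step v
  · rw [tvc_neg_one]; exact (Gen.one.step v).step v

/-- an additive map keeping the alternating form -/
structure Sym (σ : X × X → X × X) : Prop where
  add : ∀ a b, σ (a + b) = σ a + σ b
  form : ∀ a b, sf (σ a) (σ b) = sf a b

theorem Sym.comp {σ τ : X × X → X × X} (hσ : Sym σ) (hτ : Sym τ) : Sym (σ ∘ τ) :=
  ⟨fun a b => by simp [hτ.add, hσ.add], fun a b => by simp [hσ.form, hτ.form]⟩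

theorem sym_tvc (c : ZMod 3) (v : X × X) : Sym (tvc c v) := ⟨tvc_add c v, tvc_symp c v⟩

theorem Gen.sym {σ : X × X → X × X} (h : Gen σ) : Sym σ := by
  induction h with
  | one => exact ⟨fun a b => rfl, fun a b => rfl⟩
  | step v _ ih => exact (tvc_one v ▸ sym_tvc 1 v).comp ih

theorem Sym.injective {σ : X × X → X × X} (hσ : Sym σ) : Function.Injective σ := fun a b h => by
  by_contra hne
  obtain ⟨w, hw⟩ := sf_sep (sub_ne_zero.2 hne)
  apply hw
  have e := hσ.add (a - b) b
  rw [sub_add_cancel, h, right_eq_add] at e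
  rw [← hσ.form, e, sf_zero_left]

theorem Sym.surjective {σ : X × X → X × X} (hσ : Sym σ) : Function.Surjective σ :=
  Finite.surjective_of_injective hσ.injective

theorem exists_both {f g : X × X} (hf : f ≠ 0) (hg : g ≠ 0) (σ : X × X → X × X) (hσ : Sym σ) :
    ∃ w, sf f (σ w) ≠ 0 ∧ sf g (σ w) ≠ 0 := by
  obtain ⟨a, ha⟩ := sf_sep hf
  obtain ⟨b, hb⟩ := sf_sep hg
  obtain ⟨a, rfl⟩ := hσ.surjective a
  obtain ⟨b, rfl⟩ := hσ.surjective b
  by_cases h1 : sf g (σ a) = 0
  · by_cases h2 : sf f (σ b) = 0
    · exact ⟨a + b, by rw [hσ.add, sf_add_right, h2, add_zero]; exact ha,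
        by rw [hσ.add, sf_add_right, h1, zero_add]; exact hb⟩
    · exact ⟨b, h2, hb⟩
  · exact ⟨a, ha, h1⟩

theorem fix_tvc {σ : X × X → X × X} (hσ : Sym σ) (c : ZMod 3) {d : X × X}
    (hd : ∀ s, σ s = s → sf d s = 0) {s : X × X} (hs : σ s = s) : tvc c d (σ s) = s := by
  rw [hs, tvc, hd s hs, mul_zero, sc_zero, add_zero]

/-- **Transvections generate the symplectic group.** -/
theorem gen_of_sym {σ : X × X → X × X} (hσ : Sym σ) : Gen σ := by
  classical
  induction hn : (Finset.univ.filter fun v => σ v ≠ v).card using Nat.strong_induction_on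
    generalizing σ with
  | _ n ih =>
    subst hn
    by_cases hall : ∀ v, σ v = v
    · rw [show σ = id from funext hall]; exact Gen.one
    push Not at hall
    obtain ⟨f, hf⟩ := hall
    obtain ⟨τ, τi, hτ, hτi, hfix, hτf, hinv⟩ : ∃ τ τi : X × X → X × X, Gen τ ∧ Gen τi ∧
        (∀ s, σ s = s → τ (σ s) = s) ∧ τ (σ f) = f ∧ ∀ x, τi (τ x) = x := by
      have inv : ∀ (c : ZMod 3) (d x : X × X), tvc (-c) d (tvc c d x) = x := fun c d x => by
        simp only [tvc, sf_add_right, sf_sc_right, sf_self, mul_zero, add_zero, add_assoc, ← sc_add_left]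
        rw [show c * sf d x + -c * sf d x = 0 by ring, sc_zero, add_zero]
      have perp : ∀ (g s : X × X), σ s = s → sf (σ g - g) s = 0 := fun g s hs => by
        rw [sub_eq_add_neg, sf_add_left, sf_neg_left]
        nth_rewrite 1 [← hs]
        rw [hσ.form, add_neg_cancel]
      have one : ∀ {ρ : X × X → X × X}, Sym ρ → ∀ g : X × X, sf g (ρ g) ≠ 0 →
          (∀ s, σ s = s → ρ s = s) →
          ∃ τ τi : X × X → X × X, Gen τ ∧ Gen τi ∧ (∀ s, σ s = s → τ (ρ s) = s) ∧ τ (ρ g) = g ∧
            ∀ x, τi (τ x) = x := by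
        intro ρ hρ g hg hS
        refine ⟨tvc (sf g (ρ g)) (g - ρ g), _, gen_tvc _ _, gen_tvc (-(sf g (ρ g))) (g - ρ g),
          fun s hs => ?_, ?_, inv _ _⟩
        · refine fix_tvc hρ _ (fun u hu => ?_) (hS s hs)
          rw [sub_eq_add_neg, sf_add_left, sf_neg_left]
          nth_rewrite 2 [← hu]
          rw [hρ.form, add_neg_cancel]
        · have e : sf (g - ρ g) (ρ g) = sf g (ρ g) := by
            simp [sub_eq_add_neg, sf_add_left]
          rw [tvc, e, show sf g (ρ g) * sf g (ρ g) = 1 from ?_, sc_one]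
          · abel
          · rcases zmod_three (sf g (ρ g)) with h | h | h
            · exact absurd h hg
            · simp [h]
            · simp [h]
      by_cases hk : sf f (σ f) ≠ 0
      · exact one hσ f hk fun s hs => hs
      push Not at hk
      obtain ⟨g, hg1, hg2⟩ := exists_both (f := σ f - f) (g := σ f - f) (sub_ne_zero.2 hf)
        (sub_ne_zero.2 hf) σ hσ
      have hd1 : sf f (σ g - g) = -sf (σ f - f) (σ g) := by
        simp [sub_eq_add_neg, sf_add_left, sf_add_right, hσ.form]
      obtain ⟨h, -, hh⟩ := exists_both (f := σ f - f) (g := σ f - f) (sub_ne_zero.2 hf)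
        (sub_ne_zero.2 hf) id ⟨fun _ _ => rfl, fun _ _ => rfl⟩
      have hd2 : sf (σ f) (σ h - h) = -sf (σ f - f) h := by
        simp [sub_eq_add_neg, sf_add_left, sf_add_right, hσ.form]
      obtain ⟨d, hdp, hdf, hdσ⟩ : ∃ d, (∀ s, σ s = s → sf d s = 0) ∧ sf f d ≠ 0 ∧ sf (σ f) d ≠ 0 := by
        have ha : sf f (σ g - g) ≠ 0 := by rw [hd1]; simpa using hg1
        have hb : sf (σ f) (σ h - h) ≠ 0 := by rw [hd2]; simpa using hh
        by_cases h1 : sf (σ f) (σ g - g) = 0
        · by_cases h2 : sf f (σ h - h) = 0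
          · refine ⟨(σ g - g) + (σ h - h), fun s hs => by rw [sf_add_left, perp g s hs, perp h s hs, add_zero],
              ?_, ?_⟩
            · rw [sf_add_right, h2, add_zero]; exact ha
            · rw [sf_add_right, h1, zero_add]; exact hb
          · exact ⟨σ h - h, perp h, h2, hb⟩
        · exact ⟨σ g - g, perp g, ha, h1⟩
      have hρ : Sym (tvc 1 d ∘ σ) := (sym_tvc 1 d).comp hσ
      obtain ⟨τ, τi, h1, h1', h2, h3, h4⟩ := one hρ f (by
          simp only [Function.comp_apply, tvc, sf_add_right, hk, zero_add, sf_sc_right, one_mul]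
          refine mul_ne_zero ?_ hdf
          rw [sf_swap]; simpa using hdσ)
        fun s hs => fix_tvc hσ 1 hdp hs
      exact ⟨τ ∘ tvc 1 d, tvc (-1) d ∘ τi, h1.comp (gen_tvc 1 d), (gen_tvc (-1) d).comp h1',
        h2, h3, fun x => by simp [Function.comp_apply, h4, inv]⟩
    have hlt : (Finset.univ.filter fun v => (τ ∘ σ) v ≠ v).card <
        (Finset.univ.filter fun v => σ v ≠ v).card := by
      refine Finset.card_lt_card ⟨fun v hv => ?_, fun hsub => ?_⟩
      · simp only [Finset.mem_filter, Finset.mem_univ, true_and, Function.comp_apply] at hv ⊢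
        exact fun e => hv (hfix v e)
      · have := hsub (show f ∈ Finset.univ.filter fun v => σ v ≠ v by simp [hf])
        simp only [Finset.mem_filter, Finset.mem_univ, true_and, Function.comp_apply] at this
        exact this hτf
    have hg := ih _ hlt (hτ.sym.comp hσ) rfl
    have : σ = τi ∘ (τ ∘ σ) := funext fun v => (hinv (σ v)).symm
    rw [this]
    exact Gen.comp hτi hg

theorem exists_sym_map {v w : X × X} (hv : v ≠ 0) (hw : w ≠ 0) :
    ∃ σ : X × X → X × X, Gen σ ∧ σ v = w := by
  have one : ∀ a b : X × X, sf a b ≠ 0 → ∃ σ : X × X → X × X, Gen σ ∧ σ a = b := by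
    intro a b h
    refine ⟨tvc (sf b a) (b - a), gen_tvc _ _, ?_⟩
    have e : sf (b - a) a = sf b a := by simp [sub_eq_add_neg, sf_add_left]
    rw [tvc, e, show sf b a * sf b a = 1 from ?_, sc_one]
    · abel
    · rcases zmod_three (sf b a) with h' | h' | h'
      · rw [sf_swap a b, neg_eq_zero] at h'; exact absurd h' h
      · simp [h']
      · simp [h']
  obtain ⟨z, h1, h2⟩ := exists_both hv hw id ⟨fun _ _ => rfl, fun _ _ => rfl⟩
  obtain ⟨σ, hσ, e⟩ := one v z h1
  obtain ⟨τ, hτ, e'⟩ := one z w (by rw [sf_swap]; simpa using h2)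
  exact ⟨τ ∘ σ, hτ.comp hσ, by simp [e, e']⟩

variable {F : Type*} [Field F] {ω : F}

theorem exists_real (hc : Cube F ω) {σ : X × X → X × X} (hσ : Gen σ) {S : Subgroup (GL X F)}
    (hS : ∀ v, tu hc v ∈ S) : ∃ g ∈ S, Acts ω (g : Matrix X X F) σ := by
  induction hσ with
  | one => exact ⟨1, one_mem S, by rw [Units.val_one]; exact acts_one⟩
  | step v _ ih =>
    obtain ⟨g, hg, ha⟩ := ih
    exact ⟨tu hc v * g, mul_mem (hS v) hg, by
      rw [Units.val_mul, tu_val]; exact (tm_wm hc v).mul ha⟩

theorem tm_conj {g : Matrix X X F} {σ : X × X → X × X} (hg : Acts ω g σ) (hσ : Sym σ) (v : X × X) :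
    g * tm ω ω v = tm ω ω (σ v) * g := by
  have hneg : σ (-v) = -σ v := by
    have h0 : σ 0 = 0 := by have := hσ.add 0 0; rw [add_zero, left_eq_add] at this; exact this
    exact eq_neg_of_add_eq_zero_left (by rw [← hσ.add, neg_add_cancel, h0])
  simp only [tm, mul_add, add_mul, Matrix.mul_smul, Matrix.smul_mul, one_mul, mul_one, hg v, hg (-v), hneg]

theorem det_tu_const (hc : Cube F ω) {v w : X × X} (hv : v ≠ 0) (hw : w ≠ 0) :
    (tm ω ω v).det = (tm ω ω w).det := by
  obtain ⟨σ, hσ, rfl⟩ := exists_sym_map hv hw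
  obtain ⟨g, -, hg⟩ := exists_real hc hσ (S := (⊤ : Subgroup (GL X F))) fun _ => trivial
  have h := congrArg Matrix.det (tm_conj hg hσ.sym v)
  rw [Matrix.det_mul, Matrix.det_mul, mul_comm] at h
  exact mul_right_cancel₀ (Matrix.GeneralLinearGroup.det g).ne_zero h

theorem tm_diag (hc : Cube F ω) (b : X) : tm ω ω ((0, b) : X × X) =
    Matrix.diagonal fun x => if dot b x = 0 then 1 else ω := by
  have h3 := hc.three
  ext y x
  by_cases hyx : y = x
  · subst hyx
    simp only [tm, wm, Matrix.add_apply, Matrix.smul_apply, Matrix.one_apply_eq, Matrix.of_apply,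
      Matrix.diagonal_apply_eq, add_zero, if_true, Prod.neg_mk, neg_zero, zero_dot, mul_zero, neg_dot,
      smul_eq_mul, mul_one]
    rcases zmod_three (dot b y) with h | h | h <;> rw [h]
    · simp; field_simp; ring
    · simp only [show (1 : ZMod 3) ≠ 0 by decide, if_false, show ZMod.val (1 : ZMod 3) = 1 from rfl,
        show ZMod.val (-1 : ZMod 3) = 2 from rfl, pow_one]
      field_simp
      linear_combination (1 - ω) * hc.sum
    · simp only [show (-1 : ZMod 3) ≠ 0 by decide, if_false, neg_neg, show ZMod.val (1 : ZMod 3) = 1 from rfl,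
        show ZMod.val (-1 : ZMod 3) = 2 from rfl, pow_one]
      field_simp
      linear_combination (1 - ω) * hc.sum
  · simp [tm, wm, hyx]

end Cfsg.Agent.Forms.Max.SympNine
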