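import Cfsg.Agent.Lib.Forms.Max.SympNine.StdConj
import Cfsg.Agent.Lib.Classical.UnitaryConj
import Cfsg.Agent.Lib.Classical.UnitaryCount
import Cfsg.Prelude.Def_GeometricClasses

/-!
# Normalisers of groups of symplectic type of degree nine are maximal, given the isolation of rich subgroups

The general argument is carried out for an ambient group `A`; it is applied to the special linear group over a
prime field and to the special unitary group over the quadratic extension of a prime field.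
-/

set_option autoImplicit false
set_option linter.unusedSectionVars false
set_option linter.style.haveILetI false

namespace Cfsg.Agent.Forms.Max.SympNine.Std

open Matrix Cfsg.Agent.Forms.Max.SympNine

variable {F : Type*} [Field F] [Fintype F]

/-- a cube root of unity -/
theorem exists_cube (h : 3 ∣ Fintype.card F - 1) : ∃ ω : F, Cube F ω := by
  classical
  haveI : Fact (Nat.Prime 3) := ⟨Nat.prime_three⟩
  rw [← Fintype.card_units] at h
  obtain ⟨u, hu⟩ := exists_prime_orderOf_dvd_card 3 h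
  have h1 : (u : F) ≠ 1 := fun h1 => by simp [Units.val_eq_one.1 h1] at hu
  have h3 : (u : F) ^ 3 = 1 := by
    rw [← Units.val_pow_eq_pow_val, ← hu, pow_orderOf_eq_one, Units.val_one]
  have hsum : (u : F) ^ 2 + u + 1 = 0 := by
    refine (mul_eq_zero.1 (show ((u : F) - 1) * ((u : F) ^ 2 + u + 1) = 0 by linear_combination h3)).resolve_left ?_
    exact sub_ne_zero.2 h1
  refine ⟨u, hsum, fun h0 => h1 ?_⟩
  have e : ((u : F) - 1) ^ 3 = 0 := by linear_combination h3 + ((u : F) - (u : F) ^ 2) * h0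
  exact sub_eq_zero.1 (pow_eq_zero_iff (by norm_num) |>.1 e)

/-- the labels are moved into the first nine indices -/
noncomputable def rho : GL (ZMod 3 × ZMod 3) F ≃* GL (Fin 9) F :=
  Units.mapEquiv (Matrix.reindexAlgEquiv F F e9).toMulEquiv

theorem rho_val (g : GL (ZMod 3 × ZMod 3) F) :
    ((rho g : GL (Fin 9) F) : Matrix (Fin 9) (Fin 9) F) =
      (g : Matrix (ZMod 3 × ZMod 3) (ZMod 3 × ZMod 3) F).submatrix e9.symm e9.symm := rfl

/-- the change of coordinates attached to a matrix -/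
noncomputable def coord (P : GL (Fin 9) F) : GL (ZMod 3 × ZMod 3) F ≃* GL (Fin 9) F := rho.trans (MulAut.conj P)

theorem coord_apply (P : GL (Fin 9) F) (g : GL (ZMod 3 × ZMod 3) F) : coord P g = P * rho g * P⁻¹ := rfl

theorem det_coord (P : GL (Fin 9) F) (g : GL (ZMod 3 × ZMod 3) F) :
    coord P g ∈ Cfsg.Geo.specialLinear (Fin 9) F ↔
      (g : Matrix (ZMod 3 × ZMod 3) (ZMod 3 × ZMod 3) F).det = 1 := by
  rw [Cfsg.Geo.specialLinear, MonoidHom.mem_ker, Units.ext_iff, Matrix.GeneralLinearGroup.val_det_apply,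
    coord_apply, Units.val_mul, Units.val_mul, Matrix.det_units_conj, rho_val, Matrix.det_submatrix_equiv_self,
    Units.val_one]

theorem exists_coord {ω : F} (hc : Cube F ω) {R : Subgroup (GL (Fin 9) F)}
    (hRs : Cfsg.Geo.IsSymplecticTypeGroup 3 R)
    (hRi : Cfsg.Geo.ActsAbsolutelyIrreducibly (Cfsg.Geo.matrixSet R)) (hRZ : Nat.card (Subgroup.center R) = 3) :
    ∃ P : GL (Fin 9) F, R = (S0 hc).map (coord P).toMonoidHom :=
  (facts hc hRs hRi hRZ).exists_conj hc

/-- a permutation of the labels that is not affine -/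
def cyc : Equiv.Perm (ZMod 3 × ZMod 3) := Equiv.swap (0, 0) (1, 0) * Equiv.swap (1, 0) (0, 1)

/-- its matrix -/
noncomputable def cycU : GL (ZMod 3 × ZMod 3) F :=
  ⟨cyc.permMatrix F, cyc⁻¹.permMatrix F,
    by rw [← Matrix.permMatrix_mul, inv_mul_cancel, Matrix.permMatrix_one],
    by rw [← Matrix.permMatrix_mul, mul_inv_cancel, Matrix.permMatrix_one]⟩

theorem det_cycU : ((cycU : GL (ZMod 3 × ZMod 3) F) : Matrix (ZMod 3 × ZMod 3) (ZMod 3 × ZMod 3) F).det = 1 := by
  show (cyc.permMatrix F).det = 1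
  rw [Matrix.det_permutation, show Equiv.Perm.sign cyc = 1 by decide]
  simp

theorem cycU_mem (A : Amb F) : (cycU : GL (ZMod 3 × ZMod 3) F) ∈ A.Isom (ZMod 3 × ZMod 3) := fun _ => by
  show ((cyc.permMatrix F).map A.bar)ᵀ * cyc.permMatrix F = 1
  have e : (cyc.permMatrix F).map A.bar = cyc.permMatrix F := by
    ext i j
    simp only [Matrix.map_apply, Equiv.Perm.permMatrix, PEquiv.toMatrix_apply]
    split_ifs <;> simp
  rw [e, Matrix.transpose_permMatrix, ← Matrix.permMatrix_mul, mul_inv_cancel, Matrix.permMatrix_one]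

theorem not_nrm_cycU {ω : F} (hc : Cube F ω) : ¬ Nrm ω (cycU : GL (ZMod 3 × ZMod 3) F) := fun h => by
  set v₀ : (ZMod 3 × ZMod 3) × (ZMod 3 × ZMod 3) := ((0, 0), (1, 0)) with hv₀
  obtain ⟨w, c, e⟩ := h v₀
  have key : ∀ y : ZMod 3 × ZMod 3,
      ω ^ ((cyc y).1).val = c * (if w.1 = 0 then ω ^ (Dot.dot w.2 y).val else 0) := by
    intro y
    have e' := congrFun (congrFun e y) (cyc y)
    change (cyc.permMatrix F * wm ω v₀) y (cyc y) = (c • (wm ω w * cyc.permMatrix F)) y (cyc y) at e'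
    simp only [Equiv.Perm.permMatrix, Matrix.smul_apply, PEquiv.toMatrix_toPEquiv_mul,
      PEquiv.mul_toMatrix_toPEquiv, Matrix.submatrix_apply, id, Equiv.symm_apply_apply, smul_eq_mul] at e'
    rcases eq_or_ne w.1 0 with h0 | h0
    · rw [if_pos h0]
      simpa [wm, h0, hv₀, Dot.dot] using e'
    · rw [if_neg h0]
      simpa [wm, h0, hv₀, Dot.dot] using e'
  rcases eq_or_ne w.1 0 with h0 | h0
  · simp only [if_pos h0] at key
    have hy : ∀ y, (cyc y).1 = 1 + Dot.dot w.2 y := fun y => by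
      refine hc.val_inj ?_
      have k0 := key 0
      rw [show (cyc 0).1 = 1 by decide, show Dot.dot w.2 (0 : ZMod 3 × ZMod 3) = 0 by simp [Dot.dot], ZMod.val_zero,
        pow_zero, mul_one] at k0
      rw [key y, pow_val_add hc.pow_three, k0]
    revert hy
    generalize w.2 = u
    revert u
    decide
  · have := key 0
    rw [if_neg h0, mul_zero] at this
    exact pow_ne_zero _ hc.ne_zero this

/-- **The general argument.** -/
theorem maximal_aux (A : Amb F)
    (hcore : ∀ H : Subgroup (GL (ZMod 3 × ZMod 3) F), Rich A H → (∀ g ∈ H, Nrm A.ω g) ∨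
      (∀ g ∈ A.Isom (ZMod 3 × ZMod 3), (g : Matrix (ZMod 3 × ZMod 3) (ZMod 3 × ZMod 3) F).det = 1 → g ∈ H))
    (Φ : GL (ZMod 3 × ZMod 3) F ≃* GL (Fin 9) F) (R K : Subgroup (GL (Fin 9) F))
    (hR : R = (S0 A.cube).map Φ.toMonoidHom)
    (hK : ∀ g, Φ g ∈ K ↔ g ∈ A.Isom (ZMod 3 × ZMod 3) ∧
      (g : Matrix (ZMod 3 × ZMod 3) (ZMod 3 × ZMod 3) F).det = 1) :
    Cfsg.Geo.IsMaximalIn K (Cfsg.Geo.subgroupNormalizer R ⊓ K) := by
  have hN : ∀ g, Φ g ∈ Cfsg.Geo.subgroupNormalizer R ↔ Nrm A.ω g := fun g => by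
    rw [← mem_normalizer_iff A.cube, Cfsg.Geo.subgroupNormalizer, hR, Subgroup.mem_normalizer_iff,
      Subgroup.mem_normalizer_iff]
    have hmem : ∀ x, Φ x ∈ (S0 A.cube).map Φ.toMonoidHom ↔ x ∈ S0 A.cube := fun x =>
      Subgroup.mem_map_iff_mem Φ.injective
    refine ⟨fun h x => ?_, fun h y => ?_⟩
    · simpa only [← map_inv, ← map_mul, hmem] using h (Φ x)
    · obtain ⟨x, rfl⟩ := Φ.surjective y
      simpa only [← map_inv, ← map_mul, hmem] using h x
  refine ⟨lt_of_le_of_ne inf_le_right fun h => ?_, fun M hM hMK => ?_⟩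
  · have hmem : Φ cycU ∈ Cfsg.Geo.subgroupNormalizer R ⊓ K := by
      rw [h]
      exact (hK _).2 ⟨cycU_mem A, det_cycU⟩
    exact not_nrm_cycU A.cube ((hN _).1 hmem.1)
  set M' := M.comap Φ.toMonoidHom with hM'
  have hM'K : ∀ m ∈ M', m ∈ A.Isom (ZMod 3 × ZMod 3) ∧
      (m : Matrix (ZMod 3 × ZMod 3) (ZMod 3 × ZMod 3) F).det = 1 := fun m hm => (hK m).1 (hMK hm)
  let H : Subgroup (GL (ZMod 3 × ZMod 3) F) :=
    { carrier := {g | ∃ (c : F) (hc : A.Unim c), ∃ m ∈ M', g = sg (ZMod 3 × ZMod 3) hc.1 * m}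
      one_mem' := ⟨1, A.unim_one, 1, one_mem _, Units.ext (by simp)⟩
      mul_mem' := by
        rintro _ _ ⟨c, hc, m, hm, rfl⟩ ⟨d, hd, n, hn, rfl⟩
        exact ⟨c * d, hc.mul hd, m * n, mul_mem hm hn, Units.ext (by simp [smul_smul, mul_comm])⟩
      inv_mem' := by
        rintro _ ⟨c, hc, m, hm, rfl⟩
        refine ⟨c⁻¹, hc.inv, m⁻¹, inv_mem hm, ?_⟩
        rw [_root_.mul_inv_rev]
        refine Units.ext ?_
        simp only [Units.val_mul, sg_val, Matrix.smul_mul, one_mul]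
        show _ * (c⁻¹ • (1 : Matrix (ZMod 3 × ZMod 3) (ZMod 3 × ZMod 3) F)) = _
        rw [Matrix.mul_smul, mul_one] }
  have hin : ∀ g ∈ A.Isom (ZMod 3 × ZMod 3), (g : Matrix (ZMod 3 × ZMod 3) (ZMod 3 × ZMod 3) F).det = 1 →
      Nrm A.ω g → g ∈ M' := fun g hg hd hn => hM ⟨(hN g).2 hn, (hK g).2 ⟨hg, hd⟩⟩
  have hHM : ∀ m ∈ M', m ∈ H := fun m hm => ⟨1, A.unim_one, m, hm, Units.ext (by simp)⟩
  have hrich : Rich A H := by
    refine ⟨?_, fun v => ⟨1, wu A.cube.pow_three v, ?_, by simp⟩,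
      fun v => ⟨1, tu A.cube v, ?_, by simp [tu]⟩, fun c hc => ⟨c, hc, 1, one_mem _, by simp⟩⟩
    · rintro _ ⟨c, hc, m, hm, rfl⟩
      exact mul_mem (sg_mem hc) (hM'K m hm).1
    · exact hHM _ (hin _ (wu_mem v) (by rw [wu_val]; exact det_wm A.cube v) (nrm_wu A.cube v))
    · exact hHM _ (hin _ (tu_mem v) (det_tm A.cube v) (nrm_of_acts (g := tu A.cube v) (tm_wm A.cube v)))
  rcases hcore H hrich with hall | hall
  · left
    refine le_antisymm (fun x hx => ⟨?_, hMK hx⟩) hM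
    obtain ⟨g, rfl⟩ := Φ.surjective x
    exact (hN g).2 (hall g (hHM g hx))
  · right
    refine le_antisymm hMK fun x hx => ?_
    obtain ⟨g, rfl⟩ := Φ.surjective x
    obtain ⟨hg, hd⟩ := (hK g).1 hx
    obtain ⟨c, hc, m, hm, rfl⟩ := hall g hg hd
    refine M'.mul_mem (hin _ (sg_mem hc) ?_ fun v => ⟨v, 1, by simp⟩) hm
    rwa [Units.val_mul, Matrix.det_mul, (hM'K m hm).2, mul_one] at hd

/-- **The linear case**: conjunct (6) for the special linear group of degree nine. -/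
theorem maximal_linear
    (hcore : ∀ (A : Amb F) (H : Subgroup (GL (ZMod 3 × ZMod 3) F)), Rich A H → (∀ g ∈ H, Nrm A.ω g) ∨
      (∀ g ∈ A.Isom (ZMod 3 × ZMod 3), (g : Matrix (ZMod 3 × ZMod 3) (ZMod 3 × ZMod 3) F).det = 1 → g ∈ H)) :
    (∃ p : ℕ, p.Prime ∧ Fintype.card F = p ∧ (p % 3 = 1)) →
      ∀ R : Subgroup (Matrix.GeneralLinearGroup (Fin 9) F), Cfsg.Geo.IsLinearSymplecticTypeData 3 R →
        Cfsg.Geo.IsMaximalIn (Cfsg.Geo.specialLinear (Fin 9) F)
          (Cfsg.Geo.subgroupNormalizer R ⊓ Cfsg.Geo.specialLinear (Fin 9) F) := by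
  rintro ⟨p, hp, hF, hp3⟩ R ⟨hRs, hRi, hfield⟩
  obtain ⟨ω, hc⟩ := exists_cube (F := F) (by rw [hF]; omega)
  let A : Amb F := ⟨p, hp, ω, False, hc, Or.inl ⟨not_false, hF, hp3⟩⟩
  have hRZ : Nat.card (Subgroup.center R) = 3 := by
    obtain ⟨p', e, -, -, ⟨-, -, hz, -⟩ | ⟨h2, -⟩ | ⟨h2, -⟩⟩ := hfield
    · exact hz
    · omega
    · omega
  obtain ⟨P, hP⟩ := exists_coord hc hRs hRi hRZ
  exact maximal_aux A (hcore A) (coord P) R _ hP fun g => by
    rw [det_coord]
    exact ⟨fun h => ⟨fun hu => hu.elim, h⟩, fun h => h.2⟩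

/-- **The unitary case**: conjunct (8) for the special unitary group of degree nine. -/
theorem maximal_unitary
    (hcore : ∀ (A : Amb F) (H : Subgroup (GL (ZMod 3 × ZMod 3) F)), Rich A H → (∀ g ∈ H, Nrm A.ω g) ∨
      (∀ g ∈ A.Isom (ZMod 3 × ZMod 3), (g : Matrix (ZMod 3 × ZMod 3) (ZMod 3 × ZMod 3) F).det = 1 → g ∈ H))
    (q : ℕ) (hF : Fintype.card F = q ^ 2) :
    ∀ (p : ℕ) (R : Subgroup (Matrix.GeneralLinearGroup (Fin 9) F)), p.Prime → q = p → p % 3 = 2 →
      Cfsg.Geo.IsSymplecticTypeGroup 3 R → Cfsg.Geo.ActsAbsolutelyIrreducibly (Cfsg.Geo.matrixSet R) →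
      R ≤ Cfsg.Geo.similarityGroup (Cfsg.hermForm 9 F q) → Nat.card R = 243 →
      Nat.card (Subgroup.center R) = 3 →
      Cfsg.Geo.IsMaximalIn (Cfsg.GU 9 F q ⊓ Cfsg.Geo.specialLinear (Fin 9) F)
        (Cfsg.Geo.subgroupNormalizer R ⊓ (Cfsg.GU 9 F q ⊓ Cfsg.Geo.specialLinear (Fin 9) F)) := by
  rintro p R hp rfl hp3 hRs hRi hRsim - hRZ
  have h3dvd : 3 ∣ Fintype.card F - 1 := by
    rw [hF]
    have h : q ^ 2 % 3 = 1 := by rw [Nat.pow_mod, hp3]
    omega
  obtain ⟨ω, hc⟩ := exists_cube h3dvd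
  let A : Amb F := ⟨q, hp, ω, True, hc, Or.inr ⟨trivial, hF, hp3⟩⟩
  obtain ⟨P, hP⟩ := exists_coord hc hRs hRi hRZ
  -- the group preserves the form
  have hfacts := facts hc hRs hRi hRZ
  have hq0 : q ≠ 0 := hp.ne_zero
  have hRU : R ≤ Cfsg.GU 9 F q := by
    intro r hr
    obtain ⟨c, hcr⟩ := hRsim hr
    have hr3 : r * r * r = 1 := by
      have := congrArg Subtype.val (hfacts.exp ⟨r, hr⟩)
      simpa [pow_succ] using this
    let e₀ : Fin 9 → F := Pi.single 0 1
    have he : Cfsg.hermForm 9 F q e₀ e₀ = 1 := by rw [HermStd.hermForm_single_single _ _ hq0, if_pos rfl]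
    have hc3 : (c : F) ^ 3 = 1 := by
      have h1 : Cfsg.hermForm 9 F q (((r * r * r : GL (Fin 9) F) : Matrix (Fin 9) (Fin 9) F) *ᵥ e₀)
          (((r * r * r : GL (Fin 9) F) : Matrix (Fin 9) (Fin 9) F) *ᵥ e₀) = (c : F) ^ 3 := by
        simp only [Units.val_mul, ← Matrix.mulVec_mulVec, hcr, he]
        ring
      rwa [hr3, Units.val_one, Matrix.one_mulVec, he, eq_comm] at h1
    have hcq : (c : F) ^ q = c := by
      have h1 := hcr e₀ e₀
      rw [he, mul_one] at h1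
      rw [← h1, HermStd.hermForm_conj hF]
    have hc1 : (c : F) = 1 := by
      rw [pow_eq_pow_mod q hc3, hp3, pow_two] at hcq
      exact (mul_eq_left₀ c.ne_zero).1 hcq
    rw [HermStd.mem_GU_iff]
    intro u v
    rw [hcr, hc1, one_mul]
  have hadj : ∀ M : Matrix (ZMod 3 × ZMod 3) (ZMod 3 × ZMod 3) F,
      Classical.UnitaryConj.adj hF (M.submatrix e9.symm e9.symm) = ((M.map A.bar)ᵀ).submatrix e9.symm e9.symm :=
    fun M => rfl
  have hsub : ∀ g : GL (ZMod 3 × ZMod 3) F, rho g ∈ Cfsg.GU 9 F q ↔ g ∈ A.Isom (ZMod 3 × ZMod 3) := fun g => by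
    rw [Classical.UnitaryConj.mem_GU_iff hF, rho_val, hadj, Matrix.submatrix_mul_equiv, Amb.mem_isom]
    constructor
    · intro h _
      have := congrArg (fun X => X.submatrix e9 e9) h
      simpa [Matrix.submatrix_submatrix] using this
    · intro h
      rw [h trivial, Matrix.submatrix_one_equiv]
  set Hm : Matrix (Fin 9) (Fin 9) F := Classical.UnitaryConj.adj hF (P : Matrix (Fin 9) (Fin 9) F) *
    (P : Matrix (Fin 9) (Fin 9) F) with hHm
  have hHmu : IsUnit Hm := (Classical.UnitaryConj.isUnit_adj hF P.isUnit).mul P.isUnit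
  have hcomm : ∀ v, Hm.submatrix e9 e9 * wm ω v = wm ω v * Hm.submatrix e9 e9 := by
    intro v
    set W := rho (wu hc.pow_three v) with hW
    have hr : P * W * P⁻¹ ∈ Cfsg.GU 9 F q := hRU (hP ▸ ⟨_, wu_mem_S0 hc v, rfl⟩)
    have hw : W ∈ Cfsg.GU 9 F q := (hsub _).2 (wu_mem (A := A) v)
    rw [Classical.UnitaryConj.mem_GU_iff hF] at hr hw
    simp only [Units.val_mul, Classical.UnitaryConj.adj_mul] at hr
    have hPi : Classical.UnitaryConj.adj hF (P : Matrix (Fin 9) (Fin 9) F) *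
        Classical.UnitaryConj.adj hF ((P⁻¹ : GL (Fin 9) F) : Matrix (Fin 9) (Fin 9) F) = 1 := by
      rw [← Classical.UnitaryConj.adj_mul, Units.inv_mul, Classical.UnitaryConj.adj_one]
    have h1 : Classical.UnitaryConj.adj hF (W : Matrix (Fin 9) (Fin 9) F) * Hm * (W : Matrix (Fin 9) (Fin 9) F) =
        Hm := by
      have h2 := congrArg (fun X => Classical.UnitaryConj.adj hF (P : Matrix (Fin 9) (Fin 9) F) * X *
        (P : Matrix (Fin 9) (Fin 9) F)) hr
      simp only [← mul_assoc, hPi, one_mul, mul_one] at h2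
      simpa [hHm, mul_assoc] using h2
    have h3 : Hm * (W : Matrix (Fin 9) (Fin 9) F) = (W : Matrix (Fin 9) (Fin 9) F) * Hm := by
      conv_rhs => rw [← h1]
      rw [← mul_assoc, ← mul_assoc, mul_eq_one_comm.1 hw, one_mul]
    have h4 := congrArg (fun X => X.submatrix e9 e9) h3
    simp only [← Matrix.submatrix_mul_equiv _ _ _ e9 _, hW, rho_val, Matrix.submatrix_submatrix,
      Equiv.symm_comp_self, Matrix.submatrix_id_id, wu_val] at h4
    exact h4
  obtain ⟨l, hl⟩ : ∃ l : F, Hm = l • 1 := by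
    refine ⟨Hm.submatrix e9 e9 0 0, ?_⟩
    have h := congrArg (fun X => X.submatrix e9.symm e9.symm) (scalar_of_comm hc hcomm)
    simpa [Matrix.submatrix_submatrix, Matrix.submatrix_smul] using h
  have hl0 : l ≠ 0 := fun h0 => by
    rw [h0, zero_smul] at hl
    exact not_isUnit_zero (hl ▸ hHmu)
  have hlq : l⁻¹ ^ q = l⁻¹ := by
    have h : Classical.UnitaryConj.adj hF Hm = Hm := by
      rw [hHm, Classical.UnitaryConj.adj_mul, Classical.UnitaryConj.adj_adj]
    rw [hl] at h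
    have h' := congrFun (congrFun h 0) 0
    simp [Classical.UnitaryConj.adj] at h'
    rw [inv_pow, h']
  obtain ⟨μ, hμ⟩ := Classical.UnitaryCount.exists_norm_eq hF (inv_ne_zero hl0) hlq
  have hμ0 : μ ≠ 0 := fun h0 => by
    rw [h0, zero_pow (by omega)] at hμ
    exact inv_ne_zero hl0 hμ.symm
  set P' : GL (Fin 9) F := sg (Fin 9) hμ0 * P with hP'def
  have hP' : P' ∈ Cfsg.GU 9 F q := by
    rw [Classical.UnitaryConj.mem_GU_iff hF]
    have e : Classical.UnitaryConj.adj hF (P' : Matrix (Fin 9) (Fin 9) F) =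
        μ ^ q • Classical.UnitaryConj.adj hF (P : Matrix (Fin 9) (Fin 9) F) := by
      ext i j
      simp [hP'def, Classical.UnitaryConj.adj, mul_pow]
    rw [e, hP'def, Units.val_mul, sg_val]
    simp only [Matrix.smul_mul, one_mul, Matrix.mul_smul, smul_smul]
    rw [← hHm, hl, smul_smul, ← pow_succ', hμ, inv_mul_cancel₀ hl0, one_smul]
  refine maximal_aux A (hcore A) (coord P) R _ hP fun g => ?_
  rw [Subgroup.mem_inf, det_coord, ← hsub g]
  refine and_congr ?_ Iff.rfl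
  have e : coord P g = P' * rho g * P'⁻¹ := by
    rw [coord_apply, eq_mul_inv_iff_mul_eq, hP'def]
    refine Units.ext ?_
    simp [Matrix.mul_assoc]
  rw [e, Subgroup.mul_mem_cancel_right _ (inv_mem hP'), Subgroup.mul_mem_cancel_left _ hP']

end Cfsg.Agent.Forms.Max.SympNine.Std
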