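import Cfsg.Agent.Lib.Forms.Max.SympNine.StdGroup
import Cfsg.Agent.Lib.Forms.Max.SL4.SympTypeCard

/-!
# Absolutely irreducible groups of symplectic type of degree nine are conjugate to the standard one

The centre consists of the cubic roots of unity, commutators are central, non-central members have trace zero, so the
order is 243; the group is then isomorphic to the standard one, and averaging gives an intertwining matrix.
-/

set_option autoImplicit false
set_option linter.unusedSectionVars false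
set_option linter.style.haveILetI false

namespace Cfsg.Agent.Forms.Max.SympNine.Std

open Matrix Cfsg.Agent.Forms.Max.SympNine Subgroup
open scoped commutatorElement

local notation "X9" => ZMod 3 × ZMod 3

/-- a fixed labelling -/
def e9 : X9 ≃ Fin 9 := finProdFinEquiv

/-- in a group of prime-power order whose characteristic abelian subgroups are cyclic, of exponent `p`, commutators
are central -/
theorem commutator_le_center {T : Type*} [Group T] [Finite T] {p : ℕ} [hp : Fact p.Prime] (hT : IsPGroup p T)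
    (hchar : ∀ A : Subgroup T, A.Characteristic → IsMulCommutative A → IsCyclic A) (hexp : ∀ x : T, x ^ p = 1) :
    _root_.commutator T ≤ Subgroup.center T := by
  set W := _root_.commutator T with hW
  haveI hWc : W.Characteristic := by rw [hW, commutator_def]; infer_instance
  set A := W ⊓ Subgroup.centralizer (W : Set T) with hA
  haveI hAc : A.Characteristic := by
    rw [Subgroup.characteristic_iff_le_comap]
    exact fun φ x hx => ⟨(Subgroup.characteristic_iff_le_comap.1 hWc φ) hx.1,
      (Subgroup.characteristic_iff_le_comap.1 (inferInstance : (Subgroup.centralizer (W : Set T)).Characteristic) φ) hx.2⟩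
  have hAab : IsMulCommutative A := ⟨⟨fun a b => Subtype.ext (Subgroup.mem_centralizer_iff.1 b.2.2 a a.2.1)⟩⟩
  have hAcyc : IsCyclic A := hchar A hAc hAab
  -- a cyclic normal subgroup of exponent `p` is central
  have hAZ : A ≤ Subgroup.center T := by
    have hexpA : Monoid.exponent A ∣ p :=
      Monoid.exponent_dvd_of_forall_pow_eq_one fun a => Subtype.ext (by rw [Subgroup.coe_pow]; exact hexp a)
    have hcardA : Nat.card A ∣ p := by rwa [← IsCyclic.exponent_eq_card]
    rcases (Nat.dvd_prime hp.out).1 hcardA with h1 | h1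
    · rw [Subgroup.eq_bot_of_card_eq A h1]
      exact bot_le
    · haveI : A.Normal := inferInstance
      have hinf : (A ⊓ Subgroup.center T) ≠ ⊥ := by
        intro hbot
        haveI : Nontrivial A := Finite.one_lt_card_iff_nontrivial.1 (h1 ▸ hp.out.one_lt)
        letI : MulAction T A := MulAction.compHom A (MulAut.conjNormal : T →* MulAut A)
        obtain ⟨u, hu, hne⟩ := hT.exists_fixed_point_of_prime_dvd_card_of_fixed_point A
          (by rw [h1]) (a := 1) (fun a => map_one (MulAut.conjNormal a))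
        apply hne
        have huc : (u : T) ∈ Subgroup.center T := Subgroup.mem_center_iff.2 fun a => by
          have h2 := congrArg Subtype.val (show MulAut.conjNormal a u = u from hu a)
          rw [MulAut.conjNormal_apply] at h2
          exact mul_inv_eq_iff_eq_mul.1 h2
        have : (u : T) ∈ A ⊓ Subgroup.center T := ⟨u.2, huc⟩
        rw [hbot, Subgroup.mem_bot] at this
        exact Subtype.ext this.symm
      have hdvd : Nat.card (A ⊓ Subgroup.center T : Subgroup T) ∣ p := by
        have h := Subgroup.card_dvd_of_le (inf_le_left : A ⊓ Subgroup.center T ≤ A)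
        rwa [h1] at h
      have heq : A ⊓ Subgroup.center T = A := by
        refine Subgroup.eq_of_le_of_card_ge inf_le_left ?_
        rcases (Nat.dvd_prime hp.out).1 hdvd with h | h
        · exact absurd (Subgroup.eq_bot_of_card_eq _ h) hinf
        · rw [h1, h]
      exact heq ▸ inf_le_right
  by_contra hnle
  -- otherwise some member of the derived subgroup is central modulo the centre but not central
  haveI : W.Normal := inferInstance
  let π := QuotientGroup.mk' (Subgroup.center T)
  haveI : (W.map π).Normal := Subgroup.Normal.map inferInstance π (QuotientGroup.mk'_surjective _)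
  have hne : W.map π ≠ ⊥ := by
    rw [Ne, Subgroup.map_eq_bot_iff, QuotientGroup.ker_mk']; exact hnle
  obtain ⟨r, hrW, hrZ, hrc⟩ : ∃ r ∈ W, r ∉ Subgroup.center T ∧ ∀ a : T, ⁅r, a⁆ ∈ Subgroup.center T := by
    have hq : IsPGroup p (T ⧸ Subgroup.center T) := hT.to_quotient _
    haveI : Nontrivial ↥(W.map π) := (Subgroup.nontrivial_iff_ne_bot _).2 hne
    letI : MulAction (T ⧸ Subgroup.center T) ↥(W.map π) :=
      MulAction.compHom _ (MulAut.conjNormal : (T ⧸ Subgroup.center T) →* MulAut (W.map π))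
    obtain ⟨k, hk0, hk⟩ := ((hq.to_subgroup (W.map π)).nontrivial_iff_card).1 inferInstance
    obtain ⟨⟨u, r, hr, hru⟩, hu, hne1⟩ := hq.exists_fixed_point_of_prime_dvd_card_of_fixed_point (W.map π)
      (by rw [hk]; exact dvd_pow_self p hk0.ne') (a := 1) (fun a => map_one (MulAut.conjNormal a))
    refine ⟨r, hr, fun hrA => hne1 (Subtype.ext ?_), fun a => ?_⟩
    · show (1 : T ⧸ Subgroup.center T) = u
      rw [← hru]
      exact ((QuotientGroup.eq_one_iff r).2 hrA).symm
    · have h1 : MulAut.conjNormal (π a) (⟨u, r, hr, hru⟩ : W.map π) = ⟨u, r, hr, hru⟩ := hu (π a)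
      have h2 := congrArg Subtype.val h1
      rw [MulAut.conjNormal_apply] at h2
      simp only [] at h2
      rw [← hru] at h2
      rw [← QuotientGroup.eq_one_iff]
      show π ⁅r, a⁆ = 1
      rw [map_commutatorElement, commutatorElement_eq_one_iff_mul_comm]
      exact (mul_inv_eq_iff_eq_mul.1 h2).symm
  -- the commutator with `r` is a homomorphism to the centre, so `r` centralises the derived subgroup
  let χ : T →* Subgroup.center T := MonoidHom.mk' (fun a => ⟨⁅r, a⁆, hrc a⟩) fun a b => Subtype.ext (by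
    show ⁅r, a * b⁆ = ⁅r, a⁆ * ⁅r, b⁆
    rw [commutatorElement_mul_right_eq_mul_conj, mul_assoc _ a ⁅r, b⁆,
      Subgroup.mem_center_iff.1 (hrc b) a]
    group)
  have hker : W ≤ χ.ker := by
    rw [hW, commutator_def, Subgroup.commutator_le]
    intro a _ b _
    rw [MonoidHom.mem_ker, map_commutatorElement, commutatorElement_eq_one_iff_mul_comm]
    exact mul_comm' (χ a) (χ b)
  refine hrZ (hAZ ⟨hrW, Subgroup.mem_centralizer_iff.2 fun w hw => ?_⟩)
  exact (commutatorElement_eq_one_iff_mul_comm.1 (congrArg Subtype.val (hker hw))).symm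

variable {F : Type*} [Field F] [Fintype F] {ω : F}

local notation "V9" => Matrix (Fin 9) (Fin 9) F
local notation "G9" => GL (Fin 9) F

/-- the facts extracted from the hypotheses on the group -/
structure Facts (ω : F) (R : Subgroup G9) : Prop where
  scal : ∀ z : R, z ∈ Subgroup.center R → ∃ c : F, c ^ 3 = 1 ∧ ((z : G9) : V9) = c • 1
  zom : ∃ z : R, z ∈ Subgroup.center R ∧ ((z : G9) : V9) = ω • 1
  comm : ∀ x y : R, ⁅x, y⁆ ∈ Subgroup.center R
  exp : ∀ x : R, x ^ 3 = 1
  cardZ : Nat.card (Subgroup.center R) = 3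
  irred : Cfsg.Geo.ActsAbsolutelyIrreducibly (Cfsg.Geo.matrixSet R)

variable {R : Subgroup (GL (Fin 9) F)}

theorem facts (hc : Cube F ω) (hRs : Cfsg.Geo.IsSymplecticTypeGroup 3 R)
    (hRi : Cfsg.Geo.ActsAbsolutelyIrreducibly (Cfsg.Geo.matrixSet R)) (hRZ : Nat.card (Subgroup.center R) = 3) :
    Facts ω R := by
  classical
  haveI : Fact (Nat.Prime 3) := ⟨Nat.prime_three⟩
  have h3 : ∀ x : R, x ^ 3 = 1 := fun x => by
    have h := Monoid.pow_exponent_eq_one x
    rwa [hRs.exponent_eq, show 3 * Nat.gcd 2 3 = 3 from rfl] at h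
  haveI : Finite R := Finite.of_injective (fun g : R => (g : G9)) Subtype.val_injective
  have hscal : ∀ z : R, z ∈ Subgroup.center R → ∃ c : F, c ^ 3 = 1 ∧ ((z : G9) : V9) = c • 1 := by
    intro z hz
    obtain ⟨c, hcz⟩ := hRi.2 ((z : G9) : V9) (by
      rintro _ ⟨g, hg, rfl⟩
      rw [← Units.val_mul, ← Units.val_mul]
      exact congrArg (fun x : R => ((x : G9) : V9)) (Subgroup.mem_center_iff.1 hz ⟨g, hg⟩).symm)
    refine ⟨c, ?_, hcz⟩
    have h := congrArg (fun x : R => ((x : G9) : V9) 0 0) (h3 z)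
    simpa [Subgroup.coe_pow, Units.val_pow_eq_pow_val, hcz, smul_pow] using h
  have hcomm : ∀ x y : R, ⁅x, y⁆ ∈ Subgroup.center R := fun x y =>
    commutator_le_center hRs.pGroup hRs.cyclic_of_characteristic h3
      (by rw [commutator_def]; exact commutator_mem_commutator (mem_top x) (mem_top y))
  refine ⟨hscal, ?_, hcomm, h3, hRZ, hRi⟩
  choose χ hχ3 hχ using fun z : Subgroup.center R => hscal z z.2
  have hinj : Function.Injective χ := fun a b h =>
    Subtype.ext (Subtype.ext (Units.ext (by rw [hχ, hχ, h])))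
  haveI : Fintype (Subgroup.center R) := Fintype.ofFinite _
  have hsub : Finset.univ.image χ ⊆ ({1, ω, ω ^ 2} : Finset F) := fun c hc' => by
    obtain ⟨z, -, rfl⟩ := Finset.mem_image.1 hc'
    have e : (χ z - 1) * ((χ z - ω) * (χ z - ω ^ 2)) = 0 := by
      linear_combination hχ3 z + (χ z - χ z ^ 2 + (ω - 1) * (χ z - 1)) * hc.sum
    rcases mul_eq_zero.1 e with e | e
    · simp [sub_eq_zero.1 e]
    · rcases mul_eq_zero.1 e with e | e <;> simp [sub_eq_zero.1 e]
  have hle : ({1, ω, ω ^ 2} : Finset F).card ≤ (Finset.univ.image χ).card := by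
    rw [Finset.card_image_of_injective _ hinj, Finset.card_univ, ← Nat.card_eq_fintype_card, hRZ]
    exact Finset.card_le_three
  have hmem : ω ∈ Finset.univ.image χ := by
    rw [Finset.eq_of_subset_of_card_le hsub hle]; simp
  obtain ⟨z, -, hz⟩ := Finset.mem_image.1 hmem
  exact ⟨z, z.2, by rw [hχ, hz]⟩

namespace Facts

variable (h : Facts ω R)
include h

theorem exists_es (hc : Cube F ω) :
    ∃ z : R, PGroups.ExtraspecialIso.ES 3 z ∧ ((z : G9) : V9) = ω • 1 := by
  haveI : Fact (Nat.Prime 3) := ⟨Nat.prime_three⟩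
  obtain ⟨z, hz, hzv⟩ := h.zom
  have hord : orderOf z = 3 := orderOf_eq_prime (h.exp z) fun e => hc.ne_one (by
    rw [e] at hzv
    simpa using (congrFun (congrFun hzv 0) 0).symm)
  haveI : Finite R := Finite.of_injective (fun g : R => (g : G9)) Subtype.val_injective
  have hzz : Subgroup.center R = Subgroup.zpowers z :=
    (Subgroup.eq_of_le_of_card_ge (Subgroup.zpowers_le.2 hz) (by rw [Nat.card_zpowers, hord, h.cardZ])).symm
  exact ⟨z, ⟨hord, hzz, fun x y => hzz ▸ h.comm x y, fun x => by rw [h.exp]; exact one_mem _⟩, hzv⟩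

theorem trace_eq_zero {g : R} (hg : g ∉ Subgroup.center R) : ((g : G9) : V9).trace = 0 := by
  obtain ⟨y, hy⟩ : ∃ y : R, y * g ≠ g * y := by
    by_contra hc'
    push Not at hc'
    exact hg (Subgroup.mem_center_iff.2 hc')
  obtain ⟨c, -, hcv⟩ := h.scal _ (h.comm y g)
  have e : ((y : G9) : V9) * ((g : G9) : V9) * (((y : G9)⁻¹ : G9) : V9) = c • ((g : G9) : V9) := by
    have e1 : (y : G9) * g * (y : G9)⁻¹ = ((⁅y, g⁆ : R) : G9) * g := by
      rw [commutatorElement_def]; simp only [Subgroup.coe_mul, Subgroup.coe_inv]; group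
    rw [← Units.val_mul, ← Units.val_mul, e1, Units.val_mul, hcv, Matrix.smul_mul, one_mul]
  have h2 := congrArg Matrix.trace e
  rw [Matrix.trace_units_conj, Matrix.trace_smul, smul_eq_mul] at h2
  by_contra hne
  have hc1 : c = 1 := (mul_eq_right₀ hne).1 h2.symm
  apply hy
  rw [← commutatorElement_eq_one_iff_mul_comm]
  exact Subtype.ext (Units.ext (by rw [hcv, hc1, one_smul]; rfl))

/-- the order -/
theorem card_eq (hc : Cube F ω) : Nat.card R = 243 := by
  classical
  haveI : Finite R := Finite.of_injective (fun g : R => (g : G9)) Subtype.val_injective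
  haveI : Fintype R := Fintype.ofFinite R
  let φ : R → V9 := fun g => ((g : G9) : V9)
  have h9 : ((9 : ℕ) : F) ≠ 0 := by
    rw [show (9 : ℕ) = 3 * 3 from rfl, Nat.cast_mul]
    exact mul_ne_zero (by exact_mod_cast hc.three) (by exact_mod_cast hc.three)
  have hR0 : (Fintype.card R : F) ≠ 0 := by
    haveI : Fact (Nat.Prime 3) := ⟨Nat.prime_three⟩
    obtain ⟨k, hk⟩ := IsPGroup.iff_card.1 (show IsPGroup 3 R from fun x => ⟨1, by rw [pow_one]; exact h.exp x⟩)
    rw [← Nat.card_eq_fintype_card, hk, Nat.cast_pow]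
    exact pow_ne_zero _ (by exact_mod_cast hc.three)
  have hspan : Submodule.span F (Set.range φ) = ⊤ :=
    SL4.SympType.span_group_eq_top R h9 hR0 fun X hX =>
      h.irred.2 X (by rintro _ ⟨g, hg, rfl⟩; exact hX ⟨g, hg⟩)
  let f : R ⧸ Subgroup.center R → V9 := fun q => φ q.out
  haveI : Fintype (R ⧸ Subgroup.center R) := Fintype.ofFinite _
  have hli : LinearIndependent F f := by
    rw [Fintype.linearIndependent_iff]
    intro c hc' q
    have h1 := congrArg (fun X => Matrix.trace (φ (q.out)⁻¹ * X)) hc'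
    simp only [Finset.mul_sum, Matrix.trace_sum, Matrix.mul_smul, Matrix.trace_smul, mul_zero,
      Matrix.trace_zero, smul_eq_mul] at h1
    rw [Finset.sum_eq_single q (fun q' _ hq' => ?_) (by simp)] at h1
    · refine (mul_eq_zero.1 h1).resolve_right ?_
      simp only [f, φ, Subgroup.coe_inv, ← Units.val_mul, inv_mul_cancel, Units.val_one, Matrix.trace_one,
        Fintype.card_fin]
      exact h9
    · refine mul_eq_zero_of_right _ ?_
      have h2 : φ (q.out)⁻¹ * f q' = φ ((q.out)⁻¹ * q'.out) := by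
        simp only [f, φ, Subgroup.coe_mul, Units.val_mul]
      rw [h2]
      refine h.trace_eq_zero fun hz => hq' ?_
      rw [← QuotientGroup.out_eq' q, ← QuotientGroup.out_eq' q']
      exact (QuotientGroup.eq.2 hz).symm
  have htop : Submodule.span F (Set.range f) = ⊤ := by
    refine eq_top_iff.2 (hspan ▸ Submodule.span_le.2 ?_)
    rintro _ ⟨g, rfl⟩
    have hmem : (QuotientGroup.mk g : R ⧸ Subgroup.center R).out⁻¹ * g ∈ Subgroup.center R :=
      QuotientGroup.eq.1 (QuotientGroup.out_eq' _)
    obtain ⟨c, -, hcv⟩ := h.scal _ hmem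
    have e : φ g = c • f (QuotientGroup.mk g) := by
      calc φ g = φ ((QuotientGroup.mk g : R ⧸ Subgroup.center R).out *
            ((QuotientGroup.mk g : R ⧸ Subgroup.center R).out⁻¹ * g)) := by rw [mul_inv_cancel_left]
        _ = φ (QuotientGroup.mk g : R ⧸ Subgroup.center R).out *
            φ ((QuotientGroup.mk g : R ⧸ Subgroup.center R).out⁻¹ * g) := by
          simp only [φ, Subgroup.coe_mul, Units.val_mul]
        _ = _ := by
          rw [show φ ((QuotientGroup.mk g : R ⧸ Subgroup.center R).out⁻¹ * g) = c • 1 from hcv, Matrix.mul_smul,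
            mul_one]
    rw [e]
    exact Submodule.smul_mem _ _ (Submodule.subset_span ⟨_, rfl⟩)
  have hcard := Module.finrank_eq_card_basis (Module.Basis.mk hli htop.ge)
  rw [Module.finrank_matrix, Fintype.card_fin, Module.finrank_self] at hcard
  rw [Subgroup.card_eq_card_quotient_mul_card_subgroup (Subgroup.center R), h.cardZ, Nat.card_eq_fintype_card,
    ← hcard]

/-- the group is conjugate to the standard one -/
theorem exists_conj (hc : Cube F ω) :
    ∃ P : G9, R = (S0 hc).map
      ((MulAut.conj P).toMonoidHom.comp (Units.mapEquiv (Matrix.reindexAlgEquiv F F e9).toMulEquiv).toMonoidHom) := by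
  classical
  haveI : Fact (Nat.Prime 3) := ⟨Nat.prime_three⟩
  haveI : Finite R := Finite.of_injective (fun g : R => (g : G9)) Subtype.val_injective
  obtain ⟨z, hz, hzv⟩ := h.exists_es hc
  obtain ⟨φ, hφ⟩ := PGroups.ExtraspecialIso.iso_exponent 243 (S0 hc) R _ z (es hc) hz (pow_three_S0 hc) h.exp
    (card_S0 hc) (h.card_eq hc)
  haveI : Fintype (S0 hc) := Fintype.ofFinite _
  let a : S0 hc → Matrix X9 X9 F := fun g => ((g : GL X9 F) : Matrix X9 X9 F)
  let b : S0 hc → V9 := fun g => (((φ g : R) : G9) : V9)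
  have hb : ∀ g g', b (g * g') = b g * b g' := fun g g' => by
    simp only [b, map_mul, Subgroup.coe_mul, Units.val_mul]
  have ha : ∀ g g', a (g * g') = a g * a g' := fun g g' => by
    simp only [a, Subgroup.coe_mul, Units.val_mul]
  have ha1 : ∀ g, a g⁻¹ * a g = 1 := fun g => by
    simp only [a, Subgroup.coe_inv, Units.inv_mul]
  have ha1' : ∀ g, a g * a g⁻¹ = 1 := fun g => by
    simp only [a, Subgroup.coe_inv, Units.mul_inv]
  -- the intertwining matrices
  let T : Matrix (Fin 9) X9 F → Matrix (Fin 9) X9 F := fun M => ∑ g, b g * M * a g⁻¹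
  have hT : ∀ M s, b s * T M = T M * a s := fun M s => by
    simp only [T, Matrix.mul_sum, Matrix.sum_mul]
    refine Fintype.sum_equiv (Equiv.mulLeft s) _ _ fun g => ?_
    rw [Equiv.coe_mulLeft, hb, _root_.mul_inv_rev, ha]
    simp only [Matrix.mul_assoc, ha1, Matrix.mul_one]
  -- central elements
  have hcent : ∀ g : S0 hc, ¬ (b g).trace * (a g⁻¹).trace = 0 ↔ g ∈ Subgroup.zpowers
      (⟨el hc 1 0, el_mem hc 1 0⟩ : S0 hc) := by
    intro g
    constructor
    · intro hne
      by_contra hg
      refine hne (mul_eq_zero_of_left (h.trace_eq_zero fun hcen => hg ?_) _)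
      rw [hz.cent, ← hφ, ← MulEquiv.coe_toMonoidHom, ← MonoidHom.map_zpowers] at hcen
      obtain ⟨g', hg', he⟩ := hcen
      rwa [φ.injective he] at hg'
    · intro hg
      obtain ⟨n, rfl⟩ := (mem_powers_iff_mem_zpowers.2 hg)
      have hbn : b ((⟨el hc 1 0, el_mem hc 1 0⟩ : S0 hc) ^ n) = ω ^ n • 1 := by
        simp only [b, map_pow, hφ, Subgroup.coe_pow, Units.val_pow_eq_pow_val, hzv, smul_pow, one_pow]
      have han : a ((⟨el hc 1 0, el_mem hc 1 0⟩ : S0 hc) ^ n)⁻¹ = (ω ^ n)⁻¹ • 1 := by
        have h0 : a ((⟨el hc 1 0, el_mem hc 1 0⟩ : S0 hc) ^ n) = ω ^ n • 1 := by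
          simp [a, el_val, smul_pow, show ZMod.val (1 : ZMod 3) = 1 from rfl]
        have h1 := ha1 ((⟨el hc 1 0, el_mem hc 1 0⟩ : S0 hc) ^ n)
        rw [h0, Matrix.mul_smul, Matrix.mul_one] at h1
        rw [← h1, inv_smul_smul₀ (pow_ne_zero _ hc.ne_zero)]
      have h9 : (9 : F) ≠ 0 := by
        rw [show (9 : F) = 3 * 3 by norm_num]; exact mul_ne_zero hc.three hc.three
      simp only [hbn, han, Matrix.trace_smul, Matrix.trace_one, Fintype.card_fin, Fintype.card_prod, ZMod.card,
        smul_eq_mul]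
      simp [hc.ne_zero, h9]
  obtain ⟨M, hM⟩ : ∃ M, T M ≠ 0 := by
    by_contra hall
    push Not at hall
    have hsum : ∑ g, (b g).trace * (a g⁻¹).trace = 0 := by
      have hij : ∀ i j, ∑ g, b g i i * a g⁻¹ j j = 0 := fun i j => by
        have e := congrFun (congrFun (hall (Matrix.single i j 1)) i) j
        simp only [T, Matrix.sum_apply, Matrix.zero_apply] at e
        rw [← e]
        refine Finset.sum_congr rfl fun g _ => ?_
        simp [Matrix.mul_apply, Matrix.single_apply, ite_and]
      simp only [Matrix.trace, Matrix.diag, Finset.sum_mul_sum]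
      rw [Finset.sum_comm]
      refine Finset.sum_eq_zero fun i _ => ?_
      rw [Finset.sum_comm]
      exact Finset.sum_eq_zero fun j _ => hij i j
    -- the central terms are all 81
    have hterm : ∀ g, (b g).trace * (a g⁻¹).trace =
        if g ∈ Subgroup.zpowers (⟨el hc 1 0, el_mem hc 1 0⟩ : S0 hc) then (81 : F) else 0 := by
      intro g
      split_ifs with hg
      · obtain ⟨n, rfl⟩ := (mem_powers_iff_mem_zpowers.2 hg)
        have h0 : a ((⟨el hc 1 0, el_mem hc 1 0⟩ : S0 hc) ^ n) = ω ^ n • 1 := by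
          simp [a, el_val, smul_pow, show ZMod.val (1 : ZMod 3) = 1 from rfl]
        have h1 := ha1 ((⟨el hc 1 0, el_mem hc 1 0⟩ : S0 hc) ^ n)
        rw [h0, Matrix.mul_smul, Matrix.mul_one] at h1
        have han : a ((⟨el hc 1 0, el_mem hc 1 0⟩ : S0 hc) ^ n)⁻¹ = (ω ^ n)⁻¹ • 1 := by
          rw [← h1, inv_smul_smul₀ (pow_ne_zero _ hc.ne_zero)]
        rw [han, show b ((⟨el hc 1 0, el_mem hc 1 0⟩ : S0 hc) ^ n) = ω ^ n • 1 by
          simp only [b, map_pow, hφ, Subgroup.coe_pow, Units.val_pow_eq_pow_val, hzv, smul_pow, one_pow]]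
        simp only [Matrix.trace_smul, Matrix.trace_one, Fintype.card_fin, Fintype.card_prod, ZMod.card, smul_eq_mul]
        field_simp [hc.ne_zero]
        norm_num
      · by_contra hne
        exact hg ((hcent g).1 hne)
    rw [Finset.sum_congr rfl fun g _ => hterm g, Finset.sum_ite, Finset.sum_const_zero, add_zero, Finset.sum_const,
      nsmul_eq_mul] at hsum
    have hcz : (Finset.univ.filter fun g : S0 hc =>
        g ∈ Subgroup.zpowers (⟨el hc 1 0, el_mem hc 1 0⟩ : S0 hc)).card = 3 := by
      rw [← Fintype.card_subtype, ← Nat.card_eq_fintype_card, Nat.card_zpowers, (es hc).ord]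
    rw [hcz] at hsum
    have h243 : ((3 : ℕ) : F) * 81 ≠ 0 := by
      rw [show (81 : F) = 3 * 3 * (3 * 3) by norm_num]
      exact mul_ne_zero (by exact_mod_cast hc.three)
        (mul_ne_zero (mul_ne_zero hc.three hc.three) (mul_ne_zero hc.three hc.three))
    exact h243 hsum
  -- it is invertible
  have hmem : ∀ s : S0 hc, b s ∈ Cfsg.Geo.matrixSet R := fun s => ⟨_, (φ s).2, rfl⟩
  let W : Submodule F (Fin 9 → F) := LinearMap.range (T M).mulVecLin
  have hW : ∀ s ∈ Cfsg.Geo.matrixSet R, W.map (Matrix.toLin' s) ≤ W := by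
    rintro _ ⟨g, hg, rfl⟩ _ ⟨w, ⟨v, rfl⟩, rfl⟩
    refine ⟨a (φ.symm ⟨g, hg⟩) *ᵥ v, ?_⟩
    simp only [Matrix.mulVecLin_apply, Matrix.toLin'_apply, Matrix.mulVec_mulVec, ← hT]
    simp [b]
  have hWtop : W = ⊤ := by
    refine (h.irred.1 W hW).resolve_left fun hbot => hM ?_
    refine Matrix.ext_of_mulVec_single fun k => ?_
    rw [Matrix.zero_mulVec]
    have : (T M).mulVecLin (Pi.single k 1) ∈ W := LinearMap.mem_range_self _ _
    rw [hbot, Submodule.mem_bot] at this
    exact this
  set P0 : V9 := (T M).submatrix id e9.symm with hP0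
  have hP0u : IsUnit P0 := by
    refine Matrix.mulVec_surjective_iff_isUnit.1 fun w => ?_
    obtain ⟨v, hv⟩ := (show w ∈ W from hWtop ▸ Submodule.mem_top)
    refine ⟨v ∘ e9.symm, ?_⟩
    rw [hP0, Matrix.submatrix_mulVec_equiv]
    simpa [Function.comp_assoc] using hv
  let ρ := (Units.mapEquiv (Matrix.reindexAlgEquiv F F e9).toMulEquiv).toMonoidHom
  have hconj : ∀ s : S0 hc, ((φ s : R) : G9) = hP0u.unit * ρ (s : GL X9 F) * hP0u.unit⁻¹ := fun s => by
    rw [eq_mul_inv_iff_mul_eq]
    refine Units.ext ?_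
    show b s * P0 = P0 * (Matrix.reindexAlgEquiv F F e9) (a s)
    rw [Matrix.coe_reindexAlgEquiv, Matrix.reindex_apply, hP0,
      show b s * (T M).submatrix id e9.symm = (b s * T M).submatrix id e9.symm from rfl, hT]
    rw [Matrix.submatrix_mul_equiv]
  refine ⟨hP0u.unit, le_antisymm ?_ ?_⟩
  · intro g hg
    refine ⟨φ.symm ⟨g, hg⟩, (φ.symm ⟨g, hg⟩).2, ?_⟩
    have := hconj (φ.symm ⟨g, hg⟩)
    rw [φ.apply_symm_apply] at this
    exact this.symm
  · rintro _ ⟨g, hg, rfl⟩
    show hP0u.unit * ρ g * hP0u.unit⁻¹ ∈ R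
    rw [← hconj ⟨g, hg⟩]
    exact (φ ⟨g, hg⟩).2

end Facts

end Cfsg.Agent.Forms.Max.SympNine.Std
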