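import Cfsg.Agent.Lib.Forms.Max.SympNine.Nrm
import Cfsg.Agent.Lib.PGroups.ExtraspecialIso

/-!
# The standard extraspecial group of order 243: order, centre, determinants and normaliser
-/

set_option autoImplicit false
set_option linter.unusedSectionVars false
set_option linter.style.haveILetI false

namespace Cfsg.Agent.Forms.Max.SympNine.Std

open Matrix Dot Cfsg.Agent.Forms.Max.SympNine
open scoped commutatorElement

local notation "X9" => ZMod 3 × ZMod 3

variable {F : Type*} [Field F] {ω : F}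

/-- the elements of the standard group -/
def el (hc : Cube F ω) (k : ZMod 3) (v : X9 × X9) : GL X9 F :=
  sg X9 (pow_ne_zero k.val hc.ne_zero) * wu hc.pow_three v

theorem el_val (hc : Cube F ω) (k : ZMod 3) (v : X9 × X9) :
    (el hc k v : Matrix X9 X9 F) = ω ^ k.val • wm ω v := by
  simp [el]

theorem el_mul (hc : Cube F ω) (k l : ZMod 3) (v w : X9 × X9) :
    el hc k v * el hc l w = el hc (k + l + sf v w) (v + w) := Units.ext (by
  rw [Units.val_mul, el_val, el_val, el_val, Matrix.smul_mul, Matrix.mul_smul, wm_mul hc.pow_three, smul_smul,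
    smul_smul, pow_val_add hc.pow_three, pow_val_add hc.pow_three, mul_assoc])

theorem el_zero (hc : Cube F ω) : el hc 0 0 = 1 := Units.ext (by simp [el_val])

theorem el_zero_left (hc : Cube F ω) (v : X9 × X9) : el hc 0 v = wu hc.pow_three v := Units.ext (by simp [el_val])

theorem el_inv (hc : Cube F ω) (k : ZMod 3) (v : X9 × X9) : (el hc k v)⁻¹ = el hc (-k) (-v) := by
  refine inv_eq_of_mul_eq_one_right ?_
  rw [el_mul]
  simp [el_zero]

theorem el_inj (hc : Cube F ω) : Function.Injective fun a : ZMod 3 × (X9 × X9) => el hc a.1 a.2 := by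
  rintro ⟨k, v⟩ ⟨l, w⟩ h
  have h' := congrArg (fun g : GL X9 F => (g : Matrix X9 X9 F)) h
  simp only [el_val] at h'
  have hk : ω ^ k.val ≠ 0 := pow_ne_zero _ hc.ne_zero
  have h'' : wm ω v = ((ω ^ k.val)⁻¹ * ω ^ l.val) • wm ω w := by rw [← smul_smul, ← h', inv_smul_smul₀ hk]
  obtain ⟨rfl, he⟩ := wm_inj hc h''
  rw [inv_mul_eq_one₀ hk] at he
  rw [hc.val_inj he]

/-- the standard group -/
def S0 (hc : Cube F ω) : Subgroup (GL X9 F) where
  carrier := Set.range fun a : ZMod 3 × (X9 × X9) => el hc a.1 a.2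
  one_mem' := ⟨(0, 0), el_zero hc⟩
  mul_mem' := by
    rintro _ _ ⟨a, rfl⟩ ⟨b, rfl⟩
    exact ⟨(a.1 + b.1 + sf a.2 b.2, a.2 + b.2), (el_mul hc a.1 b.1 a.2 b.2).symm⟩
  inv_mem' := by
    rintro _ ⟨a, rfl⟩
    exact ⟨(-a.1, -a.2), (el_inv hc a.1 a.2).symm⟩

theorem mem_S0 {hc : Cube F ω} {g : GL X9 F} : g ∈ S0 hc ↔ ∃ k v, el hc k v = g :=
  ⟨fun ⟨a, ha⟩ => ⟨a.1, a.2, ha⟩, fun ⟨k, v, h⟩ => ⟨(k, v), h⟩⟩

theorem el_mem (hc : Cube F ω) (k : ZMod 3) (v : X9 × X9) : el hc k v ∈ S0 hc := ⟨(k, v), rfl⟩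

theorem wu_mem_S0 (hc : Cube F ω) (v : X9 × X9) : wu hc.pow_three v ∈ S0 hc := el_zero_left hc v ▸ el_mem hc 0 v

instance finite_S0 (hc : Cube F ω) : Finite (S0 hc) := (Set.finite_range _).to_subtype

theorem card_S0 (hc : Cube F ω) : Nat.card (S0 hc) = 243 := by
  show Nat.card (Set.range fun a : ZMod 3 × (X9 × X9) => el hc a.1 a.2) = 243
  rw [Nat.card_range_of_injective (el_inj hc)]
  simp [Nat.card_prod, Nat.card_zmod]

theorem el_pow_three (hc : Cube F ω) (k : ZMod 3) (v : X9 × X9) : el hc k v ^ 3 = 1 := by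
  rw [pow_succ, pow_two, el_mul, el_mul, ← el_zero hc]
  congr 1
  · rw [sf_self, sf_add_left, sf_self]
    have : (3 : ZMod 3) = 0 := by decide
    linear_combination k * this
  · rw [two_nsmul_eq, neg_add_cancel]

theorem pow_three_S0 (hc : Cube F ω) (g : S0 hc) : g ^ 3 = 1 := by
  obtain ⟨k, v, h⟩ := mem_S0.1 g.2
  exact Subtype.ext (by rw [Subgroup.coe_pow, ← h, el_pow_three, Subgroup.coe_one])

theorem el_comm (hc : Cube F ω) (k l : ZMod 3) (v w : X9 × X9) :
    el hc k v * el hc l w = el hc (2 * sf v w) 0 * (el hc l w * el hc k v) := by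
  rw [el_mul, el_mul, el_mul, sf_swap v w, sf_zero_left, zero_add, add_comm v w]
  congr 1
  ring

/-- the centre is generated by the scalar -/
theorem es (hc : Cube F ω) : PGroups.ExtraspecialIso.ES 3 (⟨el hc 1 0, el_mem hc 1 0⟩ : S0 hc) := by
  set z : S0 hc := ⟨el hc 1 0, el_mem hc 1 0⟩ with hz
  have hzv : ∀ k : ZMod 3, (⟨el hc k 0, el_mem hc k 0⟩ : S0 hc) ∈ Subgroup.zpowers z := fun k => by
    refine ⟨(k.val : ℤ), Subtype.ext ?_⟩
    simp only [zpow_natCast, Subgroup.coe_pow, hz]
    rw [show el hc k 0 = el hc ((k.val : ℕ) : ZMod 3) 0 by rw [ZMod.natCast_zmod_val]]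
    induction k.val with
    | zero => simp [el_zero]
    | succ n ih => rw [pow_succ, ih, el_mul]; simp
  have hcen : ∀ k : ZMod 3, (⟨el hc k 0, el_mem hc k 0⟩ : S0 hc) ∈ Subgroup.center (S0 hc) := fun k => by
    refine Subgroup.mem_center_iff.2 fun g => Subtype.ext ?_
    obtain ⟨l, w, h⟩ := mem_S0.1 g.2
    simp only [Subgroup.coe_mul, ← h]
    rw [el_comm]
    simp [el_zero]
  refine ⟨?_, le_antisymm (fun g hg => ?_) (Subgroup.zpowers_le.2 (hcen 1)), fun x y => ?_, fun x => ?_⟩
  · refine @orderOf_eq_prime _ _ _ 3 ⟨Nat.prime_three⟩ (pow_three_S0 hc z) fun h => ?_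
    have := el_inj hc (a₁ := (1, 0)) (a₂ := (0, 0)) (by
      have h' : el hc 1 0 = 1 := congrArg Subtype.val h
      simpa [el_zero] using h')
    exact absurd this (by decide)
  · obtain ⟨k, v, h⟩ := mem_S0.1 g.2
    have hv : v = 0 := by
      by_contra hv
      obtain ⟨w, hw⟩ := sf_sep hv
      apply hw
      have e := congrArg Subtype.val (Subgroup.mem_center_iff.1 hg ⟨el hc 0 w, el_mem hc 0 w⟩)
      simp only [Subgroup.coe_mul, ← h] at e
      rw [el_comm hc k 0 v w] at e
      have e' : el hc (2 * sf v w) 0 = el hc 0 0 := by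
        rw [el_zero]
        exact mul_eq_right.1 e.symm
      have := (Prod.ext_iff.1 (el_inj hc (a₁ := (2 * sf v w, 0)) (a₂ := (0, 0)) e')).1
      revert this
      generalize sf v w = a
      revert a
      decide
    subst hv
    exact (show g = ⟨el hc k 0, el_mem hc k 0⟩ from Subtype.ext h.symm) ▸ hzv k
  · obtain ⟨k, v, hx⟩ := mem_S0.1 x.2
    obtain ⟨l, w, hy⟩ := mem_S0.1 y.2
    have e : ⁅x, y⁆ = (⟨el hc (2 * sf v w) 0, el_mem hc _ 0⟩ : S0 hc) := Subtype.ext (by
      rw [commutatorElement_def]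
      simp only [Subgroup.coe_mul, Subgroup.coe_inv, ← hx, ← hy]
      rw [el_comm hc k l v w]
      group)
    rw [e]
    exact hzv _
  · rw [pow_three_S0]
    exact one_mem _

theorem trace_el (hc : Cube F ω) (k : ZMod 3) {v : X9 × X9} (hv : v ≠ 0) :
    (el hc k v : Matrix X9 X9 F).trace = 0 := by
  obtain ⟨w, hw⟩ := sf_sep hv
  have e : (wu hc.pow_three w : Matrix X9 X9 F) * wm ω v * ((wu hc.pow_three w)⁻¹ : GL X9 F) =
      ω ^ (2 * sf w v).val • wm ω v := by
    rw [wu_val, wm_comm hc.pow_three w v, Matrix.smul_mul, Matrix.mul_assoc, ← wu_val hc.pow_three w,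
      Units.mul_inv, mul_one]
  have h := congrArg Matrix.trace e
  rw [Matrix.trace_units_conj, Matrix.trace_smul, smul_eq_mul] at h
  have hne : ω ^ (2 * sf w v).val ≠ 1 := fun h1 => by
    have h2 := hc.val_inj (a := 2 * sf w v) (b := 0) (by simpa using h1)
    rw [sf_swap v w] at h2
    revert hw h2
    generalize sf v w = a
    revert a
    decide
  have h0 : (wm ω v).trace = 0 := by
    by_contra hne'
    exact hne ((mul_eq_right₀ hne').1 h.symm)
  rw [el_val, Matrix.trace_smul, h0, smul_zero]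

/-! ### determinants -/

theorem det_ne (g : GL X9 F) : (g : Matrix X9 X9 F).det ≠ 0 :=
  ((Matrix.isUnit_iff_isUnit_det _).1 g.isUnit).ne_zero

theorem exists_sf_one {v : X9 × X9} (hv : v ≠ 0) : ∃ w, sf v w = 1 := by
  obtain ⟨w, hw⟩ := sf_sep hv
  refine ⟨sc (sf v w) w, ?_⟩
  rw [sf_sc_right]
  revert hw
  generalize sf v w = a
  revert a
  decide

theorem pow_nine (hc : Cube F ω) (a : ℕ) : (ω ^ a) ^ 9 = 1 := by
  rw [← pow_mul, mul_comm, show 9 = 3 * 3 from rfl, pow_mul, pow_mul, hc.pow_three, one_pow, one_pow]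

theorem det_wm (hc : Cube F ω) (v : X9 × X9) : (wm ω v).det = 1 := by
  rcases eq_or_ne v 0 with rfl | hv
  · simp
  obtain ⟨w, hw⟩ := exists_sf_one hv
  have e := congrArg Matrix.det (tm_wm hc v w)
  rw [Matrix.det_mul, Matrix.det_mul, mul_comm (wm ω (tv v w)).det] at e
  have ht : (tm ω ω v).det ≠ 0 := det_ne (tu hc v)
  have e1 := mul_left_cancel₀ ht e
  have e2 := congrArg Matrix.det (wm_mul hc.pow_three w v)
  rw [Matrix.det_mul, Matrix.det_smul] at e2
  simp only [Fintype.card_prod, ZMod.card, Nat.reduceMul, pow_nine hc, one_mul] at e2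
  rw [show tv v w = w + v by simp [tv, hw]] at e1
  rw [← e1] at e2
  have hw0 : (wm ω w).det ≠ 0 := det_ne (wu hc.pow_three w)
  exact (mul_eq_left₀ hw0).1 e2

theorem det_tm (hc : Cube F ω) (v : X9 × X9) : (tm ω ω v).det = 1 := by
  have h3 := hc.three
  have hbase : (tm ω ω (((0, 0), (1, 0)) : X9 × X9)).det = 1 := by
    have e : tm ω ω (((0, 0), (1, 0)) : X9 × X9) = Matrix.diagonal fun x : X9 => if x.1 = 0 then 1 else ω := by
      ext y x
      rcases eq_or_ne y x with rfl | hne
      · simp only [tm, Matrix.add_apply, Matrix.smul_apply, Matrix.one_apply_eq, Matrix.diagonal_apply_eq, wm,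
          Matrix.of_apply, Prod.neg_mk, neg_zero, Prod.mk_zero_zero, add_zero, if_true, smul_eq_mul]
        rcases zmod_three y.1 with h | h | h <;>
          simp [Dot.dot, h, show ZMod.val (1 : ZMod 3) = 1 from rfl, show ZMod.val (-1 : ZMod 3) = 2 from rfl,
            show (1 : ZMod 3) ≠ 0 by decide, show (-1 : ZMod 3) ≠ 0 by decide]
        · field_simp; ring
        · exact Or.inr (by linear_combination hc.sum)
        · exact Or.inr (by linear_combination hc.sum)
      · simp [tm, wm, hne, Matrix.one_apply, ← Prod.zero_eq_mk]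
    rw [e, Matrix.det_diagonal, Fintype.prod_prod_type]
    rw [show (Finset.univ : Finset (ZMod 3)) = {0, 1, -1} by decide]
    simp [show (1 : ZMod 3) ≠ 0 by decide, show (-1 : ZMod 3) ≠ 0 by decide, show (1 : ZMod 3) ≠ -1 by decide]
    linear_combination (ω ^ 3 + 1) * hc.pow_three
  rcases eq_or_ne v 0 with rfl | hv
  · have : tm ω ω (0 : X9 × X9) = 1 := by
      simp only [tm, neg_zero, wm_zero]
      rw [show (1 : Matrix X9 X9 F) + 1 + 1 = (3 : F) • 1 by
        rw [show (3 : F) = 1 + 1 + 1 by norm_num, add_smul, add_smul, one_smul]]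
      rw [smul_smul, div_mul_cancel₀ _ h3, ← add_smul, add_sub_cancel, one_smul]
    rw [this, Matrix.det_one]
  · rw [det_tu_const hc hv (w := (((0, 0), (1, 0)) : X9 × X9)) (by decide), hbase]

/-! ### the normaliser -/

/-- matrices permuting the lines of the operators are exactly those normalising the group -/
theorem mem_normalizer_iff (hc : Cube F ω) {g : GL X9 F} :
    g ∈ Subgroup.normalizer (S0 hc : Set (GL X9 F)) ↔ Nrm ω g := by
  constructor
  · intro hg v
    obtain ⟨k, w, h⟩ := mem_S0.1 ((Subgroup.mem_normalizer_iff.1 hg _).1 (wu_mem_S0 hc v))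
    refine ⟨w, ω ^ k.val, ?_⟩
    have h' : g * wu hc.pow_three v = el hc k w * g := by rw [h]; group
    have h'' := congrArg (fun x : GL X9 F => (x : Matrix X9 X9 F)) h'
    simpa [el_val] using h''
  · intro hg
    have key : ∀ {g : GL X9 F}, Nrm ω g → ∀ x ∈ S0 hc, g * x * g⁻¹ ∈ S0 hc := by
      intro g hg x hx
      obtain ⟨k, v, rfl⟩ := mem_S0.1 hx
      obtain ⟨w, c, e⟩ := hg v
      have e1 : ((g * wu hc.pow_three v * g⁻¹ : GL X9 F) : Matrix X9 X9 F) = c • wm ω w := by
        simp [e, Matrix.mul_assoc]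
      have hc3 : c ^ 3 = 1 := by
        have h1 : (g * wu hc.pow_three v * g⁻¹) ^ 3 = 1 := by
          rw [conj_pow, ← el_zero_left hc, el_pow_three, mul_one, mul_inv_cancel]
        have h2 := congrArg (fun x : GL X9 F => (x : Matrix X9 X9 F) 0 0) h1
        have h4 := congrArg (fun x : GL X9 F => (x : Matrix X9 X9 F)) (el_pow_three hc 0 w)
        rw [el_zero_left] at h4
        simp only [Units.val_pow_eq_pow_val, e1, smul_pow, Units.val_one] at h2
        simp only [Units.val_pow_eq_pow_val, wu_val, Units.val_one] at h4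
        rw [h4] at h2
        simpa using h2
      obtain ⟨j, hj⟩ : ∃ j : ZMod 3, c = ω ^ j.val := by
        have e : (c - 1) * ((c - ω) * (c - ω ^ 2)) = 0 := by
          linear_combination hc3 + (c - c ^ 2 + (ω - 1) * (c - 1)) * hc.sum
        rcases mul_eq_zero.1 e with e | e
        · exact ⟨0, by simpa using sub_eq_zero.1 e⟩
        · rcases mul_eq_zero.1 e with e | e
          · exact ⟨1, by rw [show ZMod.val (1 : ZMod 3) = 1 from rfl, pow_one]; exact sub_eq_zero.1 e⟩
          · exact ⟨-1, by rw [show ZMod.val (-1 : ZMod 3) = 2 from rfl]; exact sub_eq_zero.1 e⟩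
      have e2 : g * el hc k v * g⁻¹ = el hc (k + j) w := by
        refine Units.ext ?_
        rw [Units.val_mul, Units.val_mul, el_val, el_val, Matrix.mul_smul, Matrix.smul_mul, pow_val_add hc.pow_three,
          ← smul_smul, ← hj, ← e1]
        simp
      rw [e2]
      exact el_mem hc _ _
    refine Subgroup.mem_normalizer_iff.2 fun x => ⟨key hg x, fun hx => ?_⟩
    have := key (hg.inv hc) _ hx
    simpa [mul_assoc] using this

end Cfsg.Agent.Forms.Max.SympNine.Std
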