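import Cfsg.Agent.Lib.Forms.Max.SympNine.Nrm
import Cfsg.Agent.Lib.Forms.Max.SympNine.Plane
import Cfsg.Agent.Lib.Classical.UnitaryTwo
import Cfsg.Agent.Lib.Classical.UnitaryBasic

/-!
# Degree three: explicit matrices and the plane groups
-/

set_option autoImplicit false
set_option linter.unusedSectionVars false
set_option linter.style.haveILetI false

namespace Cfsg.Agent.Forms.Max.SympNine.Three

open Matrix
open scoped MatrixGroups

variable {F : Type*} [Field F]

/-- a matrix of degree three indexed by the integers modulo three -/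
def m3 (a b c d e f g h i : F) : Matrix (ZMod 3) (ZMod 3) F :=
  Matrix.of fun y x => !![a, b, c; d, e, f; g, h, i] y x

theorem forall_zmod {P : ZMod 3 → Prop} (h0 : P 0) (h1 : P 1) (h2 : P 2) : ∀ y, P y := by
  intro y
  match y with
  | 0 => exact h0
  | 1 => exact h1
  | 2 => exact h2

theorem sum_zmod {M : Type*} [AddCommMonoid M] (f : ZMod 3 → M) : ∑ x, f x = f 0 + f 1 + f 2 :=
  Fin.sum_univ_three f

section Entries

variable (a b c d e f g h i : F)

@[simp] theorem m3_00 : m3 a b c d e f g h i 0 0 = a := rfl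
@[simp] theorem m3_01 : m3 a b c d e f g h i 0 1 = b := rfl
@[simp] theorem m3_02 : m3 a b c d e f g h i 0 2 = c := rfl
@[simp] theorem m3_10 : m3 a b c d e f g h i 1 0 = d := rfl
@[simp] theorem m3_11 : m3 a b c d e f g h i 1 1 = e := rfl
@[simp] theorem m3_12 : m3 a b c d e f g h i 1 2 = f := rfl
@[simp] theorem m3_20 : m3 a b c d e f g h i 2 0 = g := rfl
@[simp] theorem m3_21 : m3 a b c d e f g h i 2 1 = h := rfl
@[simp] theorem m3_22 : m3 a b c d e f g h i 2 2 = i := rfl

end Entries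

theorem ext3 {M N : Matrix (ZMod 3) (ZMod 3) F} (h00 : M 0 0 = N 0 0) (h01 : M 0 1 = N 0 1) (h02 : M 0 2 = N 0 2)
    (h10 : M 1 0 = N 1 0) (h11 : M 1 1 = N 1 1) (h12 : M 1 2 = N 1 2)
    (h20 : M 2 0 = N 2 0) (h21 : M 2 1 = N 2 1) (h22 : M 2 2 = N 2 2) : M = N := by
  ext y x
  exact forall_zmod (P := fun y => M y x = N y x) (forall_zmod (P := fun x => M 0 x = N 0 x) h00 h01 h02 x)
    (forall_zmod (P := fun x => M 1 x = N 1 x) h10 h11 h12 x)
    (forall_zmod (P := fun x => M 2 x = N 2 x) h20 h21 h22 x) y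

theorem eta (M : Matrix (ZMod 3) (ZMod 3) F) :
    M = m3 (M 0 0) (M 0 1) (M 0 2) (M 1 0) (M 1 1) (M 1 2) (M 2 0) (M 2 1) (M 2 2) := by
  apply ext3 <;> simp

theorem one_eq : (1 : Matrix (ZMod 3) (ZMod 3) F) = m3 1 0 0 0 1 0 0 0 1 := by
  apply ext3 <;> simp [Matrix.one_apply] <;> decide

theorem m3_mul (a b c d e f g h i a' b' c' d' e' f' g' h' i' : F) :
    m3 a b c d e f g h i * m3 a' b' c' d' e' f' g' h' i' =
      m3 (a * a' + b * d' + c * g') (a * b' + b * e' + c * h') (a * c' + b * f' + c * i')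
        (d * a' + e * d' + f * g') (d * b' + e * e' + f * h') (d * c' + e * f' + f * i')
        (g * a' + h * d' + i * g') (g * b' + h * e' + i * h') (g * c' + h * f' + i * i') := by
  apply ext3 <;> simp [Matrix.mul_apply, sum_zmod]

theorem m3_smul (r a b c d e f g h i : F) :
    r • m3 a b c d e f g h i = m3 (r * a) (r * b) (r * c) (r * d) (r * e) (r * f) (r * g) (r * h) (r * i) := by
  apply ext3 <;> simp

theorem m3_map (φ : F → F) (a b c d e f g h i : F) :
    ((m3 a b c d e f g h i).map φ)ᵀ = m3 (φ a) (φ d) (φ g) (φ b) (φ e) (φ h) (φ c) (φ f) (φ i) := by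
  apply ext3 <;> simp

/-- a block matrix fixing the line of the first coordinate -/
def blk (α : F) (Y : Matrix (Fin 2) (Fin 2) F) : Matrix (ZMod 3) (ZMod 3) F :=
  m3 α 0 0 0 (Y 0 0) (Y 0 1) 0 (Y 1 0) (Y 1 1)

theorem blk_mul (α α' : F) (Y Y' : Matrix (Fin 2) (Fin 2) F) :
    blk α Y * blk α' Y' = blk (α * α') (Y * Y') := by
  simp only [blk, m3_mul]
  apply ext3 <;> simp [Matrix.mul_apply, Fin.sum_univ_two]

theorem blk_smul (r α : F) (Y : Matrix (Fin 2) (Fin 2) F) : r • blk α Y = blk (r * α) (r • Y) := by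
  simp only [blk, m3_smul]
  apply ext3 <;> simp

theorem blk_one : blk (1 : F) 1 = 1 := by
  rw [one_eq]; apply ext3 <;> simp [blk]

theorem blk_inj {α α' : F} {Y Y' : Matrix (Fin 2) (Fin 2) F} (h : blk α Y = blk α' Y') : α = α' ∧ Y = Y' := by
  refine ⟨by simpa [blk] using congrFun (congrFun h 0) 0, ?_⟩
  ext i j
  fin_cases i <;> fin_cases j
  · simpa [blk] using congrFun (congrFun h 1) 1
  · simpa [blk] using congrFun (congrFun h 1) 2
  · simpa [blk] using congrFun (congrFun h 2) 1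
  · simpa [blk] using congrFun (congrFun h 2) 2

/-- a matrix commuting with the inversion, from its action on the two eigenspaces -/
def cs (ν : F) (Y : Matrix (Fin 2) (Fin 2) F) (m : F) : Matrix (ZMod 3) (ZMod 3) F :=
  m3 (Y 0 0) (Y 0 1 / (2 * ν)) (Y 0 1 / (2 * ν))
    (ν * Y 1 0) ((Y 1 1 + m) / 2) ((Y 1 1 - m) / 2)
    (ν * Y 1 0) ((Y 1 1 - m) / 2) ((Y 1 1 + m) / 2)

variable {ν : F}

theorem cs_mul (h2 : (2 : F) ≠ 0) (hν : ν ≠ 0) (Y Y' : Matrix (Fin 2) (Fin 2) F) (m m' : F) :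
    cs ν Y m * cs ν Y' m' = cs ν (Y * Y') (m * m') := by
  simp only [cs, m3_mul]
  apply ext3 <;> simp [Matrix.mul_apply, Fin.sum_univ_two] <;> field_simp <;> ring

theorem cs_smul (r : F) (Y : Matrix (Fin 2) (Fin 2) F) (m : F) :
    r • cs ν Y m = cs ν (r • Y) (r * m) := by
  simp only [cs, m3_smul]
  apply ext3 <;> simp <;> ring

theorem cs_one (h2 : (2 : F) ≠ 0) : cs ν 1 1 = 1 := by
  rw [one_eq]
  apply ext3 <;> simp [cs] <;> field_simp <;> ring

theorem cs_inj (h2 : (2 : F) ≠ 0) (hν : ν ≠ 0) {Y Y' : Matrix (Fin 2) (Fin 2) F} {m m' : F}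
    (h : cs ν Y m = cs ν Y' m') : Y = Y' ∧ m = m' := by
  have h00 := congrFun (congrFun h 0) 0
  have h01 := congrFun (congrFun h 0) 1
  have h10 := congrFun (congrFun h 1) 0
  have h11 := congrFun (congrFun h 1) 1
  have h12 := congrFun (congrFun h 1) 2
  simp only [cs, m3_00, m3_01, m3_10, m3_11, m3_12] at h00 h01 h10 h11 h12
  field_simp at h01 h11 h12
  refine ⟨?_, mul_left_cancel₀ h2 (by linear_combination h11 - h12)⟩
  ext i j
  fin_cases i <;> fin_cases j <;> simp only [Fin.isValue, Fin.zero_eta, Fin.mk_one]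
  · exact h00
  · exact h01
  · exact mul_left_cancel₀ hν h10
  · exact mul_left_cancel₀ h2 (by linear_combination h11 + h12)

theorem jm_eq : (jm : Matrix (ZMod 3) (ZMod 3) F) = m3 1 0 0 0 0 1 0 1 0 := by
  apply ext3 <;> simp [jm] <;> decide

theorem eq_cs (h2 : (2 : F) ≠ 0) (hν : ν ≠ 0) {M : Matrix (ZMod 3) (ZMod 3) F} (h : M * jm = jm * M) :
    M = cs ν !![M 0 0, 2 * ν * M 0 1; M 1 0 / ν, M 1 1 + M 1 2] (M 1 1 - M 1 2) := by
  rw [eta M, jm_eq, m3_mul, m3_mul] at h
  have e01 := congrFun (congrFun h 0) 1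
  have e10 := congrFun (congrFun h 1) 0
  have e11 := congrFun (congrFun h 1) 1
  have e12 := congrFun (congrFun h 1) 2
  simp at e01 e10 e11 e12
  apply ext3 <;> simp [cs] <;> field_simp <;>
    first
      | (ring; done)
      | linear_combination e01
      | linear_combination -e01
      | linear_combination e10
      | linear_combination -e10
      | linear_combination e11
      | linear_combination -e11
      | linear_combination e12
      | linear_combination -e12
      | linear_combination 2 * e11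
      | linear_combination -2 * e11
      | linear_combination 2 * e12
      | linear_combination -2 * e12
      | linear_combination 2 * e01
      | linear_combination -2 * e01
      | linear_combination (2 * ν) * e01
      | linear_combination (-2 * ν) * e01

/-- the kernel elements -/
def kap (lam : F) : Matrix (ZMod 3) (ZMod 3) F :=
  m3 lam 0 0 0 ((lam + 1) / 2) ((lam - 1) / 2) 0 ((lam - 1) / 2) ((lam + 1) / 2)

theorem kap_eq_cs (lam : F) : kap lam = cs ν (lam • (1 : Matrix (Fin 2) (Fin 2) F)) 1 := by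
  apply ext3 <;> simp [kap, cs]

theorem kap_mul (h2 : (2 : F) ≠ 0) (a b : F) : kap a * kap b = kap (a * b) := by
  rw [kap_eq_cs (ν := (1 : F)) a, kap_eq_cs (ν := (1 : F)) b, cs_mul h2 one_ne_zero, kap_eq_cs (ν := (1 : F))]
  simp [smul_smul, mul_comm]

theorem kap_one (h2 : (2 : F) ≠ 0) : kap (1 : F) = 1 := by
  rw [kap_eq_cs (ν := (1 : F)), one_smul, cs_one h2]

theorem kap_neg_one (h2 : (2 : F) ≠ 0) : kap (-1 : F) = -jm := by
  rw [jm_eq]
  apply ext3 <;> simp [kap] <;> field_simp <;> ring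

variable [Fintype F] (A : Amb F)

/-- the plane group -/
noncomputable def PL : Subgroup SL(2, F) :=
  (A.Isom (Fin 2)).comap Matrix.SpecialLinearGroup.toGL

variable {A}

theorem mem_PL {Y : SL(2, F)} : Y ∈ PL A ↔ A.Pres (Y : Matrix (Fin 2) (Fin 2) F) := Iff.rfl

theorem neg_one_mem_PL : (-1 : SL(2, F)) ∈ PL A := by
  rw [mem_PL, Matrix.SpecialLinearGroup.coe_neg, Matrix.SpecialLinearGroup.coe_one, ← neg_one_smul F]
  exact A.pres_smul_one fun _ => by simp

theorem exists_phi.{u} {F : Type u} [Field F] [Fintype F] (A : Amb F) :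
    ∃ (K : Type u) (_ : Field K) (_ : Fintype K), Fintype.card K = A.p ∧ Nonempty (PL A ≃* SL(2, K)) := by
  rcases A.card with ⟨hu, hc, -⟩ | ⟨hu, hc, -⟩
  · refine ⟨F, inferInstance, inferInstance, hc, ⟨(MulEquiv.subgroupCongr ?_).trans Subgroup.topEquiv⟩⟩
    exact eq_top_iff.2 fun Y _ h => absurd h hu
  · haveI : Fintype (Classical.Unitary.fixField hc) := Fintype.ofFinite _
    have hK : Fintype.card (Classical.Unitary.fixField hc) = A.p := by
      rw [← Nat.card_eq_fintype_card, Classical.Unitary.natCard_fixField hc]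
    obtain ⟨e⟩ := Classical.Unitary.nonempty_SU_two_equiv hc (Classical.Unitary.fixField hc) hK
    refine ⟨_, inferInstance, inferInstance, hK, ⟨(MulEquiv.subgroupCongr ?_).trans e⟩⟩
    ext Y
    rw [mem_PL]
    have hiff := Classical.Unitary.preserves_iff hc (Y : Matrix (Fin 2) (Fin 2) F)
    have hbar : ((Y : Matrix (Fin 2) (Fin 2) F).map (Forms.HermStd.qHom hc)) = (Y : Matrix (Fin 2) (Fin 2) F).map A.bar := by
      ext i j
      simp [Forms.HermStd.qHom_apply, Amb.bar_apply]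
    rw [hbar] at hiff
    constructor
    · intro h
      refine hiff.2 ?_
      have := congrArg Matrix.transpose (h hu)
      rwa [Matrix.transpose_mul, Matrix.transpose_transpose, Matrix.transpose_one] at this
    · intro h _
      have := congrArg Matrix.transpose (hiff.1 h)
      rwa [Matrix.transpose_mul, Matrix.transpose_one] at this

theorem exists_nu (A : Amb F) (h : A.p ≠ 2) : ∃ ν : F, ν ≠ 0 ∧ (A.unit → A.bar ν * ν * 2 = 1) := by
  have h2 := A.two_ne h
  rcases A.card with ⟨hu, -, -⟩ | ⟨hu, hc, -⟩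
  · exact ⟨1, one_ne_zero, fun h => absurd h hu⟩
  · haveI := A.fact
    haveI := A.charP
    have hfix : ((2 : F)⁻¹) ^ A.p = (2 : F)⁻¹ := by
      rw [inv_pow]
      congr 1
      have : frobenius F A.p 2 = 2 := map_ofNat _ _
      exact this
    obtain ⟨x, hx⟩ := Classical.UnitaryCount.exists_norm_eq' hc hfix
    refine ⟨x, fun h0 => inv_ne_zero h2 ?_, fun _ => ?_⟩
    · rw [← hx, h0, zero_pow (by omega)]
    · rw [A.bar_apply, ← pow_succ, hx, inv_mul_cancel₀ h2]

theorem bar_cs (h2 : (2 : F) ≠ 0) (hu : A.unit) (hν0 : ν ≠ 0) (hν : A.bar ν * ν * 2 = 1)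
    (Y : Matrix (Fin 2) (Fin 2) F) (m : F) :
    ((cs ν Y m).map A.bar)ᵀ = cs ν ((Y.map A.bar)ᵀ) (A.bar m) := by
  simp only [cs, m3_map]
  have hb : A.bar ν = (2 * ν)⁻¹ := eq_inv_of_mul_eq_one_left (by linear_combination hν)
  apply ext3 <;> simp [map_add, map_sub, map_mul, map_div₀, map_ofNat, hb] <;> field_simp

theorem pres_of_cs (h2 : (2 : F) ≠ 0) (hν0 : ν ≠ 0) (hν : A.unit → A.bar ν * ν * 2 = 1)
    {Y : Matrix (Fin 2) (Fin 2) F} {m : F} (h : A.Pres (cs ν Y m)) :
    A.Pres Y ∧ (A.unit → A.bar m * m = 1) := by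
  have e : A.unit → (Y.map A.bar)ᵀ * Y = 1 ∧ A.bar m * m = 1 := fun hu => by
    have h' := h hu
    rw [bar_cs h2 hu hν0 (hν hu), cs_mul h2 hν0, ← cs_one (ν := ν) h2] at h'
    exact cs_inj h2 hν0 h'
  exact ⟨fun hu => (e hu).1, fun hu => (e hu).2⟩

theorem pres_of_smul {β : F} (hβ : A.Unim β) {Y : Matrix (Fin 2) (Fin 2) F} (h : A.Pres (β • Y)) :
    A.Pres Y := fun hu => by
  have e := h hu
  rw [show (β • Y).map A.bar = A.bar β • Y.map A.bar by ext a b; simp, Matrix.transpose_smul, Matrix.smul_mul,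
    Matrix.mul_smul, smul_smul, hβ.2 hu, one_smul] at e
  exact e

end Cfsg.Agent.Forms.Max.SympNine.Three
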