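import Mathlib

/-!
# Weyl operators of exponent three

The operators attached to a nondegenerate pairing with values in the integers modulo three, the
elements acting on them as symplectic transvections, and the symplectic group they realise.
-/

set_option autoImplicit false
set_option linter.unusedSectionVars false

namespace Cfsg.Agent.Forms.Max.SympNine

open Matrix

/-- a symmetric nondegenerate pairing with values in the integers modulo three -/
class Dot (X : Type) [AddCommGroup X] where
  dot : X → X → ZMod 3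
  dot_comm : ∀ x y, dot x y = dot y x
  dot_add : ∀ x y z, dot x (y + z) = dot x y + dot x z
  sep : ∀ x, x ≠ 0 → ∃ y, dot x y ≠ 0

instance : Dot (ZMod 3) where
  dot x y := x * y
  dot_comm := mul_comm
  dot_add := mul_add
  sep x hx := ⟨1, by simpa using hx⟩

instance : Dot (ZMod 3 × ZMod 3) where
  dot x y := x.1 * y.1 + x.2 * y.2
  dot_comm x y := by ring
  dot_add x y z := by simp [mul_add]; ring
  sep := by decide

variable {X : Type} [AddCommGroup X] [Fintype X] [DecidableEq X] [Dot X]

open Dot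

theorem add_dot (x y z : X) : dot (x + y) z = dot x z + dot y z := by
  rw [dot_comm, dot_add, dot_comm z x, dot_comm z y]

@[simp] theorem dot_zero (x : X) : dot x (0 : X) = 0 := by
  have := dot_add x (0 : X) 0; rw [add_zero] at this; exact left_eq_add.1 this

@[simp] theorem zero_dot (x : X) : dot (0 : X) x = 0 := by rw [dot_comm, dot_zero]

@[simp] theorem dot_neg (x y : X) : dot x (-y) = -dot x y :=
  eq_neg_of_add_eq_zero_left (by rw [← dot_add, neg_add_cancel, dot_zero])

@[simp] theorem neg_dot (x y : X) : dot (-x) y = -dot x y := by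
  rw [dot_comm, dot_neg, dot_comm]

/-- the alternating form -/
def sf (v w : X × X) : ZMod 3 := dot v.1 w.2 - dot v.2 w.1

@[simp] theorem sf_self (v : X × X) : sf v v = 0 := by simp [sf, dot_comm v.2]

theorem sf_swap (v w : X × X) : sf w v = -sf v w := by
  simp [sf, dot_comm w.1, dot_comm w.2]

theorem sf_add_right (v w u : X × X) : sf v (w + u) = sf v w + sf v u := by
  simp [sf, dot_add]; ring

theorem sf_add_left (v w u : X × X) : sf (v + w) u = sf v u + sf w u := by
  simp [sf, add_dot]; ring

@[simp] theorem sf_neg_right (v w : X × X) : sf v (-w) = -sf v w := by simp [sf]; ring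

@[simp] theorem sf_neg_left (v w : X × X) : sf (-v) w = -sf v w := by simp [sf]; ring

@[simp] theorem sf_zero_right (v : X × X) : sf v 0 = 0 := by simp [sf]

@[simp] theorem sf_zero_left (v : X × X) : sf 0 v = 0 := by simp [sf]

/-- multiples by integers modulo three -/
def sc (c : ZMod 3) (v : X × X) : X × X := if c = 0 then 0 else if c = 1 then v else -v

theorem zmod_three (c : ZMod 3) : c = 0 ∨ c = 1 ∨ c = -1 := by revert c; decide

@[simp] theorem sc_zero (v : X × X) : sc 0 v = 0 := by simp [sc]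
@[simp] theorem sc_one (v : X × X) : sc 1 v = v := by simp [sc]
@[simp] theorem sc_neg_one (v : X × X) : sc (-1) v = -v := by
  simp [sc, show (-1 : ZMod 3) ≠ 0 by decide, show (-1 : ZMod 3) ≠ 1 by decide]

theorem sf_sc_right (c : ZMod 3) (v w : X × X) : sf v (sc c w) = c * sf v w := by
  rcases zmod_three c with rfl | rfl | rfl <;> simp

theorem sf_sep {v : X × X} (hv : v ≠ 0) : ∃ w, sf v w ≠ 0 := by
  obtain ⟨a, b⟩ := v
  by_cases ha : a = 0
  · obtain ⟨y, hy⟩ := sep b (fun hb => hv (by simp [ha, hb]))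
    exact ⟨(y, 0), by simpa [sf] using hy⟩
  · obtain ⟨y, hy⟩ := sep a ha
    exact ⟨(0, y), by simpa [sf] using hy⟩

variable {F : Type*} [Field F]

/-- the phase -/
def psi {ω : F} (hω : ω ^ 3 = 1) : AddChar (ZMod 3) F := AddChar.zmodChar 3 hω

variable {ω : F}

/-- a Weyl operator: translation by the first part times a phase -/
def wm (ω : F) (v : X × X) : Matrix X X F :=
  Matrix.of fun y x => if y = x + v.1 then ω ^ (dot v.2 x + 2 * dot v.1 v.2).val else 0

theorem pow_val_add (hω : ω ^ 3 = 1) (a b : ZMod 3) : ω ^ (a + b).val = ω ^ a.val * ω ^ b.val := by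
  rw [← pow_add, ZMod.val_add, ← pow_eq_pow_mod _ hω]

theorem wm_mul (hω : ω ^ 3 = 1) (v w : X × X) :
    wm ω v * wm ω w = ω ^ (sf v w).val • wm ω (v + w) := by
  ext y x
  rw [Matrix.mul_apply, Finset.sum_eq_single (x + w.1) (fun z _ hz => by simp [wm, hz]) (by simp)]
  simp only [wm, Matrix.of_apply, if_true, Matrix.smul_apply, smul_eq_mul, Prod.fst_add, Prod.snd_add]
  rw [show x + (v.1 + w.1) = x + w.1 + v.1 by abel]
  split_ifs with h
  · rw [← pow_val_add hω, ← pow_val_add hω]
    congr 2
    simp only [sf, dot_add, add_dot, dot_comm w.1 v.2]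
    have h3 : (3 : ZMod 3) = 0 := by decide
    linear_combination (-(dot v.1 w.2)) * h3
  · simp

@[simp] theorem wm_zero : wm ω (0 : X × X) = 1 := by
  ext y x
  simp [wm, Matrix.one_apply]

theorem wm_mul_neg (hω : ω ^ 3 = 1) (v : X × X) : wm ω v * wm ω (-v) = 1 := by
  simp [wm_mul hω]

theorem wm_neg_mul (hω : ω ^ 3 = 1) (v : X × X) : wm ω (-v) * wm ω v = 1 := by
  simp [wm_mul hω]

theorem wm_comm (hω : ω ^ 3 = 1) (v w : X × X) :
    wm ω v * wm ω w = ω ^ (2 * sf v w).val • (wm ω w * wm ω v) := by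
  rw [wm_mul hω, wm_mul hω, add_comm w v, smul_smul, ← pow_val_add hω, sf_swap v w]
  congr 2
  ring

/-- the Weyl operator as an invertible matrix -/
def wu (hω : ω ^ 3 = 1) (v : X × X) : GL X F :=
  ⟨wm ω v, wm ω (-v), wm_mul_neg hω v, wm_neg_mul hω v⟩

@[simp] theorem wu_val (hω : ω ^ 3 = 1) (v : X × X) : (wu hω v : Matrix X X F) = wm ω v := rfl

/-- the coordinate inversion -/
def jm : Matrix X X F := Matrix.of fun y x => if y = -x then 1 else 0

theorem jm_sq : jm * jm = (1 : Matrix X X F) := by
  ext y x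
  rw [Matrix.mul_apply, Finset.sum_eq_single (-x) (fun z _ hz => by simp [jm, hz]) (by simp)]
  simp [jm, Matrix.one_apply]

theorem jm_wm (v : X × X) : (jm : Matrix X X F) * wm ω v = wm ω (-v) * jm := by
  ext y x
  rw [Matrix.mul_apply, Finset.sum_eq_single (x + v.1) (fun z _ hz => by simp [wm, hz]) (by simp),
    Matrix.mul_apply, Finset.sum_eq_single (-x) (fun z _ hz => by simp [jm, hz]) (by simp)]
  simp only [jm, wm, Matrix.of_apply, if_true, Prod.fst_neg, Prod.snd_neg, neg_add]
  simp only [neg_dot, dot_neg, neg_neg, ite_mul, one_mul, zero_mul, mul_one]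

/-- the coordinate inversion as an invertible matrix -/
def ju : GL X F := ⟨jm, jm, jm_sq, jm_sq⟩

@[simp] theorem ju_val : ((ju : GL X F) : Matrix X X F) = jm := rfl

/-- a matrix carrying the operators along a map of their labels -/
def Acts (ω : F) (g : Matrix X X F) (σ : X × X → X × X) : Prop :=
  ∀ v, g * wm ω v = wm ω (σ v) * g

theorem Acts.mul {g h : Matrix X X F} {σ τ : X × X → X × X} (hg : Acts ω g σ) (hh : Acts ω h τ) :
    Acts ω (g * h) (σ ∘ τ) := fun v => by
  rw [Matrix.mul_assoc, hh v, ← Matrix.mul_assoc, hg (τ v), Matrix.mul_assoc, Function.comp_apply]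

theorem acts_one : Acts ω (1 : Matrix X X F) id := fun v => by simp

theorem acts_jm : Acts ω (jm : Matrix X X F) Neg.neg := jm_wm

theorem Acts.smul {g : Matrix X X F} {σ : X × X → X × X} (hg : Acts ω g σ) (c : F) :
    Acts ω (c • g) σ := fun v => by rw [Matrix.smul_mul, hg v, Matrix.mul_smul]

/-- the transvection element -/
def tm (ω r : F) (v : X × X) : Matrix X X F :=
  r • 1 + ((1 - r) / 3) • (1 + wm ω v + wm ω (-v))

theorem three_ne_zero' (hs : ω ^ 2 + ω + 1 = 0) (h1 : ω ≠ 1) : (3 : F) ≠ 0 := by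
  intro h
  apply h1
  have : (ω - 1) ^ 2 = 0 := by linear_combination hs - ω * h
  exact sub_eq_zero.1 (eq_zero_of_pow_eq_zero this)

theorem three_eq_zero_of (v : X × X) (h3 : ∀ x : X, x + x + x = 0) : v + v = -v := by
  refine eq_neg_of_add_eq_zero_left ?_
  ext <;> simp [h3]

/-- the facts about the root of unity used throughout -/
structure Cube (F : Type*) [Field F] (ω : F) : Prop where
  sum : ω ^ 2 + ω + 1 = 0
  three : (3 : F) ≠ 0

theorem Cube.pow_three (hc : Cube F ω) : ω ^ 3 = 1 := by linear_combination (ω - 1) * hc.sum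

theorem Cube.ne_one (hc : Cube F ω) : ω ≠ 1 := fun h => hc.three (by
  have := hc.sum; rw [h] at this; linear_combination this)

theorem Cube.sq_ne_one (hc : Cube F ω) : ω ^ 2 ≠ 1 := fun h => hc.ne_one (by
  linear_combination hc.pow_three - ω * h)

theorem Cube.ne_zero (hc : Cube F ω) : ω ≠ 0 := fun h => by
  have := hc.pow_three; rw [h] at this; simp at this

theorem Cube.val_inj (hc : Cube F ω) {a b : ZMod 3} (h : ω ^ a.val = ω ^ b.val) : a = b := by
  have h1 := hc.ne_one
  have h2 := hc.sq_ne_one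
  have h3 : ω ≠ ω ^ 2 := fun e => h1 (mul_right_cancel₀ hc.ne_zero (by linear_combination -e))
  rcases zmod_three a with rfl | rfl | rfl <;> rcases zmod_three b with rfl | rfl | rfl <;>
    first
      | rfl
      | (exfalso; simp only [show ZMod.val (-1 : ZMod 3) = 2 from rfl, show ZMod.val (1 : ZMod 3) = 1 from rfl, ZMod.val_zero, pow_zero, pow_one] at h;
         first | exact h1 h | exact h1 h.symm | exact h2 h | exact h2 h.symm | exact h3 h | exact h3 h.symm)

class Exp3 (X : Type) [AddCommGroup X] : Prop where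
  add3 : ∀ x : X, x + x + x = 0

instance : Exp3 (ZMod 3) := ⟨by decide⟩
instance : Exp3 (ZMod 3 × ZMod 3) := ⟨by decide⟩

variable [Exp3 X]

theorem two_nsmul_eq (v : X × X) : v + v = -v := three_eq_zero_of v Exp3.add3

theorem tm_mul (hc : Cube F ω) (r s : F) (v : X × X) : tm ω r v * tm ω s v = tm ω (r * s) v := by
  have hvv : wm ω v * wm ω v = wm ω (-v) := by simp [wm_mul hc.pow_three, two_nsmul_eq]
  have hnn : wm ω (-v) * wm ω (-v) = wm ω v := by simp [wm_mul hc.pow_three, two_nsmul_eq]
  set P : Matrix X X F := 1 + wm ω v + wm ω (-v) with hP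
  have hPP : P * P = (3 : F) • P := by
    simp only [hP, add_mul, mul_add, one_mul, mul_one, hvv, hnn, wm_mul_neg hc.pow_three,
      wm_neg_mul hc.pow_three]
    rw [show (3 : F) = 1 + 1 + 1 by norm_num, add_smul, add_smul, one_smul]
    abel
  simp only [tm, ← hP, add_mul, mul_add, Matrix.smul_mul, Matrix.mul_smul, one_mul, mul_one, hPP,
    smul_smul]
  rw [add_assoc, ← add_smul, ← add_smul]
  have h3 := hc.three
  congr 2 <;> field_simp
  ring

theorem tm_one (v : X × X) : tm ω 1 v = (1 : Matrix X X F) := by simp [tm]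

/-- the transvection element as an invertible matrix -/
def tu (hc : Cube F ω) (v : X × X) : GL X F :=
  ⟨tm ω ω v, tm ω (ω ^ 2) v,
    by rw [tm_mul hc, show ω * ω ^ 2 = 1 by linear_combination hc.pow_three, tm_one],
    by rw [tm_mul hc, show ω ^ 2 * ω = 1 by linear_combination hc.pow_three, tm_one]⟩

@[simp] theorem tu_val (hc : Cube F ω) (v : X × X) : (tu hc v : Matrix X X F) = tm ω ω v := rfl

/-- the transvection on labels -/
def tv (v w : X × X) : X × X := w + sc (sf v w) v

theorem tm_wm (hc : Cube F ω) (v : X × X) : Acts ω (tm ω ω v) (tv v) := fun w => by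
  have h3 := hc.three
  set κ := (1 - ω) / 3 with hκ
  have e1 : ω + κ = κ * ω := by
    rw [hκ]; field_simp; linear_combination hc.sum
  have e2 : κ * ω = κ + ω := by rw [← e1, add_comm]
  have hlhs : tm ω ω v * wm ω w = (ω + κ) • wm ω w + (κ * ω ^ (sf v w).val) • wm ω (v + w) +
      (κ * ω ^ (-sf v w).val) • wm ω (-v + w) := by
    simp only [tm, ← hκ, add_mul, Matrix.smul_mul, one_mul, wm_mul hc.pow_three, sf_neg_left,
      smul_add, smul_smul, add_smul]
    abel
  have hrhs : ∀ u, wm ω u * tm ω ω v = (ω + κ) • wm ω u + (κ * ω ^ (sf u v).val) • wm ω (u + v) +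
      (κ * ω ^ (-sf u v).val) • wm ω (u + -v) := fun u => by
    simp only [tm, ← hκ, mul_add, Matrix.mul_smul, mul_one, wm_mul hc.pow_three, sf_neg_right,
      smul_add, smul_smul, add_smul]
    abel
  rw [hlhs, hrhs, sf_swap v (tv v w), tv, sf_add_right, sf_sc_right, sf_self, mul_zero, add_zero]
  have v1 : ZMod.val (1 : ZMod 3) = 1 := rfl
  have v2 : ZMod.val (-1 : ZMod 3) = 2 := rfl
  have hvv := two_nsmul_eq v
  rcases zmod_three (sf v w) with h | h | h
  · simp [h, add_comm v w, add_comm (-v) w]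
  · rw [h]
    simp only [sc_one, neg_neg, v1, v2, pow_one, e1]
    rw [show w + v + v = -v + w by rw [add_assoc, hvv, add_comm],
      show w + v + -v = w by abel, add_comm v w]
    abel
  · rw [h]
    simp only [sc_neg_one, neg_neg, v1, v2, pow_one, e1]
    rw [show w + -v + v = w by abel,
      show w + -v + -v = v + w by rw [add_assoc, ← neg_add, hvv, neg_neg, add_comm], add_comm (-v) w]
    abel

theorem Cube.eq_zero_of_smul (hc : Cube F ω) {g : Matrix X X F}
    (hd : ∀ b, g * wm ω (0, b) = wm ω (0, b) * g) {y x : X} (hyx : y ≠ x) : g y x = 0 := by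
  obtain ⟨b, hb⟩ := sep (y - x) (sub_ne_zero.2 hyx)
  have e := congrFun (congrFun (hd b) y) x
  rw [Matrix.mul_apply, Finset.sum_eq_single x (fun z _ hz => by simp [wm, hz]) (by simp),
    Matrix.mul_apply, Finset.sum_eq_single y (fun z _ hz => by simp [wm, Ne.symm hz]) (by simp)] at e
  simp only [wm, Matrix.of_apply, add_zero, if_true, zero_dot, mul_zero] at e
  by_contra h
  have hv : ω ^ (dot b x).val = ω ^ (dot b y).val := mul_left_cancel₀ h (by rw [e, mul_comm])
  apply hb
  rw [dot_comm, sub_eq_add_neg, dot_add, dot_neg, hc.val_inj hv, add_neg_cancel]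

theorem scalar_of_comm (hc : Cube F ω) {g : Matrix X X F}
    (h : ∀ v, g * wm ω v = wm ω v * g) : g = g 0 0 • 1 := by
  ext y x
  by_cases hyx : y = x
  · subst hyx
    have e := congrFun (congrFun (h (y, 0)) y) 0
    rw [Matrix.mul_apply, Finset.sum_eq_single y (fun z _ hz => by simp [wm, hz]) (by simp),
      Matrix.mul_apply, Finset.sum_eq_single 0 (fun z _ hz => ?_) (by simp)] at e
    · simpa [wm] using e
    · have hne : y ≠ z + y := fun he => hz (by simpa using he)
      simp [wm, hne]
  · simp [hc.eq_zero_of_smul (fun b => h (0, b)) hyx, hyx]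

theorem Acts.unique (hc : Cube F ω) {g h : GL X F} {σ : X × X → X × X}
    (hg : Acts ω (g : Matrix X X F) σ) (hh : Acts ω (h : Matrix X X F) σ) :
    ∃ c : F, (g : Matrix X X F) = c • (h : Matrix X X F) := by
  refine ⟨((h⁻¹ * g : GL X F) : Matrix X X F) 0 0, ?_⟩
  have hs := scalar_of_comm hc (g := ((h⁻¹ * g : GL X F) : Matrix X X F)) fun v => by
    rw [Units.val_mul, Matrix.mul_assoc, hg v, ← Matrix.mul_assoc, ← Matrix.mul_assoc]
    congr 1
    calc ((h⁻¹ : GL X F) : Matrix X X F) * wm ω (σ v)
        = ((h⁻¹ : GL X F) : Matrix X X F) * (wm ω (σ v) * (h : Matrix X X F)) *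
            ((h⁻¹ : GL X F) : Matrix X X F) := by simp [Matrix.mul_assoc]
      _ = _ := by rw [← hh v, ← Matrix.mul_assoc, Units.inv_mul, one_mul]
  calc (g : Matrix X X F) = (h : Matrix X X F) * ((h⁻¹ * g : GL X F) : Matrix X X F) := by
        rw [Units.val_mul, ← Matrix.mul_assoc, Units.mul_inv, one_mul]
    _ = _ := by rw [hs]; simp

end Cfsg.Agent.Forms.Max.SympNine
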